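import Cfsg.Agent.Linear.Perfect
import Cfsg.Agent.Forms.UnitaryOrder

/-!
# The order and the centre of `SU` and `PSU`
-/

set_option autoImplicit false

namespace CfsgLib.Forms4

open Matrix CfsgLib.Forms

variable {F : Type*} [Field F] [Fintype F] {q n : ℕ}

omit [Fintype F] in
theorem mem_SU_iff {g : Matrix.SpecialLinearGroup (Fin n) F} :
    g ∈ Cfsg.SU n F q ↔
      ∀ u v, Cfsg.hermForm n F q (g.1 *ᵥ u) (g.1 *ᵥ v) = Cfsg.hermForm n F q u v := Iff.rfl

/-- `(q+1) |SU_n| = |GU_n|`. -/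
theorem card_SU_mul_GU (hF : Fintype.card F = q ^ 2) (hn : 1 ≤ n) :
    (q + 1) * Nat.card (Cfsg.SU n F q) = Nat.card (Cfsg.GU n F q) := by
  obtain ⟨σ, hσ, hσ2⟩ := CfsgLib.FieldEmb.exists_conj hF
  have h := card_stab_SU_mul hF hσ hσ2 hn (⊥ : Submodule F (Fin n → F)) (fun a ha b _ => by
    rw [(Submodule.mem_bot F).1 ha]; simp)
  have h1 : stabSubmodule (hermSesq σ n) (⊥ : Submodule F (Fin n → F)) = ⊤ := by
    rw [eq_top_iff]
    intro g _ x
    simp
  have h2 : (Cfsg.stabilizing (Cfsg.slToMat n F) ((⊥ : Submodule F (Fin n → F)) :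
      Set (Fin n → F))).subgroupOf (Cfsg.SU n F q) = ⊤ := by
    rw [eq_top_iff]
    intro g _
    rw [Subgroup.mem_subgroupOf]
    intro x
    rw [SetLike.mem_coe, SetLike.mem_coe, Submodule.mem_bot, Submodule.mem_bot]
    refine ⟨fun hx => by rw [hx, Matrix.mulVec_zero], fun hx => ?_⟩
    have h3 := congrArg (fun y => (g.1⁻¹).1 *ᵥ y) hx
    simp only [Matrix.mulVec_zero] at h3
    rw [Matrix.mulVec_mulVec] at h3
    have h4 : (g.1⁻¹).1 * (Cfsg.slToMat n F g.1) = 1 := by
      change ((g.1⁻¹ * g.1 : Matrix.SpecialLinearGroup (Fin n) F)).1 = 1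
      rw [inv_mul_cancel]
      rfl
    rwa [h4, Matrix.one_mulVec] at h3
  rw [h1, h2, Subgroup.card_top, Subgroup.card_top] at h
  rw [h, Nat.card_congr (guEquivIso hσ n).toEquiv]

/-- A signed transposition. -/
def signedSwap {i j : Fin n} (hij : i ≠ j) : Matrix.SpecialLinearGroup (Fin n) F :=
  Matrix.SpecialLinearGroup.transvection hij 1 *
    Matrix.SpecialLinearGroup.transvection hij.symm (-1) *
    Matrix.SpecialLinearGroup.transvection hij 1

omit [Fintype F] in
theorem signedSwap_mulVec {i j : Fin n} (hij : i ≠ j) (w : Fin n → F) (_k : Fin n) :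
    (signedSwap (F := F) hij).1 *ᵥ w = fun k => if k = i then w j else if k = j then -w i else w k := by
  funext k
  simp only [signedSwap, Matrix.SpecialLinearGroup.coe_mul, ← Matrix.mulVec_mulVec,
    CfsgLib.Linear.transvection_smul_apply, if_neg hij.symm]
  by_cases hi : k = i
  · subst hi
    simp only [↓reduceIte, if_neg hij]
    ring
  · by_cases hj : k = j
    · subst hj
      simp only [↓reduceIte, if_neg hi]
      ring
    · simp [hi, hj]

theorem q_facts (hF : Fintype.card F = q ^ 2) : 2 ≤ q ∧ (-1 : F) ^ (q + 1) = 1 := by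
  refine ⟨two_le_q hF, ?_⟩
  rcases Nat.even_or_odd q with ⟨k, hk⟩ | ⟨k, hk⟩
  · have h2 : ringChar F = 2 := by
      refine FiniteField.even_card_iff_char_two.2 ?_
      rw [hF, hk, sq]
      exact Nat.mod_eq_zero_of_dvd ⟨(k + k) * k, by ring⟩ |> id
    have : CharP F 2 := ringChar.of_eq h2
    rw [CharTwo.neg_eq, one_pow]
  · exact (show Even (q + 1) from ⟨k + 1, by omega⟩).neg_one_pow

theorem signedSwap_mem_SU (hF : Fintype.card F = q ^ 2) {i j : Fin n} (hij : i ≠ j) :
    signedSwap hij ∈ Cfsg.SU n F q := by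
  rw [mem_SU_iff]
  intro u v
  rw [signedSwap_mulVec hij u i, signedSwap_mulVec hij v i]
  simp only [Cfsg.hermForm]
  refine Fintype.sum_bijective (Equiv.swap i j) (Equiv.bijective _) _ _ fun k => ?_
  by_cases hi : k = i
  · simp [hi]
  · by_cases hj : k = j
    · subst hj
      simp only [if_neg hi, ↓reduceIte, Equiv.swap_apply_right]
      rw [neg_pow (v i)]
      have h := (q_facts hF).2
      rw [pow_succ] at h
      linear_combination (u i * v i ^ q) * h
    · simp [hi, hj, Equiv.swap_apply_of_ne_of_ne hi hj]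

omit [Fintype F] in
theorem diag2n_mem_SU {i j : Fin n} (hij : i ≠ j) {c : F} (hc : c ≠ 0) (hcq : c ^ (q + 1) = 1) :
    Matrix.SpecialLinearGroup.diag2n hij c hc ∈ Cfsg.SU n F q := by
  rw [mem_SU_iff]
  intro u v
  simp only [Cfsg.hermForm, Matrix.SpecialLinearGroup.diag2n_coe, Matrix.mulVec_diagonal]
  refine Finset.sum_congr rfl fun k _ => ?_
  rw [mul_pow, mul_mul_mul_comm]
  have hcq' : c⁻¹ ^ (q + 1) = 1 := by rw [inv_pow, hcq, inv_one]
  split_ifs
  · rw [← pow_succ', hcq, one_mul]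
  · rw [← pow_succ', hcq', one_mul]
  · rw [one_pow, one_mul, one_mul]

theorem exists_norm_one_sq_ne_one (hF : Fintype.card F = q ^ 2) :
    ∃ c : F, c ≠ 0 ∧ c ^ (q + 1) = 1 ∧ c ^ 2 ≠ 1 := by
  classical
  have hq := two_le_q hF
  by_contra h
  push Not at h
  have h1 := card_norm_fiber hF 1 one_ne_zero (one_pow q)
  have h2 : Nat.card {x : F // x ^ (q + 1) = 1} ≤ 2 := by
    rw [Nat.card_eq_fintype_card, Fintype.card_subtype]
    refine le_trans (Finset.card_le_card (t := ({1, -1} : Finset F)) fun x hx => ?_)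
      Finset.card_le_two
    rw [Finset.mem_filter] at hx
    have hx0 : x ≠ 0 := fun h0 => by rw [h0, zero_pow (by omega)] at hx; exact zero_ne_one hx.2
    rw [Finset.mem_insert, Finset.mem_singleton]
    exact sq_eq_one_iff.1 (h x hx0 hx.2)
  omega

/-- Central elements of `SU_n` are scalar (`n ≥ 2`). -/
theorem exists_scalar_of_mem_center (hF : Fintype.card F = q ^ 2) (hn : 2 ≤ n)
    {A : Cfsg.SU n F q} (hA : A ∈ Subgroup.center (Cfsg.SU n F q)) :
    ∃ r : F, A.1.1 = r • 1 := by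
  obtain ⟨c, hc0, hcq, hc2⟩ := exists_norm_one_sq_ne_one hF
  have hcomm : ∀ B : Cfsg.SU n F q, B.1.1 * A.1.1 = A.1.1 * B.1.1 := fun B =>
    congrArg (fun g : Cfsg.SU n F q => g.1.1) (Subgroup.mem_center_iff.1 hA B)
  have hoff : ∀ i j, i ≠ j → A.1.1 i j = 0 := by
    intro i j hij
    have h := congrFun (congrFun (hcomm ⟨_, diag2n_mem_SU hij hc0 hcq⟩) i) j
    simp only [Matrix.SpecialLinearGroup.diag2n_coe, Matrix.diagonal_mul, Matrix.mul_diagonal,
      if_neg hij.symm, ↓reduceIte] at h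
    by_contra h0
    apply hc2
    rw [mul_comm] at h
    have := mul_left_cancel₀ h0 h
    rw [sq]
    calc c * c = c * c⁻¹ := by rw [← this]
      _ = 1 := mul_inv_cancel₀ hc0
  refine ⟨A.1.1 ⟨0, by omega⟩ ⟨0, by omega⟩, ?_⟩
  ext i j
  by_cases hij : i = j
  · subst hij
    rw [Matrix.smul_apply, Matrix.one_apply_eq, smul_eq_mul, mul_one]
    by_cases h0 : i = ⟨0, by omega⟩
    · rw [h0]
    · have h := congrArg (fun M => (M *ᵥ (Pi.single ⟨0, by omega⟩ 1 : Fin n → F)) i)
        (hcomm ⟨_, signedSwap_mem_SU hF h0⟩)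
      simp only [← Matrix.mulVec_mulVec, signedSwap_mulVec h0 _ i] at h
      simp only [↓reduceIte] at h
      have h' : (fun k => if k = i then (Pi.single ⟨0, by omega⟩ 1 : Fin n → F) ⟨0, by omega⟩
          else if k = (⟨0, by omega⟩ : Fin n) then -(Pi.single ⟨0, by omega⟩ 1 : Fin n → F) i
          else (Pi.single ⟨0, by omega⟩ 1 : Fin n → F) k) = Pi.single i 1 := by
        funext k
        by_cases hk : k = i
        · simp [hk]
        · by_cases hk0 : k = ⟨0, by omega⟩ <;> simp [hk, hk0, h0, Ne.symm h0]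
      rw [h'] at h
      simpa [Matrix.mulVec_single] using h.symm
  · rw [hoff i j hij, Matrix.smul_apply, Matrix.one_apply_ne hij, smul_zero]

/-- A scalar matrix in `SL_n`. -/
def scalarSL (n : ℕ) (r : F) (h : r ^ n = 1) : Matrix.SpecialLinearGroup (Fin n) F :=
  ⟨r • 1, by rw [Matrix.det_smul, Matrix.det_one, Fintype.card_fin, h, one_mul]⟩

omit [Fintype F] in
theorem scalarSL_val (r : F) (h : r ^ n = 1) : (scalarSL n r h).1 = r • 1 := rfl

/-- The centre of `SU_n` has order `gcd(n, q+1)`. -/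
theorem card_center_SU (hF : Fintype.card F = q ^ 2) (hn : 2 ≤ n) :
    Nat.card (Subgroup.center (Cfsg.SU n F q)) = Nat.gcd n (q + 1) := by
  have hval : ∀ r : rootsOfUnity (Nat.gcd n (q + 1)) F,
      ((r : Fˣ) : F) ^ n = 1 ∧ ((r : Fˣ) : F) ^ (q + 1) = 1 := by
    intro r
    have h := (mem_rootsOfUnity' _ (r : Fˣ)).1 r.2
    obtain ⟨a, ha⟩ := Nat.gcd_dvd_left n (q + 1)
    obtain ⟨b, hb⟩ := Nat.gcd_dvd_right n (q + 1)
    refine ⟨?_, ?_⟩
    · calc _ = ((r : Fˣ) : F) ^ (Nat.gcd n (q + 1) * a) := congrArg _ ha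
        _ = 1 := by rw [pow_mul, h, one_pow]
    · calc _ = ((r : Fˣ) : F) ^ (Nat.gcd n (q + 1) * b) := congrArg _ hb
        _ = 1 := by rw [pow_mul, h, one_pow]
  have hm : ∀ r : rootsOfUnity (Nat.gcd n (q + 1)) F,
      scalarSL n ((r : Fˣ) : F) (hval r).1 ∈ Cfsg.SU n F q := by
    intro r
    rw [mem_SU_iff]
    intro u v
    simp only [scalarSL_val, Matrix.smul_mulVec, Matrix.one_mulVec, Cfsg.hermForm, Pi.smul_apply,
      smul_eq_mul, mul_pow]
    refine Finset.sum_congr rfl fun k _ => ?_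
    rw [mul_mul_mul_comm, ← pow_succ', (hval r).2, one_mul]
  let f : rootsOfUnity (Nat.gcd n (q + 1)) F → Subgroup.center (Cfsg.SU n F q) := fun r =>
    ⟨⟨_, hm r⟩, Subgroup.mem_center_iff.2 fun B => Subtype.ext (Subtype.ext (by
      simp [Matrix.SpecialLinearGroup.coe_mul, scalarSL_val]))⟩
  have hb : Function.Bijective f := by
    constructor
    · intro a b h
      have := congrArg (fun z : Subgroup.center (Cfsg.SU n F q) =>
        z.1.1.1 ⟨0, by omega⟩ ⟨0, by omega⟩) h
      exact Subtype.ext (Units.ext (by simpa [f, scalarSL_val] using this))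
    · rintro ⟨A, hA⟩
      obtain ⟨r, hr⟩ := exists_scalar_of_mem_center hF hn hA
      have h1 : r ^ n = 1 := by
        have := A.1.2
        rwa [hr, Matrix.det_smul, Matrix.det_one, Fintype.card_fin, mul_one] at this
      have h2 : r ^ (q + 1) = 1 := by
        have := mem_SU_iff.1 A.2 (Pi.single ⟨0, by omega⟩ 1) (Pi.single ⟨0, by omega⟩ 1)
        simp only [hr, Matrix.smul_mulVec, Matrix.one_mulVec, Cfsg.hermForm, Pi.smul_apply,
          smul_eq_mul, Pi.single_apply, mul_ite, mul_one, mul_zero, ite_mul, zero_mul,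
          Finset.sum_ite_eq', Finset.mem_univ, ↓reduceIte, one_pow, one_mul] at this
        rw [pow_succ']
        exact this
      have h3 : r ^ Nat.gcd n (q + 1) = 1 := pow_gcd_eq_one.2 ⟨h1, h2⟩
      have : NeZero (Nat.gcd n (q + 1)) := ⟨Nat.gcd_ne_zero_right (Nat.succ_ne_zero q)⟩
      exact ⟨rootsOfUnity.mkOfPowEq r h3, Subtype.ext (Subtype.ext (Subtype.ext hr.symm))⟩
  rw [← Nat.card_congr (Equiv.ofBijective f hb), rootsOfUnity_eq_ker,
    IsCyclic.card_powMonoidHom_ker, Nat.card_units, Nat.card_eq_fintype_card, hF]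
  have hd : (q + 1) ∣ q ^ 2 - 1 := ⟨q - 1, by rw [← Nat.sq_sub_sq q 1, one_pow]⟩
  exact Nat.gcd_eq_right ((Nat.gcd_dvd_right n (q + 1)).trans hd)

end CfsgLib.Forms4
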