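import Cfsg.Prelude.Def_Classical
import Cfsg.Agent.Forms.SymplecticPoints

/-!
# Centre, perfectness and simplicity of the symplectic groups
-/

set_option autoImplicit false

namespace CfsgLib.Forms4

open Matrix CfsgLib.Forms MulAction
open scoped LinearAlgebra.Projectivization Pointwise

variable {F : Type*} [Field F] {m : ℕ}

local notation "V" => Fin m ⊕ Fin m → F
local notation "Sp" => Matrix.symplecticGroup (Fin m) F

theorem spTransv_mulVec (w x : V) (c : F) :
    (spTransv w c).1 *ᵥ x = x + (c * Cfsg.sympForm m F x w) • w :=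
  sympTransvection_mulVec w x c

theorem sympForm_smul_right (x w : V) (t : F) :
    Cfsg.sympForm m F x (t • w) = t * Cfsg.sympForm m F x w := by
  rw [← sympBilin_apply, map_smul, smul_eq_mul, sympBilin_apply]

theorem sympForm_add_right (x u v : V) :
    Cfsg.sympForm m F x (u + v) = Cfsg.sympForm m F x u + Cfsg.sympForm m F x v := by
  rw [← sympBilin_apply, map_add, sympBilin_apply, sympBilin_apply]

theorem sympForm_add_left (x u v : V) :
    Cfsg.sympForm m F (u + v) x = Cfsg.sympForm m F u x + Cfsg.sympForm m F v x := by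
  rw [← sympBilin_apply, map_add, LinearMap.add_apply, sympBilin_apply, sympBilin_apply]

theorem sympForm_smul_left (x w : V) (t : F) :
    Cfsg.sympForm m F (t • w) x = t * Cfsg.sympForm m F w x := by
  rw [← sympBilin_apply, map_smul, LinearMap.smul_apply, smul_eq_mul, sympBilin_apply]

/-- The root homomorphism at a vector. -/
noncomputable def transvHom (w : V) : Multiplicative F →* Sp where
  toFun c := spTransv w c.toAdd
  map_one' := sp_ext fun x => by simp [spTransv_mulVec]
  map_mul' a b := sp_ext fun x => by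
    simp only [Submonoid.coe_mul, ← Matrix.mulVec_mulVec, spTransv_mulVec, toAdd_mul,
      sympForm_add_left, sympForm_smul_left, sympForm_self, mul_zero, add_zero]
    module

theorem spTransv_smul (w : V) (t c : F) : spTransv (t • w) c = spTransv w (t ^ 2 * c) :=
  sp_ext fun x => by
    simp only [spTransv_mulVec, sympForm_smul_right, smul_smul]
    ring_nf

theorem conj_spTransv (A : Sp) (w : V) (c : F) :
    A * spTransv w c * A⁻¹ = spTransv (A.1 *ᵥ w) c := by
  rw [mul_inv_eq_iff_eq_mul]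
  refine sp_ext fun x => ?_
  simp only [Submonoid.coe_mul, ← Matrix.mulVec_mulVec, spTransv_mulVec, Matrix.mulVec_add,
    Matrix.mulVec_smul, sympForm_map]

/-- `Sp` is transitive on nonzero vectors. -/
theorem exists_mulVec_eq {v w : V} (hv : v ≠ 0) (hw : w ≠ 0) : ∃ A : Sp, A.1 *ᵥ v = w := by
  have key : ∀ u : V, u ≠ 0 → ∃ z, Cfsg.sympForm m F u z = 1 := by
    intro u hu
    obtain ⟨z, hz, -⟩ := exists_sympForm_ne_zero_two hu hu
    exact ⟨(Cfsg.sympForm m F u z)⁻¹ • z, by rw [sympForm_smul_right, inv_mul_cancel₀ hz]⟩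
  obtain ⟨v', hv'⟩ := key v hv
  obtain ⟨w', hw'⟩ := key w hw
  obtain ⟨A, -, hA, -⟩ := exists_mem_transvGroup_pair (⊤ : Submodule F V)
    (fun u _ hu => by obtain ⟨z, hz⟩ := key u hu; exact ⟨z, trivial, by simp [hz]⟩)
    trivial trivial trivial trivial hv' hw'
  exact ⟨A, hA⟩

/-- A group element in `Cfsg.spGL`. -/
noncomputable def toSpGL : Sp →* Cfsg.spGL m F :=
  MonoidHom.codRestrict
    (MonoidHom.toHomUnits (Matrix.symplecticGroup (Fin m) F).subtype) _
    (fun A => fun u v => sympForm_map A u v)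

theorem toSpGL_surjective : Function.Surjective (toSpGL (F := F) (m := m)) := fun g =>
  ⟨⟨g.1.1, mem_symplecticGroup_iff_form.2 g.2⟩, Subtype.ext (Units.ext rfl)⟩

theorem toSpGL_smul (A : Sp) (x : V) : toSpGL A • x = A.1 *ᵥ x := rfl

/-- The action of `Sp` on projective space. -/
@[instance_reducible]
noncomputable def spAction : MulAction Sp (ℙ F V) := MulAction.compHom _ toSpGL

attribute [local instance] spAction

theorem sp_smul_mk (A : Sp) {x : V} (hx : x ≠ 0) (hAx : A.1 *ᵥ x ≠ 0) :
    A • Projectivization.mk F x hx = Projectivization.mk F (A.1 *ᵥ x) hAx := rfl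

theorem mulVec_ne_zero (A : Sp) {x : V} (hx : x ≠ 0) : A.1 *ᵥ x ≠ 0 := by
  intro h
  apply hx
  have := congrArg (fun z => (A⁻¹).1 *ᵥ z) h
  simpa [Matrix.mulVec_mulVec, ← Submonoid.coe_mul] using this

theorem sp_isPreprimitive (hm : 1 ≤ m) : IsPreprimitive Sp (ℙ F V) := by
  have := spGL_isPreprimitive (F := F) hm
  have hb : Function.Bijective (toSpGL (F := F) (m := m)) :=
    ⟨fun a b h => Subtype.ext (congrArg (fun g : Cfsg.spGL m F => g.1.1) h), toSpGL_surjective⟩
  let φ := (MulEquiv.ofBijective _ hb).symm.toMonoidHom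
  let f : MulActionHom φ (ℙ F V) (ℙ F V) :=
    { toFun := id
      map_smul' := fun g x =>
        (congrArg (· • x) ((MulEquiv.ofBijective _ hb).apply_symm_apply g)).symm }
  exact @IsPreprimitive.of_surjective _ _ _ _ _ _ _ _ φ f this Function.surjective_id

/-- An element acting trivially on the lines is a scalar. -/
theorem exists_scalar_of_smul_eq (A : Sp) (h : ∀ w : V, w ≠ 0 → ∃ t : F, A.1 *ᵥ w = t • w) :
    ∃ r : F, A.1 = r • 1 := by
  obtain ⟨r, hr⟩ := (Matrix.toLin' A.1).exists_eq_smul_id_of_forall_notLinearIndependent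
    fun v => by
      by_cases hv : v = 0
      · simp [hv, linearIndependent_fin2]
      · obtain ⟨t, ht⟩ := h v hv
        rw [LinearIndependent.pair_iff' hv]
        push Not
        exact ⟨t, ht.symm⟩
  refine ⟨r, Matrix.ext_iff_mulVec.2 fun w => ?_⟩
  have := LinearMap.congr_fun hr w
  rw [Matrix.toLin'_apply] at this
  rw [this, Matrix.smul_mulVec, Matrix.one_mulVec]
  simp

theorem mem_center_of_scalar {A : Sp} {r : F} (h : A.1 = r • 1) : A ∈ Subgroup.center Sp := by
  rw [Subgroup.mem_center_iff]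
  intro B
  apply Subtype.ext
  simp [Submonoid.coe_mul, h]

/-- The centre of `Sp` consists of the scalars. -/
theorem mem_center_iff {A : Sp} : A ∈ Subgroup.center Sp ↔ ∃ r : F, A.1 = r • 1 := by
  refine ⟨fun hA => exists_scalar_of_smul_eq A fun w hw => ?_, fun ⟨r, hr⟩ =>
    mem_center_of_scalar hr⟩
  have h : spTransv (A.1 *ᵥ w) 1 = spTransv w 1 := by
    rw [← conj_spTransv, ← Subgroup.mem_center_iff.1 hA, mul_inv_cancel_right]
  obtain ⟨z, hz, -⟩ := exists_sympForm_ne_zero_two (mulVec_ne_zero A hw) (mulVec_ne_zero A hw)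
  have hz' : Cfsg.sympForm m F z (A.1 *ᵥ w) ≠ 0 := by
    rw [sympForm_swap]; exact neg_ne_zero.2 hz
  have := congrArg (fun B : Sp => B.1 *ᵥ z) h
  simp only [spTransv_mulVec, one_mul, add_right_inj] at this
  exact ⟨(Cfsg.sympForm m F z (A.1 *ᵥ w))⁻¹ * Cfsg.sympForm m F z w, by
    rw [mul_smul, ← this, inv_smul_smul₀ hz']⟩

theorem sq_eq_one_of_scalar (hm : 1 ≤ m) {A : Sp} {r : F} (h : A.1 = r • 1) : r ^ 2 = 1 := by
  have h1 := sympForm_map A (Pi.single (Sum.inr ⟨0, hm⟩) 1) (Pi.single (Sum.inl ⟨0, hm⟩) 1)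
  simp only [h, Matrix.smul_mulVec, Matrix.one_mulVec, sympForm_smul_right,
    sympForm_single_inl] at h1
  simpa [sq] using h1

/-- The scalar `±1` as an element of `Sp`. -/
def scalarSp (r : rootsOfUnity 2 F) : Sp :=
  ⟨((r : Fˣ) : F) • 1, by
    rw [SymplecticGroup.mem_iff, Matrix.smul_mul, Matrix.one_mul, Matrix.transpose_smul,
      Matrix.transpose_one, Matrix.mul_smul, Matrix.mul_one, smul_smul, ← sq,
      (mem_rootsOfUnity' 2 (r : Fˣ)).1 r.2, one_smul]⟩

/-- The centre has order `gcd(2, q-1)`. -/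
theorem card_center_Sp [Fintype F] (hm : 1 ≤ m) :
    Nat.card (Subgroup.center Sp) = Nat.gcd 2 (Fintype.card F - 1) := by
  have hb : Function.Bijective (fun r : rootsOfUnity 2 F =>
      (⟨scalarSp r, mem_center_of_scalar rfl⟩ : Subgroup.center Sp)) := by
    constructor
    · intro a b h
      have := congrArg (fun z : Subgroup.center Sp => z.1.1 (Sum.inl ⟨0, hm⟩) (Sum.inl ⟨0, hm⟩)) h
      exact Subtype.ext (Units.ext (by simpa [scalarSp] using this))
    · rintro ⟨A, hA⟩
      obtain ⟨r, hr⟩ := mem_center_iff.1 hA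
      exact ⟨rootsOfUnity.mkOfPowEq r (sq_eq_one_of_scalar hm hr), Subtype.ext (Subtype.ext hr.symm)⟩
  rw [← Nat.card_congr (Equiv.ofBijective _ hb), rootsOfUnity_eq_ker,
    IsCyclic.card_powMonoidHom_ker, Nat.card_units, Nat.card_eq_fintype_card, Nat.gcd_comm]

/-- Three pairwise orthogonal vectors: the relation forcing perfectness. -/
theorem transv_relation_three {u v w : V} (huv : Cfsg.sympForm m F u v = 0)
    (huw : Cfsg.sympForm m F u w = 0) (hvw : Cfsg.sympForm m F v w = 0) (c : F) :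
    spTransv (u + v + w) c * spTransv u c * spTransv v c * spTransv w c =
      spTransv (u + v) c * spTransv (u + w) c * spTransv (v + w) c := by
  refine sp_ext fun x => ?_
  have hvu : Cfsg.sympForm m F v u = 0 := by rw [sympForm_swap, huv, neg_zero]
  have hwu : Cfsg.sympForm m F w u = 0 := by rw [sympForm_swap, huw, neg_zero]
  have hwv : Cfsg.sympForm m F w v = 0 := by rw [sympForm_swap, hvw, neg_zero]
  simp only [Submonoid.coe_mul, ← Matrix.mulVec_mulVec, spTransv_mulVec, sympForm_add_left,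
    sympForm_add_right, sympForm_smul_left, sympForm_self, huv, huw, hvw, hvu, hwu, hwv,
    mul_zero, add_zero]
  module

/-- Two orthogonal vectors: the relation forcing perfectness in odd characteristic. -/
theorem transv_relation_two {u v : V} (huv : Cfsg.sympForm m F u v = 0) (c : F) :
    spTransv (u + v) c * spTransv (u + (-1 : F) • v) c = spTransv u (c + c) * spTransv v (c + c) := by
  refine sp_ext fun x => ?_
  have hvu : Cfsg.sympForm m F v u = 0 := by rw [sympForm_swap, huv, neg_zero]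
  simp only [Submonoid.coe_mul, ← Matrix.mulVec_mulVec, spTransv_mulVec, sympForm_add_left,
    sympForm_add_right, sympForm_smul_left, sympForm_smul_right, sympForm_self, huv, hvu,
    mul_zero, add_zero]
  module

/-- `Sp` is perfect except `Sp_2(2)`, `Sp_2(3)`, `Sp_4(2)`. -/
theorem commutator_Sp_eq_top
    (h : 3 ≤ m ∨ (2 ≤ m ∧ (2 : F) ≠ 0) ∨ ∃ t : F, t ≠ 0 ∧ t ^ 2 ≠ 1) :
    commutator Sp = ⊤ := by
  classical
  rw [eq_top_iff, ← transvGroup_eq_top, transvGroup, Subgroup.closure_le]
  rintro A ⟨w, -, c, rfl⟩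
  rw [SetLike.mem_coe, ← Abelianization.ker_of, MonoidHom.mem_ker]
  by_cases hw : w = 0
  · rw [show spTransv w c = 1 from sp_ext fun x => by simp [spTransv_mulVec, hw], map_one]
  have hconj : ∀ (u v : V) (d : F), u ≠ 0 → v ≠ 0 →
      Abelianization.of (spTransv u d) = Abelianization.of (spTransv v d) := by
    intro u v d hu hv
    obtain ⟨A, hA⟩ := exists_mulVec_eq hu hv
    rw [← hA, ← conj_spTransv, map_mul, map_mul, map_inv, mul_inv_cancel_comm]
  have hadd : ∀ (u : V) (a b : F), Abelianization.of (spTransv u (a + b)) =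
      Abelianization.of (spTransv u a) * Abelianization.of (spTransv u b) := by
    intro u a b
    rw [← map_mul]
    exact congrArg _ ((transvHom u).map_mul (Multiplicative.ofAdd a) (Multiplicative.ofAdd b))
  have hne : ∀ (u : V) (i : Fin m ⊕ Fin m), u i = 1 → u ≠ 0 := fun u i hi h0 => by
    simp [h0] at hi
  rcases h with hm | ⟨hm, h2⟩ | ⟨t, ht0, ht⟩
  · obtain ⟨u, hu⟩ : ∃ u : V, u = Pi.single (Sum.inl ⟨0, by omega⟩) 1 := ⟨_, rfl⟩
    obtain ⟨v, hv⟩ : ∃ v : V, v = Pi.single (Sum.inl ⟨1, by omega⟩) 1 := ⟨_, rfl⟩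
    obtain ⟨z, hz⟩ : ∃ z : V, z = Pi.single (Sum.inl ⟨2, by omega⟩) 1 := ⟨_, rfl⟩
    have hrel := congrArg Abelianization.of (transv_relation_three (u := u) (v := v) (w := z)
      (by simp [hu, hv, sympForm_single_inl]) (by simp [hu, hz, sympForm_single_inl])
      (by simp [hv, hz, sympForm_single_inl]) c)
    simp only [map_mul] at hrel
    rw [hconj _ w c (hne _ (Sum.inl ⟨0, by omega⟩) (by simp [hu, hv, hz])) hw,
      hconj u w c (hne _ (Sum.inl ⟨0, by omega⟩) (by simp [hu])) hw,
      hconj v w c (hne _ (Sum.inl ⟨1, by omega⟩) (by simp [hv])) hw,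
      hconj z w c (hne _ (Sum.inl ⟨2, by omega⟩) (by simp [hz])) hw,
      hconj (u + v) w c (hne _ (Sum.inl ⟨0, by omega⟩) (by simp [hu, hv])) hw,
      hconj (u + z) w c (hne _ (Sum.inl ⟨0, by omega⟩) (by simp [hu, hz])) hw,
      hconj (v + z) w c (hne _ (Sum.inl ⟨1, by omega⟩) (by simp [hv, hz])) hw] at hrel
    exact mul_eq_left.1 hrel
  · obtain ⟨u, hu⟩ : ∃ u : V, u = Pi.single (Sum.inl ⟨0, by omega⟩) 1 := ⟨_, rfl⟩
    obtain ⟨v, hv⟩ : ∃ v : V, v = Pi.single (Sum.inl ⟨1, by omega⟩) 1 := ⟨_, rfl⟩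
    have hrel : ∀ d, Abelianization.of (spTransv w d) * Abelianization.of (spTransv w d) = 1 := by
      intro d
      have hr := congrArg Abelianization.of (transv_relation_two (u := u) (v := v)
        (by simp [hu, hv, sympForm_single_inl]) d)
      simp only [map_mul] at hr
      rw [hconj (u + v) w d (hne _ (Sum.inl ⟨0, by omega⟩) (by simp [hu, hv])) hw,
        hconj (u + (-1 : F) • v) w d (hne _ (Sum.inl ⟨0, by omega⟩) (by simp [hu, hv])) hw,
        hconj u w _ (hne _ (Sum.inl ⟨0, by omega⟩) (by simp [hu])) hw,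
        hconj v w _ (hne _ (Sum.inl ⟨1, by omega⟩) (by simp [hv])) hw, hadd] at hr
      exact mul_eq_left.1 hr.symm
    have := hrel (c / 2)
    rwa [← hadd, ← two_mul, mul_div_cancel₀ c h2] at this
  · have key : ∀ d, Abelianization.of (spTransv w (t ^ 2 * d)) =
        Abelianization.of (spTransv w d) := fun d => by
      rw [← spTransv_smul, hconj (t • w) w d (smul_ne_zero ht0 hw) hw]
    have := key (c / (t ^ 2 - 1))
    have hc : t ^ 2 * (c / (t ^ 2 - 1)) = c / (t ^ 2 - 1) + c := by
      field_simp [sub_ne_zero.2 ht]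
      ring
    rw [hc, hadd] at this
    exact mul_eq_left.1 this

/-- The Iwasawa structure: transvection groups at the points. -/
noncomputable def spIwasawa : MulAction.IwasawaStructure Sp (ℙ F V) where
  T p := (transvHom p.rep).range
  is_comm p := by
    constructor
    constructor
    rintro ⟨_, a, rfl⟩ ⟨_, b, rfl⟩
    exact Subtype.ext (by rw [Subgroup.coe_mul, Subgroup.coe_mul, ← map_mul, ← map_mul, mul_comm])
  is_conj g p := by
    obtain ⟨s, hs0, hs⟩ : ∃ s : F, s ≠ 0 ∧ (g • p).rep = s • (g.1 *ᵥ p.rep) := by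
      have h : Projectivization.mk F (g • p).rep (g • p).rep_nonzero =
          Projectivization.mk F (g.1 *ᵥ p.rep) (mulVec_ne_zero g p.rep_nonzero) := by
        rw [Projectivization.mk_rep, ← sp_smul_mk g p.rep_nonzero, Projectivization.mk_rep]
      obtain ⟨s, hs⟩ := (Projectivization.mk_eq_mk_iff F _ _ _ _).1 h
      exact ⟨s, s.ne_zero, hs.symm⟩
    ext x
    rw [Subgroup.mem_pointwise_smul_iff_inv_smul_mem, MulAut.smul_def, MulAut.inv_apply,
      MulAut.conj_symm_apply]
    constructor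
    · rintro ⟨c, rfl⟩
      refine ⟨Multiplicative.ofAdd (s ^ 2 * c.toAdd), ?_⟩
      change spTransv p.rep (s ^ 2 * c.toAdd) = g⁻¹ * spTransv (g • p).rep c.toAdd * g
      rw [hs, spTransv_smul, ← conj_spTransv]
      group
    · rintro ⟨c, hc⟩
      change spTransv p.rep c.toAdd = _ at hc
      refine ⟨Multiplicative.ofAdd (c.toAdd / s ^ 2), ?_⟩
      change spTransv (g • p).rep (c.toAdd / s ^ 2) = x
      rw [hs, spTransv_smul, mul_div_cancel₀ _ (pow_ne_zero 2 hs0), ← conj_spTransv, hc]
      group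
  is_generator := by
    rw [eq_top_iff, ← transvGroup_eq_top, transvGroup, Subgroup.closure_le]
    rintro A ⟨w, -, c, rfl⟩
    by_cases hw : w = 0
    · rw [show spTransv w c = 1 from sp_ext fun x => by simp [spTransv_mulVec, hw]]
      exact Subgroup.one_mem _
    · obtain ⟨s, hs⟩ := (Projectivization.mk_eq_mk_iff F _ _
        (Projectivization.rep_nonzero _) hw).1 (Projectivization.mk_rep (Projectivization.mk F w hw))
      refine Subgroup.mem_iSup_of_mem (Projectivization.mk F w hw)
        ⟨Multiplicative.ofAdd ((s : F)⁻¹ ^ 2 * c), ?_⟩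
      change spTransv _ ((s : F)⁻¹ ^ 2 * c) = _
      rw [← hs, Units.smul_def, spTransv_smul, ← mul_assoc, ← mul_pow,
        mul_inv_cancel₀ s.ne_zero, one_pow, one_mul]

/-- A normal subgroup of a perfect `Sp` is everything or central. -/
theorem normal_eq_top_or_le_center (hm : 1 ≤ m) (hperf : commutator Sp = ⊤)
    (N : Subgroup Sp) [N.Normal] : N = ⊤ ∨ N ≤ Subgroup.center Sp := by
  have := sp_isPreprimitive (F := F) hm
  by_cases hN : MulAction.fixedPoints N (ℙ F V) = .univ
  · refine Or.inr fun A hA => mem_center_iff.2 (exists_scalar_of_smul_eq A fun w hw => ?_)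
    have h := Set.eq_univ_iff_forall.1 hN (Projectivization.mk F w hw) ⟨A, hA⟩
    change A • Projectivization.mk F w hw = _ at h
    rw [sp_smul_mk A hw (mulVec_ne_zero A hw), Projectivization.mk_eq_mk_iff'] at h
    obtain ⟨t, ht⟩ := h
    exact ⟨t, ht.symm⟩
  · exact Or.inl (top_le_iff.1 (hperf ▸ spIwasawa.commutator_le N hN))

/-- `PSp` is simple when `Sp` is perfect. -/
theorem isSimpleGroup_PSp (hm : 1 ≤ m) (hperf : commutator Sp = ⊤) :
    IsSimpleGroup (Cfsg.PSp m F) := by
  have : Nontrivial (Cfsg.PSp m F) := by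
    let e : V := Pi.single (Sum.inl ⟨0, hm⟩) 1
    refine ⟨⟨QuotientGroup.mk (spTransv e 1), 1, fun h => ?_⟩⟩
    rw [QuotientGroup.eq_one_iff, mem_center_iff] at h
    obtain ⟨r, hr⟩ := h
    have h1 := congrArg (fun M => (M *ᵥ (Pi.single (Sum.inr ⟨0, hm⟩) 1 : V)) (Sum.inl ⟨0, hm⟩)) hr
    simp only [spTransv_mulVec, Matrix.smul_mulVec, Matrix.one_mulVec] at h1
    simp [e, sympForm_single_inl] at h1
  constructor
  intro H hH
  rcases normal_eq_top_or_le_center hm hperf (H.comap (QuotientGroup.mk' _)) with h | h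
  · refine Or.inr ?_
    rw [← Subgroup.map_comap_eq_self_of_surjective (QuotientGroup.mk'_surjective _) H, h,
      Subgroup.map_top_of_surjective _ (QuotientGroup.mk'_surjective _)]
  · refine Or.inl (eq_bot_iff.2 ?_)
    rw [← Subgroup.map_comap_eq_self_of_surjective (QuotientGroup.mk'_surjective _) H]
    refine (Subgroup.map_mono h).trans ?_
    rw [QuotientGroup.map_mk'_self]

end CfsgLib.Forms4
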