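import Cfsg.Agent.FieldEmb.Basic
import Cfsg.Agent.Linear.Perfect
import Cfsg.Agent.Linear.Basic

/-!
# Tools for the exceptional isomorphisms between small classical groups

A homomorphism `S → O(Q)` with image `Ω(Q)`, central kernel and `⁅g, S⁆ ⊆ ker ⇒ g` central induces
`PΩ(Q) ≅ S / Z(S)`.
-/

set_option autoImplicit false

open scoped commutatorElement

namespace CfsgLib.Forms4

section Abstract

variable {S O : Type*} [Group S] [Group O] (φ : S →* O)

/-- In a perfect group an element whose commutators are central is central. -/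
theorem mem_center_of_commutator_mem_center (hS : commutator S = ⊤) {g : S}
    (hg : ∀ x, ⁅g, x⁆ ∈ Subgroup.center S) : g ∈ Subgroup.center S := by
  let f : S →* Subgroup.center S := MonoidHom.mk' (fun x => ⟨⁅g, x⁆, hg x⟩) fun x y => by
    refine Subtype.ext ?_
    show ⁅g, x * y⁆ = ⁅g, x⁆ * ⁅g, y⁆
    have h := Subgroup.mem_center_iff.1 (hg y) x
    simp only [commutatorElement_def] at h ⊢
    calc g * (x * y) * g⁻¹ * (x * y)⁻¹
        = g * x * g⁻¹ * (g * y * g⁻¹ * y⁻¹) * x⁻¹ := by group
      _ = g * x * g⁻¹ * x⁻¹ * (x * (g * y * g⁻¹ * y⁻¹) * x⁻¹) := by group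
      _ = g * x * g⁻¹ * x⁻¹ * (g * y * g⁻¹ * y⁻¹) := by rw [h, mul_inv_cancel_right]
  refine Subgroup.mem_center_iff.2 fun x => ?_
  have hx : x ∈ f.ker :=
    letI : CommGroup (Subgroup.center S) :=
      { (inferInstance : Group (Subgroup.center S)) with
        mul_comm := fun a b => Subtype.ext (Subgroup.mem_center_iff.1 b.2 a) }
    Abelianization.commutator_subset_ker f (by rw [hS]; trivial)
  exact (commutatorElement_eq_one_iff_mul_comm.1 (congrArg Subtype.val hx)).symm

/-- The image of a perfect group lies in the derived group. -/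
theorem range_le_commutator (hS : commutator S = ⊤) : φ.range ≤ commutator O := by
  rw [MonoidHom.range_eq_map, ← hS, commutator_def, Subgroup.map_commutator]
  exact Subgroup.commutator_mono le_top le_top

/-- An image of index two inside the derived group is the derived group. -/
theorem range_eq_commutator_of_index_two [Finite O] (hle : φ.range ≤ commutator O)
    (h2 : Nat.card O = 2 * Nat.card φ.range) : φ.range = commutator O := by
  have hi : φ.range.index = 2 := by
    have h := φ.range.index_mul_card
    rw [h2] at h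
    exact Nat.eq_of_mul_eq_mul_right Nat.card_pos h
  have hn : φ.range.Normal := Subgroup.normal_of_index_eq_two hi
  have hp : Fact (Nat.Prime 2) := ⟨Nat.prime_two⟩
  have : IsCyclic (O ⧸ φ.range) := isCyclic_of_prime_card (p := 2) (by rw [← Subgroup.index_eq_card, hi])
  let _ : CommGroup (O ⧸ φ.range) := IsCyclic.commGroup
  refine le_antisymm hle ?_
  have h := Abelianization.commutator_subset_ker (QuotientGroup.mk' φ.range)
  rwa [QuotientGroup.ker_mk'] at h

/-- A counting criterion for the image to be a given subgroup. -/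
theorem range_eq_of_card [Finite S] [Finite O] {W : Subgroup O} (hle : φ.range ≤ W)
    (hc : Nat.card S = Nat.card φ.ker * Nat.card W) : φ.range = W := by
  refine Subgroup.eq_of_le_of_card_ge hle ?_
  have h := φ.ker.card_eq_card_quotient_mul_card_subgroup
  rw [Nat.card_congr (QuotientGroup.quotientKerEquivRange φ).toEquiv, hc, mul_comm] at h
  rcases Nat.eq_zero_or_pos (Nat.card φ.ker) with h0 | h0
  · exact absurd h0 (Nat.card_pos (α := φ.ker)).ne'
  · exact le_of_eq (Nat.eq_of_mul_eq_mul_right h0 h)

/-- `W / Z(W) ≅ S / Z(S)` for the image `W` of a homomorphism with small kernel. -/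
theorem nonempty_quotient_center_equiv {W : Subgroup O} (hrange : φ.range = W)
    (hker : φ.ker ≤ Subgroup.center S)
    (hc : ∀ g, (∀ x, ⁅g, x⁆ ∈ φ.ker) → g ∈ Subgroup.center S) :
    Nonempty (↥W ⧸ Subgroup.center ↥W ≃* S ⧸ Subgroup.center S) := by
  subst hrange
  let ψ : S →* φ.range ⧸ Subgroup.center ↥φ.range :=
    (QuotientGroup.mk' (Subgroup.center ↥φ.range)).comp φ.rangeRestrict
  have hψ : Function.Surjective ψ :=
    (QuotientGroup.mk'_surjective _).comp φ.rangeRestrict_surjective
  have hk : ψ.ker = Subgroup.center S := by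
    ext g
    show ψ g = 1 ↔ _
    simp only [ψ, MonoidHom.comp_apply, QuotientGroup.mk'_apply, QuotientGroup.eq_one_iff]
    constructor
    · intro h
      refine hc g fun x => ?_
      rw [MonoidHom.mem_ker, map_commutatorElement, commutatorElement_eq_one_iff_mul_comm]
      exact (congrArg Subtype.val (Subgroup.mem_center_iff.1 h (φ.rangeRestrict x))).symm
    · intro h
      refine Subgroup.mem_center_iff.2 fun y => ?_
      obtain ⟨x, rfl⟩ := φ.rangeRestrict_surjective y
      rw [← map_mul, ← map_mul, Subgroup.mem_center_iff.1 h x]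
  exact ⟨((QuotientGroup.quotientMulEquivOfEq hk.symm).trans
    (QuotientGroup.quotientKerEquivOfSurjective ψ hψ)).symm⟩

end Abstract

section Action

open Matrix

variable {F : Type*} [Field F] {ι : Type} [Fintype ι] [DecidableEq ι]

/-- An action on a module preserving the image of `T` and the form gives a homomorphism to the
isometry group. -/
theorem exists_isoHom {S M : Type*} [Group S] [AddCommGroup M] [Module F M] (Q : (ι → F) → F)
    (T : (ι → F) →ₗ[F] M) (P : M →ₗ[F] (ι → F)) (hPT : ∀ x, P (T x) = x)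
    (A : S →* Module.End F M) (hA : ∀ s x, T (P (A s (T x))) = A s (T x))
    (hQ : ∀ s x, Q (P (A s (T x))) = Q x) :
    ∃ φ : S →* ↥(Cfsg.isometryGroup F Q),
      (∀ s x, T (((φ s).1 : Matrix ι ι F) *ᵥ x) = A s (T x)) ∧
      ∀ s, φ s = 1 ↔ ∀ x, A s (T x) = T x := by
  let L : S →* Matrix ι ι F :=
    { toFun := fun s => LinearMap.toMatrix' (P ∘ₗ A s ∘ₗ T)
      map_one' := by
        rw [map_one]
        convert LinearMap.toMatrix'_id using 2
        exact LinearMap.ext hPT
      map_mul' := fun s t => by
        rw [← LinearMap.toMatrix'_comp]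
        congr 1
        refine LinearMap.ext fun x => ?_
        simp [map_mul, hA] }
  have hL : ∀ s x, L s *ᵥ x = P (A s (T x)) := fun s x => LinearMap.toMatrix'_mulVec _ x
  let φ : S →* ↥(Cfsg.isometryGroup F Q) := L.toHomUnits.codRestrict _ fun s => by
    rw [CfsgLib.FieldEmb.mem_isometryGroup]
    intro v
    rw [MonoidHom.coe_toHomUnits, hL, hQ]
  have hT : ∀ s x, T (((φ s).1 : Matrix ι ι F) *ᵥ x) = A s (T x) := fun s x => by
    show T (L s *ᵥ x) = _
    rw [hL, hA]
  refine ⟨φ, hT, fun s => ⟨fun h x => ?_, fun h => ?_⟩⟩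
  · rw [← hT, h]
    simp
  · refine Subtype.ext (Units.ext (Matrix.ext_iff_mulVec.2 fun x => ?_))
    show L s *ᵥ x = _
    rw [hL, h, hPT]
    simp

end Action

section SLTwo

open Matrix

variable {K : Type*} [Field K]

theorem commutator_SL_two [Fintype K] (h : 4 ≤ Fintype.card K) :
    commutator (Matrix.SpecialLinearGroup (Fin 2) K) = ⊤ := by
  classical
  obtain ⟨a, -, ha⟩ := Finset.exists_mem_notMem_of_card_lt_card
    (s := ({0, 1, -1} : Finset K)) (t := Finset.univ)
    (Finset.card_le_three.trans_lt (by rw [Finset.card_univ]; omega))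
  simp only [Finset.mem_insert, Finset.mem_singleton, not_or] at ha
  have ha2 : a ^ 2 ≠ 1 := fun h => by
    rcases sq_eq_one_iff.1 h with h | h
    · exact ha.2.1 h
    · exact ha.2.2 h
  exact CfsgLib.Linear.sl_eq_top_of_transvections fun i j hij c =>
    transvection_mem_commutator ha.1 ha2 hij c

/-- In `SL₂` an element whose commutators with all transvections are central is central. -/
theorem mem_center_SL_two {g : Matrix.SpecialLinearGroup (Fin 2) K}
    (h : ∀ x, ⁅g, x⁆ ∈ Subgroup.center (Matrix.SpecialLinearGroup (Fin 2) K)) :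
    g ∈ Subgroup.center (Matrix.SpecialLinearGroup (Fin 2) K) := by
  refine Subgroup.mem_center_iff.2 fun x => ?_
  refine CfsgLib.Linear.sl_induction (fun x => x * g = g * x) (by simp) (fun i j hij c => ?_)
    (fun A B hA hB => by rw [mul_assoc, hB, ← mul_assoc, hA, mul_assoc]) x
  obtain ⟨r, hr, hrT⟩ := Matrix.SpecialLinearGroup.mem_center_iff.1
    (h (Matrix.SpecialLinearGroup.transvection hij c))
  set u := Matrix.SpecialLinearGroup.transvection hij c
  have h1 : g.1 * u.1 * (g⁻¹).1 = r • u.1 := by
    have h2 : (⁅g, u⁆ * u).1 = (g * u * g⁻¹).1 := by rw [commutatorElement_def, inv_mul_cancel_right]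
    rw [Matrix.SpecialLinearGroup.coe_mul, ← hrT, Matrix.scalar_apply,
      ← Matrix.smul_eq_diagonal_mul, Matrix.SpecialLinearGroup.coe_mul,
      Matrix.SpecialLinearGroup.coe_mul] at h2
    exact h2.symm
  have htr := congrArg Matrix.trace h1
  rw [Matrix.trace_mul_comm, ← mul_assoc, ← Matrix.SpecialLinearGroup.coe_mul, inv_mul_cancel,
    Matrix.SpecialLinearGroup.coe_one, one_mul, Matrix.trace_smul, smul_eq_mul] at htr
  have htu : u.1.trace = 2 := by
    simp [u, Matrix.SpecialLinearGroup.transvection_coe, Matrix.trace_add,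
      Matrix.trace_single_eq_of_ne _ _ _ hij]
  have hr1 : r = 1 := by
    rw [Fintype.card_fin] at hr
    rcases sq_eq_one_iff.1 hr with rfl | rfl
    · rfl
    · rw [htu] at htr
      by_cases h2 : (2 : K) = 0
      · linear_combination (-1 : K) * h2
      · exact absurd (by linear_combination htr : (2 : K) * 2 = 0) (mul_ne_zero h2 h2)
  rw [hr1, one_smul] at h1
  refine (mul_inv_eq_iff_eq_mul.1 (Subtype.ext ?_ : g * u * g⁻¹ = u)).symm
  simpa using h1

/-- The transvections are commutators with a diagonal matrix of nontrivial determinant. -/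
theorem exists_transvection_commutator {R : Type*} [CommRing R] {i j : Fin 2} (hij : i ≠ j)
    (a : Rˣ) (ha : IsUnit ((a : R) - 1)) (c : R) :
    ∃ (d : (Matrix (Fin 2) (Fin 2) R)ˣ) (b : R),
      ⁅d, Matrix.SpecialLinearGroup.toGL (Matrix.SpecialLinearGroup.transvection hij b)⁆ =
        Matrix.SpecialLinearGroup.toGL (Matrix.SpecialLinearGroup.transvection hij c) := by
  let d : (Matrix (Fin 2) (Fin 2) R)ˣ :=
    ⟨Matrix.diagonal fun k => if k = i then (a : R) else 1,
      Matrix.diagonal fun k => if k = i then (↑a⁻¹ : R) else 1,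
      by rw [Matrix.diagonal_mul_diagonal, ← Matrix.diagonal_one]; congr 1; funext k; split_ifs <;> simp,
      by rw [Matrix.diagonal_mul_diagonal, ← Matrix.diagonal_one]; congr 1; funext k; split_ifs <;> simp⟩
  refine ⟨d, ↑ha.unit⁻¹ * c, ?_⟩
  rw [commutatorElement_def, mul_inv_eq_iff_eq_mul, mul_inv_eq_iff_eq_mul]
  refine Units.ext (Matrix.ext_iff_mulVec.2 fun w => funext fun k => ?_)
  have hu : ((a : R) - 1) * ↑ha.unit⁻¹ = 1 := IsUnit.mul_val_inv ha
  rw [Units.val_mul, Units.val_mul, Units.val_mul, ← Matrix.mulVec_mulVec, ← Matrix.mulVec_mulVec,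
    ← Matrix.mulVec_mulVec]
  change (Matrix.diagonal _ *ᵥ ((Matrix.SpecialLinearGroup.transvection hij _).1 *ᵥ w)) k =
    ((Matrix.SpecialLinearGroup.transvection hij c).1 *ᵥ
      ((Matrix.SpecialLinearGroup.transvection hij _).1 *ᵥ (Matrix.diagonal _ *ᵥ w))) k
  simp only [CfsgLib.Linear.transvection_smul_apply, Matrix.mulVec_diagonal, if_true, if_neg hij.symm]
  split_ifs with hk
  · subst hk; linear_combination (c * w j) * hu
  · ring

end SLTwo

end CfsgLib.Forms4
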