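import Cfsg.Agent.Forms4.OrthogonalOrder
import Cfsg.Agent.Spinor.StdForms

/-!
# Orders of `O_{2m+1}(q)`, `O⁺_{2m}(q)`, `O⁻_{2m}(q)` and their numbers of singular vectors
-/

set_option autoImplicit false

open Matrix

namespace CfsgLib.Forms4

section recursion

variable {F : Type*} [Field F] {κ : Type} [Fintype κ] [DecidableEq κ]

/-- `m` hyperbolic planes plus `Q`. -/
noncomputable def sumForm (m : ℕ) (Q : QuadraticForm F (κ → F)) :
    QuadraticForm F ((Fin m ⊕ Fin m) ⊕ κ → F) :=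
  (∑ i : Fin m, QuadraticMap.linMulLin (LinearMap.proj (Sum.inl (Sum.inl i)))
      (LinearMap.proj (Sum.inl (Sum.inr i)))) +
    Q.comp (LinearMap.funLeft F F Sum.inr)

omit [Fintype κ] [DecidableEq κ] in
theorem sumForm_apply (m : ℕ) (Q : QuadraticForm F (κ → F)) (v : (Fin m ⊕ Fin m) ⊕ κ → F) :
    sumForm m Q v = hsum m (⇑Q) v := by
  simp [sumForm, hsum]
  rfl

omit [Fintype κ] [DecidableEq κ] in
theorem coe_sumForm (m : ℕ) (Q : QuadraticForm F (κ → F)) : ⇑(sumForm m Q) = hsum m ⇑Q :=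
  funext (sumForm_apply m Q)

omit [Fintype κ] [DecidableEq κ] in
theorem polar_sumForm (m : ℕ) (Q : QuadraticForm F (κ → F)) (u v : (Fin m ⊕ Fin m) ⊕ κ → F) :
    QuadraticMap.polar (⇑(sumForm m Q)) u v =
      (∑ i, (u (.inl (.inl i)) * v (.inl (.inr i)) + v (.inl (.inl i)) * u (.inl (.inr i)))) +
      QuadraticMap.polar (⇑Q) (u ∘ Sum.inr) (v ∘ Sum.inr) := by
  simp only [QuadraticMap.polar, sumForm_apply, hsum, Pi.add_apply, Pi.add_comp]
  simp only [add_mul, mul_add, Finset.sum_add_distrib]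
  ring

omit [Fintype κ] [DecidableEq κ] in
theorem sumForm_nondegenerate (m : ℕ) (Q : QuadraticForm F (κ → F))
    (hQ : (QuadraticMap.polarBilin Q).Nondegenerate) :
    (QuadraticMap.polarBilin (sumForm m Q)).Nondegenerate := by
  classical
  refine CfsgLib.StdForms.nondegenerate_of_sep _ fun x hx => ?_
  have h2 : x ∘ Sum.inr = 0 := hQ.1 _ fun y => by
    have := hx (Sum.elim (0 : Fin m ⊕ Fin m → F) y)
    simpa [polar_sumForm] using this
  funext j
  rcases j with (i | i) | k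
  · have := hx (Sum.elim (fun l => if l = Sum.inr i then 1 else 0) fun _ => 0)
    simpa [polar_sumForm, QuadraticMap.polar_zero_right, Function.comp_def, h2,
      show (fun _ : κ => (0 : F)) = 0 from rfl] using this
  · have := hx (Sum.elim (fun l => if l = Sum.inl i then 1 else 0) fun _ => 0)
    simpa [polar_sumForm, QuadraticMap.polar_zero_right, Function.comp_def, h2,
      show (fun _ : κ => (0 : F)) = 0 from rfl] using this
  · exact congrFun h2 k

/-- Move the pair with index `0` in front. -/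
def sumIndexEquiv (m : ℕ) (κ : Type) :
    (Fin (m + 1) ⊕ Fin (m + 1)) ⊕ κ ≃ Fin 2 ⊕ ((Fin m ⊕ Fin m) ⊕ κ) where
  toFun := Sum.elim
    (Sum.elim (Fin.cases (Sum.inl 0) fun i => Sum.inr (Sum.inl (Sum.inl i)))
      (Fin.cases (Sum.inl 1) fun i => Sum.inr (Sum.inl (Sum.inr i))))
    fun k => Sum.inr (Sum.inr k)
  invFun := Sum.elim ![Sum.inl (Sum.inl 0), Sum.inl (Sum.inr 0)]
    (Sum.elim (Sum.elim (fun i => Sum.inl (Sum.inl i.succ)) fun i => Sum.inl (Sum.inr i.succ))
      fun k => Sum.inr k)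
  left_inv j := by
    rcases j with (i | i) | k
    · induction i using Fin.cases <;> simp
    · induction i using Fin.cases <;> simp
    · rfl
  right_inv j := by
    rcases j with i | (i | i) | k
    · fin_cases i <;> simp
    · simp
    · simp
    · rfl

variable [Fintype F]

/-- The recursion for the orders. -/
theorem card_isometryGroup_hsum_succ (m : ℕ) (Q : QuadraticForm F (κ → F))
    (hQ : (QuadraticMap.polarBilin Q).Nondegenerate) :
    Nat.card (Cfsg.isometryGroup F (hsum (m + 1) ⇑Q)) =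
      (Nat.card {v // hsum (m + 1) (⇑Q) v = 0} - 1) *
        Fintype.card F ^ (2 * m + Fintype.card κ) *
        Nat.card (Cfsg.isometryGroup F (hsum m ⇑Q)) := by
  have h : (fun v : Fin 2 ⊕ ((Fin m ⊕ Fin m) ⊕ κ) → F => hsum (m + 1) (⇑Q) (v ∘ sumIndexEquiv m κ)) =
      ⇑(hypForm (sumForm m Q)) := by
    funext v
    simp [hypForm_apply, sumForm_apply, hsum, sumIndexEquiv, Fin.sum_univ_succ, Function.comp_def]
    ring
  obtain ⟨e⟩ := nonempty_isometryGroup_congr (sumIndexEquiv m κ) (hsum (m + 1) ⇑Q)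
  rw [h] at e
  have hz : Nat.card {v // hsum (m + 1) (⇑Q) v = 0} = Nat.card {v // hypForm (sumForm m Q) v = 0} := by
    refine Nat.card_congr ((Equiv.arrowCongr (sumIndexEquiv m κ) (Equiv.refl F)).subtypeEquiv fun v => ?_)
    rw [← h]
    simp [Equiv.arrowCongr, Function.comp_def]
  rw [Nat.card_congr e.toEquiv, card_isometryGroup_hyp _ (sumForm_nondegenerate m Q hQ), hz,
    coe_sumForm, Fintype.card_sum, Fintype.card_sum, Fintype.card_fin, two_mul]

theorem card_isometryGroup_hsum_zero (Q : QuadraticForm F (κ → F)) :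
    Nat.card (Cfsg.isometryGroup F (hsum 0 ⇑Q)) = Nat.card (Cfsg.isometryGroup F ⇑Q) := by
  obtain ⟨e⟩ := nonempty_isometryGroup_congr (Equiv.emptySum (Fin 0 ⊕ Fin 0) κ) (hsum 0 ⇑Q)
  rw [Nat.card_congr e.toEquiv]
  congr
  funext v
  simp [hsum]
  rfl

end recursion

section standard

variable {F : Type*} [Field F] [Fintype F] {q : ℕ}

/-- `x²` on one coordinate. -/
noncomputable def sqForm (F : Type*) [Field F] : QuadraticForm F (Unit → F) :=
  QuadraticMap.linMulLin (LinearMap.proj ()) (LinearMap.proj ())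

/-- `x² + a x y + b y²`. -/
noncomputable def binForm (a b : F) : QuadraticForm F (Fin 2 → F) :=
  QuadraticMap.linMulLin (LinearMap.proj 0) (LinearMap.proj 0) +
    a • QuadraticMap.linMulLin (LinearMap.proj 0) (LinearMap.proj 1) +
    b • QuadraticMap.linMulLin (LinearMap.proj 1) (LinearMap.proj 1)

omit [Fintype F] in
theorem coe_binForm (a b : F) :
    ⇑(binForm a b) = fun v : Fin 2 → F => v 0 ^ 2 + a * v 0 * v 1 + b * v 1 ^ 2 := by
  funext v
  simp [binForm]
  ring

theorem binForm_nondegenerate {a b : F}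
    (hab : ∀ z₁ z₂ : F, z₁ ^ 2 + a * z₁ * z₂ + b * z₂ ^ 2 = 0 → z₁ = 0 ∧ z₂ = 0) :
    (QuadraticMap.polarBilin (binForm a b)).Nondegenerate := by
  have hd : a ^ 2 - 4 * b ≠ 0 := by
    by_cases h2 : (2 : F) = 0
    · intro h
      have ha : a = 0 := by
        have : a ^ 2 = 0 := by linear_combination h + (2 * b) * h2
        exact pow_eq_zero_iff (by norm_num) |>.1 this
      have h2' : ringChar F = 2 := by
        by_contra hne
        exact Ring.two_ne_zero hne h2
      obtain ⟨x, hx⟩ := FiniteField.isSquare_of_char_two h2' (-b)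
      have := hab x 1 (by rw [ha]; linear_combination -hx)
      exact one_ne_zero this.2
    · exact CfsgLib.StdForms.disc_ne_zero_of_anisotropic h2 hab
  refine CfsgLib.StdForms.nondegenerate_of_sep _ fun x hx => ?_
  have key : ∀ y : Fin 2 → F, QuadraticMap.polar (⇑(binForm a b)) x y =
      2 * (x 0 * y 0) + a * (x 0 * y 1 + y 0 * x 1) + 2 * b * (x 1 * y 1) := fun y => by
    simp only [QuadraticMap.polar, coe_binForm, Pi.add_apply]
    ring
  have h0 := hx ![1, 0]
  have h1 := hx ![0, 1]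
  rw [key] at h0 h1
  simp at h0 h1
  have e0 : (a ^ 2 - 4 * b) * x 0 = 0 := by linear_combination a * h1 - 2 * b * h0
  have e1 : (a ^ 2 - 4 * b) * x 1 = 0 := by linear_combination a * h0 - 2 * h1
  funext i
  fin_cases i
  · exact (mul_eq_zero.1 e0).resolve_left hd
  · exact (mul_eq_zero.1 e1).resolve_left hd

theorem sqForm_nondegenerate (h2 : (2 : F) ≠ 0) :
    (QuadraticMap.polarBilin (sqForm F)).Nondegenerate := by
  refine CfsgLib.StdForms.nondegenerate_of_sep _ fun x hx => funext fun i => ?_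
  have := hx 1
  simp [QuadraticMap.polar, sqForm] at this
  have h : 2 * x () = 0 := by linear_combination this
  exact (mul_eq_zero.1 h).resolve_left h2

omit [Fintype F] in
theorem hsum_plus (m : ℕ) (v : (Fin m ⊕ Fin m) ⊕ Fin 0 → F) :
    hsum m (⇑(0 : QuadraticForm F (Fin 0 → F))) v = Cfsg.quadFormPlus m F (v ∘ Sum.inl) := by
  simp [hsum, Cfsg.quadFormPlus]

omit [Fintype F] in
theorem hsum_odd (m : ℕ) (v : (Fin m ⊕ Fin m) ⊕ Unit → F) :
    hsum m (⇑(sqForm F)) v = Cfsg.quadFormOdd m F (v ∘ Equiv.sumComm Unit (Fin m ⊕ Fin m)) := by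
  simp [hsum, sqForm, Cfsg.quadFormOdd]
  ring

omit [Fintype F] in
theorem hsum_minus (m : ℕ) (a b : F) :
    hsum m (⇑(binForm a b)) = Cfsg.quadFormMinus m F a b := by
  funext v
  simp [hsum, coe_binForm, Cfsg.quadFormMinus]

theorem natCast_card_zero_hsum_eq {κ : Type} [Fintype κ] [DecidableEq κ] (f : (κ → F) → F) (m : ℕ)
    (hF : Fintype.card F = q) :
    (q : ℤ) * Nat.card {v // hsum m f v = 0} - (q : ℤ) ^ (2 * m + Fintype.card κ) =
      (q : ℤ) ^ m * ((q : ℤ) * Nat.card {w // f w = 0} - (q : ℤ) ^ Fintype.card κ) := by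
  rw [← hF]; exact card_zero_hsum f m

/-- Singular vectors of the plus form. -/
theorem card_zero_hsum_plus (hF : Fintype.card F = q) (k : ℕ) :
    Nat.card {v // hsum (k + 1) (⇑(0 : QuadraticForm F (Fin 0 → F))) v = 0} + q ^ k =
      q ^ (2 * k + 1) + q ^ (k + 1) := by
  have h := natCast_card_zero_hsum_eq (⇑(0 : QuadraticForm F (Fin 0 → F))) (k + 1) hF
  have h0 : Nat.card {w : Fin 0 → F // (0 : QuadraticForm F (Fin 0 → F)) w = 0} = 1 := by simp
  rw [h0, Fintype.card_fin] at h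
  have hq : (q : ℤ) ≠ 0 := by
    have := Fintype.card_pos (α := F); rw [hF] at this; omega
  have h' : (Nat.card {v // hsum (k + 1) (⇑(0 : QuadraticForm F (Fin 0 → F))) v = 0} : ℤ) + q ^ k =
      q ^ (2 * k + 1) + q ^ (k + 1) := mul_left_cancel₀ hq (by
    linear_combination (norm := ring_nf) h)
  exact_mod_cast h'

/-- Singular vectors of the odd form. -/
theorem card_zero_hsum_odd (hF : Fintype.card F = q) (k : ℕ) :
    Nat.card {v // hsum k (⇑(sqForm F)) v = 0} = q ^ (2 * k) := by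
  have h := natCast_card_zero_hsum_eq (⇑(sqForm F)) k hF
  have h0 : Nat.card {w : Unit → F // sqForm F w = 0} = 1 := by
    rw [Nat.card_eq_one_iff_unique]
    refine ⟨⟨fun a b => Subtype.ext (funext fun i => ?_)⟩, ⟨⟨0, QuadraticMap.map_zero _⟩⟩⟩
    have ha := a.2
    have hb := b.2
    simp [sqForm] at ha hb
    rw [show i = () from rfl, ha, hb]
  rw [h0, Fintype.card_unit] at h
  have hq : (q : ℤ) ≠ 0 := by
    have := Fintype.card_pos (α := F); rw [hF] at this; omega
  have h' : (Nat.card {v // hsum k (⇑(sqForm F)) v = 0} : ℤ) = q ^ (2 * k) :=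
    mul_left_cancel₀ hq (by linear_combination (norm := ring_nf) h)
  exact_mod_cast h'

/-- Singular vectors of the minus form. -/
theorem card_zero_hsum_minus (hF : Fintype.card F = q) (k : ℕ) {a b : F}
    (hab : ∀ z₁ z₂ : F, z₁ ^ 2 + a * z₁ * z₂ + b * z₂ ^ 2 = 0 → z₁ = 0 ∧ z₂ = 0) :
    Nat.card {v // hsum k (⇑(binForm a b)) v = 0} + q ^ (k + 1) = q ^ (2 * k + 1) + q ^ k := by
  have h := natCast_card_zero_hsum_eq (⇑(binForm a b)) k hF
  have h0 : Nat.card {w : Fin 2 → F // binForm a b w = 0} = 1 := by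
    rw [Nat.card_eq_one_iff_unique]
    refine ⟨⟨fun x y => Subtype.ext (funext fun i => ?_)⟩, ⟨⟨0, QuadraticMap.map_zero _⟩⟩⟩
    have hx : (fun v : Fin 2 → F => v 0 ^ 2 + a * v 0 * v 1 + b * v 1 ^ 2) x.1 = 0 := by
      rw [← coe_binForm]; exact x.2
    have hy : (fun v : Fin 2 → F => v 0 ^ 2 + a * v 0 * v 1 + b * v 1 ^ 2) y.1 = 0 := by
      rw [← coe_binForm]; exact y.2
    have hx' := hab _ _ hx
    have hy' := hab _ _ hy
    fin_cases i
    · exact hx'.1.trans hy'.1.symm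
    · exact hx'.2.trans hy'.2.symm
  rw [h0, Fintype.card_fin] at h
  have hq : (q : ℤ) ≠ 0 := by
    have := Fintype.card_pos (α := F); rw [hF] at this; omega
  have h' : (Nat.card {v // hsum k (⇑(binForm a b)) v = 0} : ℤ) + q ^ (k + 1) =
      q ^ (2 * k + 1) + q ^ k := mul_left_cancel₀ hq (by linear_combination (norm := ring_nf) h)
  exact_mod_cast h'

theorem card_zero_quadFormPlus (hF : Fintype.card F = q) (m : ℕ) (hm : 1 ≤ m) :
    Nat.card {v : Fin m ⊕ Fin m → F // Cfsg.quadFormPlus m F v = 0} =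
      q ^ (2 * m - 1) + q ^ m - q ^ (m - 1) := by
  obtain ⟨k, rfl⟩ : ∃ k, m = k + 1 := ⟨m - 1, by omega⟩
  have h := card_zero_hsum_plus hF k
  rw [Nat.card_congr ((Equiv.arrowCongr (Equiv.sumEmpty (Fin (k + 1) ⊕ Fin (k + 1)) (Fin 0))
    (Equiv.refl F)).subtypeEquiv (q := fun v => Cfsg.quadFormPlus (k + 1) F v = 0) fun v => by
      rw [hsum_plus]; rfl)] at h
  rw [show 2 * (k + 1) - 1 = 2 * k + 1 by omega, Nat.add_sub_cancel]
  omega

theorem card_zero_quadFormMinus (hF : Fintype.card F = q) (m : ℕ) (hm : 1 ≤ m) (a b : F)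
    (hab : ∀ z₁ z₂ : F, z₁ ^ 2 + a * z₁ * z₂ + b * z₂ ^ 2 = 0 → z₁ = 0 ∧ z₂ = 0) :
    Nat.card {v : (Fin (m - 1) ⊕ Fin (m - 1)) ⊕ Fin 2 → F // Cfsg.quadFormMinus (m - 1) F a b v = 0} =
      q ^ (2 * m - 1) + q ^ (m - 1) - q ^ m := by
  have h := card_zero_hsum_minus hF (m - 1) hab
  rw [hsum_minus, show 2 * (m - 1) + 1 = 2 * m - 1 by omega, Nat.sub_add_cancel hm] at h
  omega

theorem card_zero_quadFormOdd (hF : Fintype.card F = q) (m : ℕ) :
    Nat.card {v : Unit ⊕ (Fin m ⊕ Fin m) → F // Cfsg.quadFormOdd m F v = 0} = q ^ (2 * m) := by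
  rw [← card_zero_hsum_odd hF m]
  exact (Nat.card_congr ((Equiv.arrowCongr (Equiv.sumComm Unit (Fin m ⊕ Fin m)).symm
    (Equiv.refl F)).subtypeEquiv fun v => by
      rw [hsum_odd]; rfl)).symm

/-- `|O⁺_{2m}(q)|`. -/
theorem card_isometryGroup_quadFormPlus (hF : Fintype.card F = q) (m : ℕ) (hm : 1 ≤ m) :
    Nat.card (Cfsg.isometryGroup F (Cfsg.quadFormPlus m F)) =
      2 * q ^ (m * (m - 1)) * (q ^ m - 1) * ∏ i ∈ Finset.range (m - 1), (q ^ (2 * (i + 1)) - 1) := by
  have key : ∀ k, Nat.card (Cfsg.isometryGroup F (hsum (k + 1) ⇑(0 : QuadraticForm F (Fin 0 → F)))) =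
      2 * q ^ ((k + 1) * k) * (q ^ (k + 1) - 1) * ∏ i ∈ Finset.range k, (q ^ (2 * (i + 1)) - 1) := by
    have hnd : (QuadraticMap.polarBilin (0 : QuadraticForm F (Fin 0 → F))).Nondegenerate :=
      CfsgLib.StdForms.nondegenerate_of_sep _ fun x _ => Subsingleton.elim _ _
    have hz : ∀ k, Nat.card {v // hsum (k + 1) (⇑(0 : QuadraticForm F (Fin 0 → F))) v = 0} - 1 =
        (q ^ (k + 1) - 1) * (q ^ k + 1) := by
      intro k
      have h := card_zero_hsum_plus hF k
      have h1 : 1 ≤ q ^ (k + 1) := Nat.one_le_pow _ _ (hF ▸ Fintype.card_pos)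
      obtain ⟨B, hB⟩ : ∃ B, q ^ (k + 1) = B + 1 := ⟨_, (Nat.sub_add_cancel h1).symm⟩
      rw [hB, Nat.add_sub_cancel]
      rw [show q ^ (2 * k + 1) = q ^ (k + 1) * q ^ k by rw [← pow_add]; ring_nf, hB] at h
      have h2 : B * (q ^ k + 1) + 1 + q ^ k = (B + 1) * q ^ k + (B + 1) := by ring
      omega
    intro k
    induction k with
    | zero =>
      rw [card_isometryGroup_hsum_succ 0 _ hnd, hz, card_isometryGroup_hsum_zero]
      have : Nat.card (Cfsg.isometryGroup F ⇑(0 : QuadraticForm F (Fin 0 → F))) = 1 := by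
        rw [Nat.card_eq_one_iff_unique]
        exact ⟨⟨fun x y => Subtype.ext (Units.ext (Subsingleton.elim _ _))⟩, inferInstance⟩
      rw [this]
      simp [mul_comm]
    | succ k ih =>
      rw [card_isometryGroup_hsum_succ (k + 1) _ hnd, hz, ih, Finset.prod_range_succ, hF,
        Fintype.card_fin,
        show q ^ (2 * (k + 1)) - 1 = (q ^ (k + 1) + 1) * (q ^ (k + 1) - 1) by
          rw [← Nat.sq_sub_sq, one_pow, ← pow_mul, mul_comm]]
      ring
  obtain ⟨k, rfl⟩ : ∃ k, m = k + 1 := ⟨m - 1, by omega⟩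
  obtain ⟨e⟩ := nonempty_isometryGroup_congr (Equiv.sumEmpty (Fin (k + 1) ⊕ Fin (k + 1)) (Fin 0))
    (hsum (k + 1) ⇑(0 : QuadraticForm F (Fin 0 → F)))
  have h := key k
  rw [Nat.card_congr e.toEquiv] at h
  have hfun : (fun v => hsum (k + 1) (⇑(0 : QuadraticForm F (Fin 0 → F)))
      (v ∘ Equiv.sumEmpty (Fin (k + 1) ⊕ Fin (k + 1)) (Fin 0))) = Cfsg.quadFormPlus (k + 1) F := by
    funext v
    rw [hsum_plus]
    rfl
  rw [hfun] at h
  rw [Nat.add_sub_cancel]
  exact h

/-- `|O_{2m+1}(q)|`, `q` odd. -/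
theorem card_isometryGroup_quadFormOdd (hF : Fintype.card F = q) (hodd : Odd q) (m : ℕ) :
    Nat.card (Cfsg.isometryGroup F (Cfsg.quadFormOdd m F)) =
      2 * q ^ (m ^ 2) * ∏ i ∈ Finset.range m, (q ^ (2 * (i + 1)) - 1) := by
  have h2 : (2 : F) ≠ 0 := Ring.two_ne_zero fun hc => by
    have h := FiniteField.even_card_of_char_two hc
    rw [hF] at h
    exact (Nat.not_even_iff_odd.2 hodd) (Nat.even_iff.2 h)
  have key : ∀ k, Nat.card (Cfsg.isometryGroup F (hsum k ⇑(sqForm F))) =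
      2 * q ^ (k ^ 2) * ∏ i ∈ Finset.range k, (q ^ (2 * (i + 1)) - 1) := by
    intro k
    induction k with
    | zero =>
      rw [card_isometryGroup_hsum_zero]
      have hmem : ∀ g : GL Unit F, g ∈ Cfsg.isometryGroup F ⇑(sqForm F) ↔
          g.1 () () * g.1 () () = 1 := by
        intro g
        rw [CfsgLib.FieldEmb.mem_isometryGroup]
        constructor
        · intro h
          simpa [sqForm, Matrix.mulVec, dotProduct] using h 1
        · intro h v
          simp [sqForm, Matrix.mulVec, dotProduct]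
          linear_combination (v () * v ()) * h
      let e : Cfsg.isometryGroup F ⇑(sqForm F) ≃ ({1, -1} : Set F) :=
        { toFun := fun g => ⟨g.1.1 () (), mul_self_eq_one_iff.1 ((hmem g.1).1 g.2)⟩
          invFun := fun x => ⟨GeneralLinearGroup.mkOfDetNeZero (Matrix.of fun _ _ => x.1) (by
              rcases x.2 with h | (h : x.1 = -1) <;> simp [h, Matrix.det_unique]), (hmem _).2 (by
              rcases x.2 with h | (h : x.1 = -1) <;> simp [GeneralLinearGroup.mkOfDetNeZero, h])⟩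
          left_inv := fun g => Subtype.ext (Units.ext (by ext; rfl))
          right_inv := fun x => rfl }
      rw [Nat.card_congr e, Nat.card_coe_set_eq, Set.ncard_pair]
      · simp
      · intro h
        exact h2 (by linear_combination h)
    | succ k ih =>
      rw [card_isometryGroup_hsum_succ k _ (sqForm_nondegenerate h2), card_zero_hsum_odd hF, ih, hF,
        Finset.prod_range_succ, Fintype.card_unit]
      ring
  obtain ⟨e⟩ := nonempty_isometryGroup_congr (Equiv.sumComm Unit (Fin m ⊕ Fin m))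
    (Cfsg.quadFormOdd m F)
  have hfun : (fun v => Cfsg.quadFormOdd m F (v ∘ Equiv.sumComm Unit (Fin m ⊕ Fin m))) =
      hsum m ⇑(sqForm F) := funext fun v => (hsum_odd m v).symm
  rw [hfun] at e
  rw [Nat.card_congr e.toEquiv, key]

/-- `|O⁻_{2m}(q)|`. -/
theorem card_isometryGroup_quadFormMinus (hF : Fintype.card F = q) (m : ℕ) (hm : 1 ≤ m) (a b : F)
    (hab : ∀ z₁ z₂ : F, z₁ ^ 2 + a * z₁ * z₂ + b * z₂ ^ 2 = 0 → z₁ = 0 ∧ z₂ = 0) :
    Nat.card (Cfsg.isometryGroup F (Cfsg.quadFormMinus (m - 1) F a b)) =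
      2 * q ^ (m * (m - 1)) * (q ^ m + 1) * ∏ i ∈ Finset.range (m - 1), (q ^ (2 * (i + 1)) - 1) := by
  have key : ∀ k, Nat.card (Cfsg.isometryGroup F (hsum k ⇑(binForm a b))) =
      2 * q ^ ((k + 1) * k) * (q ^ (k + 1) + 1) * ∏ i ∈ Finset.range k, (q ^ (2 * (i + 1)) - 1) := by
    have hz : ∀ k, Nat.card {v // hsum (k + 1) (⇑(binForm a b)) v = 0} - 1 =
        (q ^ (k + 2) + 1) * (q ^ (k + 1) - 1) := by
      intro k
      have h := card_zero_hsum_minus hF (k + 1) hab
      have h1 : 1 ≤ q ^ (k + 1) := Nat.one_le_pow _ _ (hF ▸ Fintype.card_pos)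
      obtain ⟨B, hB⟩ : ∃ B, q ^ (k + 1) = B + 1 := ⟨_, (Nat.sub_add_cancel h1).symm⟩
      rw [hB, Nat.add_sub_cancel]
      rw [show q ^ (2 * (k + 1) + 1) = q ^ (k + 2) * q ^ (k + 1) by rw [← pow_add]; ring_nf, hB] at h
      have h2 : (q ^ (k + 2) + 1) * B + 1 + q ^ (k + 2) = q ^ (k + 2) * (B + 1) + (B + 1) := by ring
      rw [show k + 1 + 1 = k + 2 from rfl] at h
      omega
    intro k
    induction k with
    | zero =>
      rw [card_isometryGroup_hsum_zero, coe_binForm]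
      obtain ⟨e⟩ := isometryGroup_anisotropic_plane a b hab
      rw [Nat.card_congr e.toEquiv, DihedralGroup.nat_card, hF]
      simp
    | succ k ih =>
      rw [card_isometryGroup_hsum_succ k _ (binForm_nondegenerate hab), hz, ih, hF,
        Finset.prod_range_succ, Fintype.card_fin,
        show q ^ (2 * (k + 1)) - 1 = (q ^ (k + 1) + 1) * (q ^ (k + 1) - 1) by
          rw [← Nat.sq_sub_sq, one_pow, ← pow_mul, mul_comm]]
      ring
  rw [← hsum_minus, key, Nat.sub_add_cancel hm]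

end standard

end CfsgLib.Forms4
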