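import Cfsg.Agent.Forms4.OmegaSimple
import Cfsg.Agent.Forms4.OrthogonalOrders
import Cfsg.Agent.S0790
import Cfsg.Agent.S0791

/-!
# Orders and simplicity of `PΩ_{2m+1}(q)`, `PΩ⁺_{2m}(q)`, `PΩ⁻_{2m}(q)`
-/

set_option autoImplicit false

open Matrix CfsgLib.Spinor CfsgLib.Forms CfsgLib.StdForms

namespace CfsgLib.Forms4

section general

variable {F : Type*} [Field F] {ι : Type} [Fintype ι] [DecidableEq ι] {Q : QuadraticForm F (ι → F)}
  (hQ : (QuadraticMap.polarBilin Q).Nondegenerate) (hn : 5 ≤ Fintype.card ι)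

include hQ hn in
theorem card_center_omega_one [Finite F] (P : TwoPairs Q)
    (h : ∀ g ∈ Cfsg.Omega F ⇑Q, mat Q g = -1 → (2 : F) = 0) :
    Nat.card (Subgroup.center ↥(Cfsg.Omega F ⇑Q)) = 1 := by
  rw [Subgroup.card_eq_one]
  refine (Subgroup.eq_bot_iff_forall _).2 fun g hg => ?_
  obtain ⟨r, hr, hgr⟩ := (TwoPairs.mem_center_omega_iff hQ hn P g).1 hg
  refine Subtype.ext (mat_ext Q ?_)
  rw [hgr, Subgroup.coe_one, mat_one]
  rcases mul_self_eq_one_iff.1 hr with rfl | rfl
  · rw [one_smul]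
  · rw [neg_smul, one_smul] at hgr ⊢
    have h2 := h _ g.2 hgr
    refine neg_eq_iff_add_eq_zero.2 ?_
    rw [← two_smul F (1 : Matrix ι ι F), h2, zero_smul]

include hQ hn in
theorem card_center_omega_two [Finite F] (P : TwoPairs Q) (h2 : (2 : F) ≠ 0)
    {g : ↥(Cfsg.isometryGroup F ⇑Q)} (hg : g ∈ Cfsg.Omega F ⇑Q) (hgv : mat Q g = -1) :
    Nat.card (Subgroup.center ↥(Cfsg.Omega F ⇑Q)) = 2 := by
  have : Nonempty ι := Fintype.card_pos_iff.1 (by omega)
  have hz : (⟨g, hg⟩ : ↥(Cfsg.Omega F ⇑Q)) ∈ Subgroup.center _ :=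
    (TwoPairs.mem_center_omega_iff hQ hn P _).2 ⟨-1, by ring, by rw [hgv, neg_smul, one_smul]⟩
  rw [Nat.card_eq_two_iff]
  refine ⟨1, ⟨_, hz⟩, fun h => ?_, Set.eq_univ_iff_forall.2 fun x => ?_⟩
  · have h1 : (1 : Matrix ι ι F) = -1 := by
      rw [← hgv]
      exact congrArg (fun z : Subgroup.center ↥(Cfsg.Omega F ⇑Q) => mat Q z.1.1) h
    have h3 := congrFun (congrFun h1 (Classical.arbitrary ι)) (Classical.arbitrary ι)
    simp only [Matrix.one_apply_eq, Matrix.neg_apply] at h3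
    exact h2 (by linear_combination h3)
  · obtain ⟨r, hr, hxr⟩ := (TwoPairs.mem_center_omega_iff hQ hn P x.1).1 x.2
    rcases mul_self_eq_one_iff.1 hr with rfl | rfl
    · refine Or.inl (Subtype.ext (Subtype.ext (mat_ext Q ?_)))
      rw [hxr, one_smul]
      rfl
    · refine Or.inr (Subtype.ext (Subtype.ext (mat_ext Q ?_)))
      rw [hxr, neg_smul, one_smul]
      exact hgv.symm

/-- `|O| = [O : Ω] |Z(Ω)| |PΩ|`. -/
theorem card_isometryGroup_eq (Q : (ι → F) → F) :
    Nat.card (Cfsg.isometryGroup F Q) = (Cfsg.Omega F Q).index *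
      Nat.card (Subgroup.center ↥(Cfsg.Omega F Q)) * Nat.card (Cfsg.POmega F Q) := by
  rw [← (Cfsg.Omega F Q).index_mul_card,
    (Subgroup.center ↥(Cfsg.Omega F Q)).card_eq_card_quotient_mul_card_subgroup]
  ring

end general

section standard

variable {F : Type*} [Field F]

/-- The first two hyperbolic pairs of the plus form. -/
noncomputable def plusPairs (m : ℕ) (hm : 2 ≤ m) : TwoPairs (plusQ m F) where
  e := Pi.single (.inl ⟨0, by omega⟩) 1
  f := Pi.single (.inr ⟨0, by omega⟩) 1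
  a := Pi.single (.inl ⟨1, by omega⟩) 1
  b := Pi.single (.inr ⟨1, by omega⟩) 1
  qe := by simp [plusQ_apply, Cfsg.quadFormPlus, Pi.single_apply]
  qf := by simp [plusQ_apply, Cfsg.quadFormPlus, Pi.single_apply]
  qa := by simp [plusQ_apply, Cfsg.quadFormPlus, Pi.single_apply]
  qb := by simp [plusQ_apply, Cfsg.quadFormPlus, Pi.single_apply]
  ef := by simp [polar_plus, Pi.single_apply]
  ab := by simp [polar_plus, Pi.single_apply]
  ea := by simp [polar_plus, Pi.single_apply]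
  eb := by simp [polar_plus, Pi.single_apply]
  fa := by simp [polar_plus, Pi.single_apply]
  fb := by simp [polar_plus, Pi.single_apply]

/-- The first two hyperbolic pairs of the odd form. -/
noncomputable def oddPairs (m : ℕ) (hm : 2 ≤ m) : TwoPairs (oddQ m F) where
  e := Pi.single (.inr (.inl ⟨0, by omega⟩)) 1
  f := Pi.single (.inr (.inr ⟨0, by omega⟩)) 1
  a := Pi.single (.inr (.inl ⟨1, by omega⟩)) 1
  b := Pi.single (.inr (.inr ⟨1, by omega⟩)) 1
  qe := by simp [oddQ_apply, Cfsg.quadFormOdd, Pi.single_apply]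
  qf := by simp [oddQ_apply, Cfsg.quadFormOdd, Pi.single_apply]
  qa := by simp [oddQ_apply, Cfsg.quadFormOdd, Pi.single_apply]
  qb := by simp [oddQ_apply, Cfsg.quadFormOdd, Pi.single_apply]
  ef := by simp [polar_odd, Pi.single_apply]
  ab := by simp [polar_odd, Pi.single_apply]
  ea := by simp [polar_odd, Pi.single_apply]
  eb := by simp [polar_odd, Pi.single_apply]
  fa := by simp [polar_odd, Pi.single_apply]
  fb := by simp [polar_odd, Pi.single_apply]

/-- The first two hyperbolic pairs of the minus form. -/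
noncomputable def minusPairs (k : ℕ) (hk : 2 ≤ k) (a b : F) : TwoPairs (minusQ k F a b) where
  e := Pi.single (.inl (.inl ⟨0, by omega⟩)) 1
  f := Pi.single (.inl (.inr ⟨0, by omega⟩)) 1
  a := Pi.single (.inl (.inl ⟨1, by omega⟩)) 1
  b := Pi.single (.inl (.inr ⟨1, by omega⟩)) 1
  qe := by simp [minusQ_apply, Cfsg.quadFormMinus, Pi.single_apply]
  qf := by simp [minusQ_apply, Cfsg.quadFormMinus, Pi.single_apply]
  qa := by simp [minusQ_apply, Cfsg.quadFormMinus, Pi.single_apply]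
  qb := by simp [minusQ_apply, Cfsg.quadFormMinus, Pi.single_apply]
  ef := by simp [polar_minus, Pi.single_apply]
  ab := by simp [polar_minus, Pi.single_apply]
  ea := by simp [polar_minus, Pi.single_apply]
  eb := by simp [polar_minus, Pi.single_apply]
  fa := by simp [polar_minus, Pi.single_apply]
  fb := by simp [polar_minus, Pi.single_apply]

variable [Fintype F]

theorem disc_ne_zero {a b : F}
    (hab : ∀ z₁ z₂ : F, z₁ ^ 2 + a * z₁ * z₂ + b * z₂ ^ 2 = 0 → z₁ = 0 ∧ z₂ = 0) :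
    a ^ 2 - 4 * b ≠ 0 := by
  by_cases h2 : (2 : F) = 0
  · intro h
    have ha : a = 0 := by
      have : a ^ 2 = 0 := by linear_combination h + (2 * b) * h2
      exact pow_eq_zero_iff (by norm_num) |>.1 this
    have h2' : ringChar F = 2 := by
      by_contra hne
      exact Ring.two_ne_zero hne h2
    obtain ⟨x, hx⟩ := FiniteField.isSquare_of_char_two h2' (-b)
    have := hab x 1 (by rw [ha]; linear_combination -hx)
    exact one_ne_zero this.2
  · exact disc_ne_zero_of_anisotropic h2 hab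

theorem two_eq_zero_iff_even {q : ℕ} (hF : Fintype.card F = q) : (2 : F) = 0 ↔ Even q := by
  subst hF
  constructor
  · intro h
    have h' : ringChar F = 2 := by
      by_contra hne
      exact Ring.two_ne_zero hne h
    exact Nat.even_iff.2 (FiniteField.even_card_of_char_two h')
  · intro h
    by_contra h2
    have h' : ringChar F ≠ 2 := fun hc => h2 (by
      have := ringChar.eq_iff.1 hc
      exact CharTwo.two_eq_zero)
    have := FiniteField.odd_card_of_char_ne_two h'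
    rw [Nat.even_iff] at h
    omega

theorem isSimpleGroup_pOmegaOdd (hodd : Odd (Fintype.card F)) (m : ℕ) (hm : 3 ≤ m) :
    IsSimpleGroup (Cfsg.POmega F (Cfsg.quadFormOdd m F)) := by
  have h2 : (2 : F) ≠ 0 := fun h =>
    (Nat.not_even_iff_odd.2 hodd) ((two_eq_zero_iff_even rfl).1 h)
  rw [← coe_oddQ]
  exact TwoPairs.isSimpleGroup_pOmega (oddQ_nondegenerate h2 m) (by simp; omega)
    (oddPairs m (by omega))

theorem isSimpleGroup_pOmegaPlus (m : ℕ) (hm : 4 ≤ m) :
    IsSimpleGroup (Cfsg.POmega F (Cfsg.quadFormPlus m F)) := by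
  rw [← coe_plusQ]
  exact TwoPairs.isSimpleGroup_pOmega (plusQ_nondegenerate m) (by simp; omega)
    (plusPairs m (by omega))

theorem isSimpleGroup_pOmegaMinus (m : ℕ) (hm : 4 ≤ m) (a b : F)
    (hab : ∀ z₁ z₂ : F, z₁ ^ 2 + a * z₁ * z₂ + b * z₂ ^ 2 = 0 → z₁ = 0 ∧ z₂ = 0) :
    IsSimpleGroup (Cfsg.POmega F (Cfsg.quadFormMinus (m - 1) F a b)) := by
  rw [← coe_minusQ]
  exact TwoPairs.isSimpleGroup_pOmega (minusQ_nondegenerate _ (disc_ne_zero hab)) (by simp; omega)
    (minusPairs (m - 1) (by omega) a b)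

variable {q : ℕ}

theorem card_pOmegaOdd (hF : Fintype.card F = q) (hodd : Odd q) (m : ℕ) (hm : 3 ≤ m) :
    2 * Nat.card (Cfsg.POmega F (Cfsg.quadFormOdd m F)) =
      q ^ (m ^ 2) * ∏ i ∈ Finset.range m, (q ^ (2 * (i + 1)) - 1) := by
  have h2 : (2 : F) ≠ 0 := fun h =>
    (Nat.not_even_iff_odd.2 hodd) ((two_eq_zero_iff_even hF).1 h)
  have hQ := oddQ_nondegenerate h2 m
  have hn : 5 ≤ Fintype.card (Unit ⊕ (Fin m ⊕ Fin m)) := by simp; omega
  have hO := card_isometryGroup_quadFormOdd hF hodd m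
  rw [← coe_oddQ] at hO ⊢
  rw [card_isometryGroup_eq, index_omega_odd h2 hQ (by omega),
    card_center_omega_one hQ hn (oddPairs m (by omega)) (fun g hg hgv => ?_)] at hO
  · linarith
  · exfalso
    have h1 := (mem_special_iff g).1 (omega_le_special hg)
    rw [hgv, Matrix.det_neg, Matrix.det_one, mul_one] at h1
    have : Odd (Fintype.card (Unit ⊕ (Fin m ⊕ Fin m))) := ⟨m, by simp; ring⟩
    rw [this.neg_one_pow] at h1
    exact h2 (by linear_combination -h1)

theorem gcd_four_of_mod {k : ℕ} (hodd : Odd k) :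
    (k % 4 = 1 → Nat.gcd 4 (k - 1) = 4 ∧ Nat.gcd 4 (k + 1) = 2) ∧
      (k % 4 = 3 → Nat.gcd 4 (k - 1) = 2 ∧ Nat.gcd 4 (k + 1) = 4) := by
  constructor <;> intro h <;> constructor <;> rw [Nat.gcd_rec]
  · rw [show (k - 1) % 4 = 0 by omega]; rfl
  · rw [show (k + 1) % 4 = 2 by omega]; rfl
  · rw [show (k - 1) % 4 = 2 by omega]; rfl
  · rw [show (k + 1) % 4 = 0 by omega]; rfl

theorem gcd_four_of_even {k : ℕ} (hev : Even k) (hk : 0 < k) :
    Nat.gcd 4 (k - 1) = 1 ∧ Nat.gcd 4 (k + 1) = 1 := by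
  obtain ⟨r, rfl⟩ := hev
  have h2 : ∀ j : ℕ, j % 2 = 1 → Nat.gcd 4 j = 1 := fun j hj => by
    rw [Nat.gcd_rec]
    rcases (show j % 4 = 1 ∨ j % 4 = 3 by omega) with h | h <;> rw [h] <;> rfl
  exact ⟨h2 _ (by omega), h2 _ (by omega)⟩

theorem card_pOmegaPlus (hF : Fintype.card F = q) (m : ℕ) (hm : 4 ≤ m) :
    Nat.gcd 4 (q ^ m - 1) * Nat.card (Cfsg.POmega F (Cfsg.quadFormPlus m F)) =
      q ^ (m * (m - 1)) * (q ^ m - 1) * ∏ i ∈ Finset.range (m - 1), (q ^ (2 * (i + 1)) - 1) := by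
  have hQ := plusQ_nondegenerate (F := F) m
  have hn : 5 ≤ Fintype.card (Fin m ⊕ Fin m) := by simp; omega
  have P := plusPairs (F := F) m (by omega)
  have hO := card_isometryGroup_quadFormPlus hF m (by omega)
  have hq : 0 < q := hF ▸ Fintype.card_pos
  rw [← coe_plusQ] at hO ⊢
  rw [card_isometryGroup_eq] at hO
  rcases Nat.even_or_odd q with hev | hodd
  · have h2 : (2 : F) = 0 := (two_eq_zero_iff_even hF).2 hev
    have : CharP F 2 := CharTwo.of_one_ne_zero_of_two_eq_zero one_ne_zero h2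
    rw [index_omega_charTwo hQ (by omega) (Or.inr (by omega)),
      card_center_omega_one hQ hn P (fun _ _ _ => h2)] at hO
    rw [(gcd_four_of_even (hev.pow_of_ne_zero (by omega : m ≠ 0)) (pow_pos hq m)).1]
    linarith
  · have h2 : (2 : F) ≠ 0 := fun h => (Nat.not_even_iff_odd.2 hodd) ((two_eq_zero_iff_even hF).1 h)
    rw [index_omega_odd h2 hQ (by omega)] at hO
    have hiff := Cfsg.Agent.S0790.result hF hodd m (by omega)
    rw [← coe_plusQ] at hiff
    by_cases h : q ^ m % 4 = 1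
    · obtain ⟨g, hg, hgv⟩ := hiff.2 h
      rw [card_center_omega_two hQ hn P h2 hg hgv] at hO
      rw [((gcd_four_of_mod (hodd.pow)).1 h).1]
      linarith
    · have h3 : q ^ m % 4 = 3 := by
        have := Nat.odd_iff.1 (hodd.pow (n := m))
        omega
      rw [card_center_omega_one hQ hn P (fun g hg hgv => absurd (hiff.1 ⟨g, hg, hgv⟩) h)] at hO
      rw [((gcd_four_of_mod (hodd.pow)).2 h3).1]
      linarith

theorem card_pOmegaMinus (hF : Fintype.card F = q) (m : ℕ) (hm : 4 ≤ m) (a b : F)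
    (hab : ∀ z₁ z₂ : F, z₁ ^ 2 + a * z₁ * z₂ + b * z₂ ^ 2 = 0 → z₁ = 0 ∧ z₂ = 0) :
    Nat.gcd 4 (q ^ m + 1) * Nat.card (Cfsg.POmega F (Cfsg.quadFormMinus (m - 1) F a b)) =
      q ^ (m * (m - 1)) * (q ^ m + 1) * ∏ i ∈ Finset.range (m - 1), (q ^ (2 * (i + 1)) - 1) := by
  have hQ := minusQ_nondegenerate (m - 1) (disc_ne_zero hab)
  have hn : 5 ≤ Fintype.card ((Fin (m - 1) ⊕ Fin (m - 1)) ⊕ Fin 2) := by simp; omega
  have P := minusPairs (m - 1) (by omega) a b
  have hO := card_isometryGroup_quadFormMinus hF m (by omega) a b hab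
  have hq : 0 < q := hF ▸ Fintype.card_pos
  rw [← coe_minusQ] at hO ⊢
  rw [card_isometryGroup_eq] at hO
  rcases Nat.even_or_odd q with hev | hodd
  · have h2 : (2 : F) = 0 := (two_eq_zero_iff_even hF).2 hev
    have : CharP F 2 := CharTwo.of_one_ne_zero_of_two_eq_zero one_ne_zero h2
    rw [index_omega_charTwo hQ (by omega) (Or.inr (by omega)),
      card_center_omega_one hQ hn P (fun _ _ _ => h2)] at hO
    rw [(gcd_four_of_even (hev.pow_of_ne_zero (by omega : m ≠ 0)) (pow_pos hq m)).2]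
    linarith
  · have h2 : (2 : F) ≠ 0 := fun h => (Nat.not_even_iff_odd.2 hodd) ((two_eq_zero_iff_even hF).1 h)
    rw [index_omega_odd h2 hQ (by omega)] at hO
    have hiff := Cfsg.Agent.S0791.result hF hodd m (by omega) a b hab
    rw [← coe_minusQ] at hiff
    by_cases h : q ^ m % 4 = 3
    · obtain ⟨g, hg, hgv⟩ := hiff.2 h
      rw [card_center_omega_two hQ hn P h2 hg hgv] at hO
      rw [((gcd_four_of_mod (hodd.pow)).2 h).2]
      linarith
    · have h3 : q ^ m % 4 = 1 := by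
        have := Nat.odd_iff.1 (hodd.pow (n := m))
        omega
      rw [card_center_omega_one hQ hn P (fun g hg hgv => absurd (hiff.1 ⟨g, hg, hgv⟩) h)] at hO
      rw [((gcd_four_of_mod (hodd.pow)).1 h3).2]
      linarith

end standard

end CfsgLib.Forms4
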