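import Cfsg.Agent.Forms.UnitaryTransvections

/-!
# Simplicity of the projective special unitary groups

Iwasawa's argument on the isotropic points, done by hand: a non-central normal subgroup is transitive
on the isotropic points, so together with the abelian group of transvections at one point it generates
the whole group, which is perfect.
-/

set_option autoImplicit false

namespace CfsgLib.Forms4

open Matrix CfsgLib.RepBounds.Unit

variable {F : Type*} [Field F] [Fintype F] (C : ConjField F) {κ : Type*} [Fintype κ] [DecidableEq κ]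
  [Nonempty κ]

local notation "ι" => Fin 2 ⊕ κ
local notation "G" => suG C ι
local notation "ee" => vE C κ
local notation "ff" => vF C κ

omit [Nonempty κ] in
theorem vE_ne_zero : (ee : ι → F) ≠ 0 := fun h => by
  have := herm_vE_vF C (κ := κ)
  rw [h, herm_zero_left] at this
  exact zero_ne_one this

/-- Every non-zero isotropic vector has an isotropic non-orthogonal partner. -/
theorem exists_partner {v : ι → F} (hv : herm C v v = 0) (hv0 : v ≠ 0) :
    ∃ y, herm C y y = 0 ∧ herm C v y ≠ 0 := by
  obtain ⟨t, -, ht⟩ := exists_to_vE C hv hv0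
  refine ⟨app C t⁻¹ ff, by rw [herm_app, herm_vF_vF], ?_⟩
  have hv' : v = app C t⁻¹ ee := by rw [← ht, app_inv_app]
  rw [hv', herm_app, herm_vE_vF]
  exact one_ne_zero

/-- An element fixing every isotropic line is central. -/
theorem mem_center_of_fix_lines (h : ¬ (Fintype.card ι = 3 ∧ C.q = 2)) (k : G)
    (hk : ∀ v, herm C v v = 0 → ∃ a : F, app C k v = a • v) : k ∈ Subgroup.center G := by
  have key : ∀ v, herm C v v = 0 → v ≠ 0 → ∃ a : F, app C k v = a • v ∧ a * C.σ a = 1 := by
    intro x hx hx0
    obtain ⟨y, hy, hxy⟩ := exists_partner C hx hx0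
    obtain ⟨d, hd, hd0⟩ := C.exists_skew_ne
    obtain ⟨α, hα⟩ := hk x hx
    obtain ⟨β, hβ⟩ := hk y hy
    set s := d / herm C x y with hs
    have hsd : s * herm C x y = d := by rw [hs, div_mul_cancel₀ _ hxy]
    have hs0 : s ≠ 0 := div_ne_zero hd0 hxy
    obtain ⟨γ, hγ⟩ := hk (s • x + y) (by
      simp only [herm_add_left, herm_add_right, herm_smul_left, herm_smul_right, hx, hy]
      rw [← conj_herm C x y]
      have h2 : C.σ s * C.σ (herm C x y) = -d := by rw [← map_mul, hsd, C.skew_eq hd]
      linear_combination hsd + h2)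
    rw [app_add, app_smul, hα, hβ] at hγ
    have h1 := congrArg (fun z => herm C z y) hγ
    have h2 := congrArg (fun z => herm C z x) hγ
    have hyx : herm C y x ≠ 0 := by
      rw [← conj_herm C x y]; exact (map_ne_zero C.σ).2 hxy
    simp only [herm_add_left, herm_smul_left, hx, hy, mul_zero, add_zero, zero_add] at h1 h2
    have hαγ : α = γ := mul_right_cancel₀ (mul_ne_zero hs0 hxy) (by linear_combination h1)
    have hβγ : β = γ := mul_right_cancel₀ hyx h2
    refine ⟨α, hα, ?_⟩
    have h3 := herm_app C k x y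
    rw [hα, hβ, herm_smul_left, herm_smul_right, hβγ, ← hαγ, ← mul_assoc] at h3
    exact (mul_eq_right₀ hxy).1 h3
  rw [Subgroup.mem_center_iff]
  intro g
  have hg : g ∈ Subgroup.centralizer {k} := by
    have hle : transvs C ι ≤ Subgroup.centralizer {k} := by
      rw [transvs, Subgroup.closure_le]
      rintro t ⟨v, c, hv, hc, ht⟩
      rw [SetLike.mem_coe, Subgroup.mem_centralizer_singleton_iff]
      by_cases hv0 : v = 0
      · have : t = 1 := suG_ext C fun x => by rw [ht x, hv0, smul_zero, add_zero, app_one]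
        rw [this, one_mul, mul_one]
      obtain ⟨a, ha, ha'⟩ := key v hv hv0
      have hconj : k * t * k⁻¹ = t := by
        refine (ht.conj C k).unique C fun x => ?_
        rw [ha, ht x, herm_smul_right, smul_smul]
        congr 2
        linear_combination (-c * herm C x v) * ha'
      calc t * k = k * t * k⁻¹ * k := by rw [hconj]
        _ = k * t := by group
    exact hle (by rw [transvs_eq_top C h]; exact Subgroup.mem_top g)
  exact Subgroup.mem_centralizer_singleton_iff.1 hg

/-- `x` and `y` span lines in one orbit of `N`. -/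
def Linked (N : Subgroup G) (x y : ι → F) : Prop :=
  ∃ n ∈ N, ∃ a : F, a ≠ 0 ∧ app C n x = a • y

theorem Linked.symm {N : Subgroup G} {x y : ι → F} (h : Linked C N x y) : Linked C N y x := by
  obtain ⟨n, hn, a, ha, h⟩ := h
  refine ⟨n⁻¹, inv_mem hn, a⁻¹, inv_ne_zero ha, ?_⟩
  have h' : y = a⁻¹ • app C n x := by rw [h, inv_smul_smul₀ ha]
  rw [h', app_smul, app_inv_app]

theorem Linked.trans {N : Subgroup G} {x y z : ι → F} (h : Linked C N x y) (h' : Linked C N y z) :
    Linked C N x z := by
  obtain ⟨n, hn, a, ha, h⟩ := h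
  obtain ⟨m, hm, b, hb, h'⟩ := h'
  refine ⟨m * n, mul_mem hm hn, a * b, mul_ne_zero ha hb, ?_⟩
  rw [app_mul, h, app_smul, h', smul_smul]

theorem Linked.map {N : Subgroup G} [N.Normal] {x y : ι → F} (h : Linked C N x y) (g : G) :
    Linked C N (app C g x) (app C g y) := by
  obtain ⟨n, hn, a, ha, h⟩ := h
  refine ⟨g * n * g⁻¹, ‹N.Normal›.conj_mem n hn g, a, ha, ?_⟩
  rw [app_mul, app_mul, app_inv_app, h, app_smul]

theorem linked_smul {N : Subgroup G} (x : ι → F) {a : F} (ha : a ≠ 0) : Linked C N x (a • x) :=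
  ⟨1, one_mem _, a⁻¹, inv_ne_zero ha, by rw [app_one, inv_smul_smul₀ ha]⟩

omit [Nonempty κ] in
/-- Isotropic vectors not orthogonal to `e` are multiples of translates of `f` fixing `e`. -/
theorem exists_translate {x : ι → F} (hx : herm C x x = 0) (hb : herm C x ee ≠ 0) :
    ∃ u : G, app C u ee = ee ∧ x = herm C x ee • app C u ff := by
  set y := (herm C x ee)⁻¹ • x with hy'
  set w := y ∘ Sum.inr
  set c := herm C y ff
  have hd : y = c • ee + ff + inW w := by
    conv_lhs => rw [decomp C y]
    rw [show herm C y ee = 1 by rw [hy', herm_smul_left, inv_mul_cancel₀ hb], one_smul]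
  have hc : c + C.σ c + herm C w w = 0 := by
    have h0 : herm C y y = 0 := by rw [hy', herm_smul_left, herm_smul_right, hx]; simp
    rw [hd] at h0
    simp only [herm_add_left, herm_add_right, herm_smul_left, herm_smul_right, herm_vE_vE,
      herm_vE_vF, herm_vF_vE, herm_vF_vF, herm_vE_inW, herm_vF_inW, herm_inW_vE, herm_inW_vF,
      herm_inW] at h0
    linear_combination h0
  refine ⟨uniEl C w c hc, app_uniEl_vE C w c hc, ?_⟩
  rw [app_uniEl_vF, show ff + inW w + c • ee = y by rw [hd]; abel, hy', smul_inv_smul₀ hb]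

/-- If `e` is linked to one non-orthogonal point, all isotropic points are linked to `e`. -/
theorem linked_all {N : Subgroup G} [N.Normal] {y : ι → F} (hy : herm C y y = 0) (hye : herm C y ee ≠ 0)
    (h : Linked C N ee y) {z : ι → F} (hz : herm C z z = 0) (hz0 : z ≠ 0) : Linked C N ee z := by
  have key : ∀ z, herm C z z = 0 → herm C z ee ≠ 0 → Linked C N ee z := by
    intro z hz hze
    obtain ⟨u, hu, hyu⟩ := exists_translate C hy hye
    obtain ⟨u', hu', hzu⟩ := exists_translate C hz hze
    have h1 : Linked C N ee (app C u ff) := by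
      rw [hyu] at h
      exact (h.trans C (linked_smul C _ (inv_ne_zero hye))).trans C
        (by rw [inv_smul_smul₀ hye]; exact ⟨1, one_mem _, 1, one_ne_zero, by rw [app_one, one_smul]⟩)
    have h2 := h1.map C (u' * u⁻¹)
    rw [app_mul, app_mul, app_inv_app] at h2
    have he : app C u⁻¹ ee = ee := by conv_lhs => rw [← hu, app_inv_app]
    rw [he, hu'] at h2
    rw [hzu]
    exact h2.trans C (linked_smul C _ hze)
  by_cases hze : herm C z ee = 0
  swap
  · exact key z hz hze
  have key2 : ∀ v x, herm C v v = 0 → v ≠ 0 → herm C x x = 0 → herm C x v ≠ 0 → Linked C N v x := by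
    intro v x hv hv0 hx hxv
    obtain ⟨t, -, ht⟩ := exists_to_vE C hv hv0
    have h1 := (key (app C t x) (by rw [herm_app, hx]) (by rw [← ht, herm_app]; exact hxv)).map C t⁻¹
    rw [app_inv_app] at h1
    have hv' : app C t⁻¹ ee = v := by rw [← ht, app_inv_app]
    rwa [hv'] at h1
  -- a vector linked to both
  obtain ⟨t, -, ht⟩ := exists_to_vE C hz hz0
  obtain ⟨v, hv, hv0, hzv, hev⟩ : ∃ v, herm C v v = 0 ∧ v ≠ 0 ∧ herm C z v ≠ 0 ∧ herm C ee v ≠ 0 := by
    obtain ⟨z', hz', hzz'⟩ := exists_partner C hz hz0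
    by_cases he : herm C ee z' = 0
    swap
    · exact ⟨z', hz', fun h0 => hzz' (by rw [h0, herm_zero_right]), hzz', he⟩
    by_cases hzf : herm C z ff = 0
    swap
    · exact ⟨ff, herm_vF_vF C, fun h0 => hzf (by rw [h0, herm_zero_right]), hzf,
        by rw [herm_vE_vF]; exact one_ne_zero⟩
    -- both `z'` and `f` fail: combine them
    obtain ⟨d, hd, hd0⟩ := C.exists_skew_ne
    by_cases hf' : herm C ff z' = 0
    · refine ⟨z' + ff, ?_, ?_, ?_, ?_⟩
      · simp only [herm_add_left, herm_add_right, hz', herm_vF_vF, hf', ← conj_herm C ff z', map_zero]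
        ring
      · intro h0
        apply hzz'
        have := congrArg (fun r => herm C z r) h0
        simpa [herm_add_right, hzf, herm_zero_right] using this
      · rw [herm_add_right, hzf, add_zero]; exact hzz'
      · rw [herm_add_right, he, zero_add, herm_vE_vF]; exact one_ne_zero
    · set s := d / herm C ff z' with hs
      have hsd : s * herm C ff z' = d := div_mul_cancel₀ _ hf'
      refine ⟨z' + s • ff, ?_, ?_, ?_, ?_⟩
      · simp only [herm_add_left, herm_add_right, herm_smul_left, herm_smul_right, hz', herm_vF_vF,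
          ← conj_herm C ff z']
        have h2 : C.σ s * C.σ (herm C ff z') = -d := by rw [← map_mul, hsd, C.skew_eq hd]
        linear_combination hsd + h2
      · intro h0
        apply hzz'
        have := congrArg (fun r => herm C z r) h0
        simpa [herm_add_right, herm_smul_right, hzf, herm_zero_right] using this
      · rw [herm_add_right, herm_smul_right, hzf, mul_zero, add_zero]; exact hzz'
      · rw [herm_add_right, herm_smul_right, he, zero_add, herm_vE_vF, mul_one]
        exact (map_ne_zero C.σ).2 (div_ne_zero hd0 hf')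
  have hve : herm C v ee ≠ 0 := by rw [← conj_herm C ee v]; exact (map_ne_zero C.σ).2 hev
  exact (key v hv hve).trans C (key2 v z hv hv0 hz hzv)

/-- A non-central normal subgroup is transitive on isotropic points. -/
theorem linked_of_not_le_center {N : Subgroup G} [N.Normal] (h : ¬ (Fintype.card ι = 3 ∧ C.q = 2))
    (hN : ¬ N ≤ Subgroup.center G) {z : ι → F} (hz : herm C z z = 0) (hz0 : z ≠ 0) :
    Linked C N ee z := by
  obtain ⟨k, hkN, hk⟩ := SetLike.not_le_iff_exists.1 hN
  obtain ⟨x, hx, hxk⟩ : ∃ x, herm C x x = 0 ∧ ∀ a : F, app C k x ≠ a • x := by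
    by_contra hc
    push Not at hc
    exact hk (mem_center_of_fix_lines C h k hc)
  have hx0 : x ≠ 0 := fun h0 => hxk 0 (by rw [h0]; simp [app])
  obtain ⟨t, -, ht⟩ := exists_to_vE C hx hx0
  set y := app C t (app C k x) with hy
  have hy0 : herm C y y = 0 := by rw [hy, herm_app, herm_app, hx]
  have hey : Linked C N ee y := by
    have h1 : Linked C N x (app C k x) := ⟨k, hkN, 1, one_ne_zero, (one_smul _ _).symm⟩
    have h2 := h1.map C t
    rwa [ht] at h2
  have hne : ∀ a : F, y ≠ a • ee := fun a ha => hxk a (by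
    have := congrArg (app C t⁻¹) ha
    rw [hy, app_inv_app, app_smul, ← ht, app_inv_app] at this
    exact this)
  by_cases hye : herm C y ee = 0
  swap
  · exact linked_all C hy0 hye hey hz hz0
  set w := y ∘ Sum.inr with hw
  have hd : y = herm C y ff • ee + inW w := by
    conv_lhs => rw [decomp C y, hye, zero_smul, add_zero]
  have hw0 : w ≠ 0 := fun h0 => hne _ (by rw [hd, h0, inW_zero, add_zero])
  obtain ⟨w', hw'⟩ := exists_herm_eq C hw0 1
  obtain ⟨τ, hτ⟩ := C.exists_trace_one
  have hww : herm C w w = 0 := by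
    rw [hd] at hy0
    simpa [herm_add_left, herm_add_right, herm_smul_left, herm_smul_right, herm_vE_vE, herm_vE_inW,
      herm_inW_vE, herm_inW] using hy0
  set s := -(herm C w' w' * τ) with hs
  set u := inW (w' + s • w) with hu
  have hu0 : herm C u u = 0 := by
    have hwr : herm C w w' = 1 := by rw [← conj_herm C w' w, hw', map_one]
    simp only [hu, herm_inW, herm_add_left, herm_add_right, herm_smul_left, herm_smul_right, hww,
      hw', hwr]
    rw [hs, map_neg, map_mul, herm_self_fixed]
    linear_combination (-herm C w' w') * hτ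
  have hue : herm C u ee = 0 := herm_inW_vE C _
  have hyu : herm C y u = 1 := by
    rw [hd, hu, herm_add_left, herm_smul_left, herm_vE_inW, mul_zero, zero_add, herm_inW,
      herm_add_right, herm_smul_right, hww, mul_zero, add_zero, ← conj_herm C w' w, hw', map_one]
  obtain ⟨d, hdd, hd0⟩ := C.exists_skew_ne
  set T := transvEl C u d hu0 hdd with hT
  have hTe : app C T ee = ee := by
    rw [isTransv_transvEl C u d hu0 hdd ee, ← conj_herm C u ee, hue, map_zero, mul_zero, zero_smul,
      add_zero]
  have h1 := hey.map C T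
  rw [hTe] at h1
  have hyy : Linked C N y (app C T y) := (hey.symm C).trans C h1
  have hne' : herm C (app C T y) y ≠ 0 := by
    rw [isTransv_transvEl C u d hu0 hdd y, hyu, mul_one, herm_add_left, herm_smul_left, hy0, zero_add,
      ← conj_herm C y u, hyu, map_one, mul_one]
    exact hd0
  have hyne : y ≠ 0 := fun h0 => hne 0 (by rw [h0, zero_smul])
  obtain ⟨g, -, hg⟩ := exists_to_vE C hy0 hyne
  have h2 := hyy.map C g
  rw [hg] at h2
  exact linked_all C (by rw [herm_app, herm_app, hy0]) (by rw [← hg, herm_app]; exact hne') h2 hz hz0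

/-- `SU` is perfect. -/
theorem commutator_suG_eq_top (h : ¬ (Fintype.card ι = 3 ∧ C.q = 2)) : commutator G = ⊤ := by
  rw [eq_top_iff, ← transvs_eq_top C h, transvs, Subgroup.closure_le, commutator_eq_closure]
  rintro g ⟨v, c, hv, hc, hg⟩
  by_cases hv0 : v = 0
  · have : g = 1 := suG_ext C fun x => by rw [hg x, hv0, smul_zero, add_zero, app_one]
    rw [this]
    exact one_mem _
  obtain ⟨k, hk⟩ := exists_conj_central C hg hv hv0 hc
  have h1 := Subgroup.subset_closure (k := commutatorSet G) (uniEl_central_mem_commutatorSet C hc)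
  rw [← hk] at h1
  have hn : (Subgroup.closure (commutatorSet G)).Normal := by
    rw [← commutator_eq_closure]; infer_instance
  have h2 := hn.conj_mem _ h1 k⁻¹
  rwa [show k⁻¹ * (k * g * k⁻¹) * k⁻¹⁻¹ = g by group] at h2

/-- A normal subgroup is everything or central. -/
theorem suG_normal_eq_top_or_le_center (h : ¬ (Fintype.card ι = 3 ∧ C.q = 2)) (N : Subgroup G)
    [N.Normal] : N = ⊤ ∨ N ≤ Subgroup.center G := by
  by_cases hN : N ≤ Subgroup.center G
  · exact Or.inr hN
  left
  let T : Subgroup G :=
    { carrier := {g | ∃ c ∈ C.skew, IsTransv C g ee c}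
      one_mem' := ⟨0, C.skew.zero_mem, fun x => by simp [app_one]⟩
      mul_mem' := by
        rintro a b ⟨c, hc, ha⟩ ⟨d, hd, hb⟩
        refine ⟨c + d, add_mem hc hd, fun x => ?_⟩
        rw [app_mul, hb, app_add, app_smul, ha x, ha ee, herm_vE_vE, mul_zero, zero_smul, add_zero]
        module
      inv_mem' := by
        rintro a ⟨c, hc, ha⟩
        refine ⟨-c, neg_mem hc, fun x => ?_⟩
        have h1 : app C a (x + (-c * herm C x ee) • ee) = x := by
          rw [app_add, app_smul, ha x, ha ee, herm_vE_vE, mul_zero, zero_smul, add_zero]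
          module
        conv_lhs => rw [← h1, app_inv_app] }
  have hgen : N ⊔ T = ⊤ := by
    rw [eq_top_iff, ← transvs_eq_top C h, transvs, Subgroup.closure_le]
    rintro g ⟨v, c, hv, hc, hg⟩
    by_cases hv0 : v = 0
    · have : g = 1 := suG_ext C fun x => by rw [hg x, hv0, smul_zero, add_zero, app_one]
      rw [this]
      exact one_mem _
    obtain ⟨n, hn, a, ha, hna⟩ := linked_of_not_le_center C h hN hv hv0
    have hv' : v = a⁻¹ • app C n ee := by rw [hna, inv_smul_smul₀ ha]
    have hsk : c * (a⁻¹ * C.σ a⁻¹) ∈ C.skew := by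
      rw [C.mem_skew, map_mul, map_mul, C.invol, C.skew_eq hc]; ring
    have htr := isTransv_transvEl C ee _ (herm_vE_vE C) hsk
    have htT : transvEl C ee _ (herm_vE_vE C) hsk ∈ T := ⟨_, hsk, htr⟩
    have hconj : n * transvEl C ee _ (herm_vE_vE C) hsk * n⁻¹ = g := by
      refine (htr.conj C n).unique C fun x => ?_
      rw [hg x, hv', herm_smul_right, smul_smul]
      congr 2
      ring
    rw [← hconj]
    exact mul_mem (mul_mem (Subgroup.mem_sup_left hn) (Subgroup.mem_sup_right htT))
      (inv_mem (Subgroup.mem_sup_left hn))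
  have hTc : ∀ a ∈ T, ∀ b ∈ T, a * b = b * a := by
    rintro a ⟨c, -, ha⟩ b ⟨d, -, hb⟩
    refine suG_ext C fun x => ?_
    rw [app_mul, app_mul, hb x, ha x, app_add, app_add, app_smul, app_smul, ha x, hb x, ha ee, hb ee,
      herm_vE_vE]
    simp only [mul_zero, zero_smul, add_zero]
    abel
  rw [eq_top_iff, ← commutator_suG_eq_top C h, commutator_eq_closure, Subgroup.closure_le]
  rintro _ ⟨a, b, rfl⟩
  rw [SetLike.mem_coe, ← QuotientGroup.eq_one_iff, ← QuotientGroup.mk'_apply, map_commutatorElement,
    commutatorElement_eq_one_iff_mul_comm]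
  have hmap : ∀ g : G, ∃ t ∈ T, QuotientGroup.mk' N g = QuotientGroup.mk' N t := by
    intro g
    have hg : g ∈ ((N ⊔ T : Subgroup G) : Set G) := by rw [hgen]; exact Subgroup.mem_top g
    rw [Subgroup.normal_mul] at hg
    obtain ⟨n, hn, t, ht, rfl⟩ := hg
    refine ⟨t, ht, ?_⟩
    have : QuotientGroup.mk' N n = 1 := (QuotientGroup.eq_one_iff n).2 hn
    rw [map_mul, this, one_mul]
  obtain ⟨s, hs, hs'⟩ := hmap a
  obtain ⟨t, ht, ht'⟩ := hmap b
  rw [hs', ht', ← map_mul, ← map_mul, hTc s hs t ht]

/-- `SU/Z` is simple. -/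
theorem isSimpleGroup_suG_quotient (h : ¬ (Fintype.card ι = 3 ∧ C.q = 2)) :
    IsSimpleGroup (G ⧸ Subgroup.center G) := by
  have : Nontrivial (G ⧸ Subgroup.center G) := by
    obtain ⟨d, hd, hd0⟩ := C.exists_skew_ne
    refine ⟨⟨QuotientGroup.mk (transvEl C ee d (herm_vE_vE C) hd), 1, fun hq => ?_⟩⟩
    rw [QuotientGroup.eq_one_iff, Subgroup.mem_center_iff] at hq
    have h1 := congrArg (fun g => app C g ee)
      (hq (transvEl C ff d (herm_vF_vF C) hd))
    simp only [app_mul, isTransv_transvEl C _ _ _ hd _, herm_vE_vE, herm_vE_vF, app_add, app_smul,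
      herm_vF_vE, mul_zero, zero_smul, add_zero, mul_one] at h1
    have h2 := congrArg (fun z => herm C z ff) h1
    simp only [herm_add_left, herm_smul_left, herm_vE_vF, herm_vF_vF, mul_zero, add_zero, mul_one]
      at h2
    rw [herm_vE_vE, herm_vF_vE] at h2
    exact mul_ne_zero hd0 hd0 (by linear_combination -h2)
  constructor
  intro H hH
  rcases suG_normal_eq_top_or_le_center C h (H.comap (QuotientGroup.mk' _)) with h' | h'
  · refine Or.inr ?_
    rw [← Subgroup.map_comap_eq_self_of_surjective (QuotientGroup.mk'_surjective _) H, h',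
      Subgroup.map_top_of_surjective _ (QuotientGroup.mk'_surjective _)]
  · refine Or.inl (eq_bot_iff.2 ?_)
    rw [← Subgroup.map_comap_eq_self_of_surjective (QuotientGroup.mk'_surjective _) H]
    refine (Subgroup.map_mono h').trans ?_
    rw [QuotientGroup.map_mk'_self]

/-- `PSU_n(q)` is simple. -/
theorem isSimpleGroup_PSU {q : ℕ} (hF : Fintype.card F = q ^ 2) (n : ℕ) (hn : 3 ≤ n)
    (h : ¬ (n = 3 ∧ q = 2)) : IsSimpleGroup (Cfsg.PSU n F q) := by
  obtain ⟨D, rfl⟩ := exists_conjField q hF
  obtain ⟨m, rfl⟩ : ∃ m, n = 2 + (m + 1) := ⟨n - 3, by omega⟩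
  let R := reindexHom D (finSumFinEquiv : Fin 2 ⊕ Fin (m + 1) ≃ Fin (2 + (m + 1)))
  let R' := reindexHom D (finSumFinEquiv.symm : Fin (2 + (m + 1)) ≃ Fin 2 ⊕ Fin (m + 1))
  let e : suG D (Fin 2 ⊕ Fin (m + 1)) ≃* Cfsg.SU (2 + (m + 1)) F D.q :=
    (MonoidHom.toMulEquiv R R'
      (MonoidHom.ext fun g => suG_ext D fun x => by
        rw [MonoidHom.comp_apply, app_reindexHom, app_reindexHom]; simp [Function.comp_def])
      (MonoidHom.ext fun g => suG_ext D fun x => by
        rw [MonoidHom.comp_apply, app_reindexHom, app_reindexHom]; simp [Function.comp_def])).trans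
      (MulEquiv.subgroupCongr (suG_fin_eq D _))
  have hs := isSimpleGroup_suG_quotient D (κ := Fin (m + 1)) (by simp; omega)
  have e' := QuotientGroup.congr (Subgroup.center _) (Subgroup.center _) e (by
    ext x
    simp only [Subgroup.mem_map, Subgroup.mem_center_iff]
    constructor
    · rintro ⟨y, hy, rfl⟩ g
      obtain ⟨g, rfl⟩ := e.surjective g
      exact (map_mul e g y).symm.trans ((congrArg e (hy g)).trans (map_mul e y g))
    · exact fun hx => ⟨e.symm x, fun g => e.injective (by simpa using hx (e g)), by simp⟩)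
  exact e'.symm.isSimpleGroup

end CfsgLib.Forms4
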