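import Cfsg.Agent.Forms4.ExceptionalTools
import Cfsg.Agent.Forms4.OrthogonalOrders
import Cfsg.Agent.Forms4.POmegaOrders
import Cfsg.Agent.Forms.OrthIndex

/-!
# `PΩ⁻₄(q) ≅ PSL₂(q²)`
-/

set_option autoImplicit false

open Matrix CfsgLib.StdForms
open scoped commutatorElement MatrixGroups

namespace CfsgLib.Forms4

variable {F K : Type*} [Field F] [Fintype F] [Field K] [Fintype K]

/-- The quadratic extension contains a root of an anisotropic binary form; the two roots are
exchanged by the involutory automorphism. -/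
theorem exists_norm_root [Algebra F K] {q : ℕ} (hF : Fintype.card F = q) (hK : Fintype.card K = q ^ 2)
    (a b : F) (hab : ∀ z₁ z₂ : F, z₁ ^ 2 + a * z₁ * z₂ + b * z₂ ^ 2 = 0 → z₁ = 0 ∧ z₂ = 0) :
    ∃ (σ : K →+* K) (θ : K) (e : (F × F) ≃ₗ[F] K),
      (∀ x, σ (σ x) = x) ∧ (∀ x, σ x = x ↔ x ∈ Set.range (algebraMap F K)) ∧
      (∀ x, σ x = x ^ q) ∧
      (∀ p : F × F, e p = algebraMap F K p.1 - algebraMap F K p.2 * θ) ∧
      θ + σ θ = -algebraMap F K a ∧ θ * σ θ = algebraMap F K b := by
  classical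
  obtain ⟨σ, hσ, hσσ⟩ := CfsgLib.FieldEmb.exists_conj hK
  have hfix : ∀ x, σ x = x ↔ x ∈ Set.range (algebraMap F K) := fun x => by
    rw [hσ, CfsgLib.FieldEmb.mem_range_iff (algebraMap F K) hF]
  have hfact : Fact (∀ r : F, r ^ 2 ≠ -b + -a * r) :=
    ⟨fun r h => one_ne_zero (hab r 1 (by linear_combination h)).2⟩
  obtain ⟨f⟩ := FiniteField.nonempty_algHom_of_finrank_dvd (F := F)
    (K := QuadraticAlgebra F (-b) (-a)) (L := K) (by
      rw [QuadraticAlgebra.finrank_eq_two, CfsgLib.FieldEmb.finrank_eq hF hK])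
  set θ := f QuadraticAlgebra.omega with hθdef
  have hθ : θ * θ + algebraMap F K a * θ + algebraMap F K b = 0 := by
    rw [hθdef, ← map_mul, QuadraticAlgebra.omega_mul_omega_eq_add, map_add, map_smul, map_smul,
      map_one, Algebra.smul_def, Algebra.smul_def, map_neg, map_neg]
    ring
  have hθF : θ ∉ Set.range (algebraMap F K) := by
    rintro ⟨r, hr⟩
    rw [← hr, ← map_mul, ← map_mul, ← map_add, ← map_add, map_eq_zero] at hθ
    exact one_ne_zero (hab r 1 (by linear_combination hθ)).2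
  have hσθ : σ θ ≠ θ := fun h => hθF ((hfix θ).1 h)
  have hsum : θ + σ θ = -algebraMap F K a := by
    have h := congrArg σ hθ
    rw [map_add, map_add, map_mul, map_mul, map_zero, (hfix _).2 ⟨a, rfl⟩, (hfix _).2 ⟨b, rfl⟩] at h
    have h' : (σ θ - θ) * (θ + σ θ + algebraMap F K a) = 0 := by linear_combination h - hθ
    linear_combination (mul_eq_zero.1 h').resolve_left (sub_ne_zero.2 hσθ)
  let l : F × F →ₗ[F] K :=
    { toFun := fun p => algebraMap F K p.1 - algebraMap F K p.2 * θ
      map_add' := fun p p' => by simp; ring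
      map_smul' := fun t p => by simp [Algebra.smul_def]; ring }
  have hl : Function.Injective l := by
    rw [← LinearMap.ker_eq_bot, LinearMap.ker_eq_bot']
    rintro ⟨x, y⟩ h
    change algebraMap F K x - algebraMap F K y * θ = 0 at h
    by_cases hy : y = 0
    · subst hy
      simp at h
      simp [h]
    · exact absurd ⟨x / y, by
        rw [map_div₀, eq_comm, eq_div_iff (by simpa using hy)]
        linear_combination -h⟩ hθF
  let e := LinearEquiv.ofBijective l
    ⟨hl, (LinearMap.injective_iff_surjective_of_finrank_eq_finrank (by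
      rw [Module.finrank_prod, Module.finrank_self, CfsgLib.FieldEmb.finrank_eq hF hK])).1 hl⟩
  exact ⟨σ, θ, e, hσσ, hfix, hσ, fun p => rfl, hsum, by linear_combination θ * hsum - hθ⟩

/-- `g ↦ (X ↦ g X (gᵠ)ᵀ)`. -/
noncomputable def hermSandwichHom [Algebra F K] (σ : K →+* K) :
    SL(2, K) →* Module.End F (Matrix (Fin 2) (Fin 2) K) where
  toFun g := LinearMap.mulLeft F g.1 ∘ₗ LinearMap.mulRight F (g.1.map σ)ᵀ
  map_one' := by
    refine LinearMap.ext fun M => ?_
    simp
  map_mul' g h := by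
    refine LinearMap.ext fun M => ?_
    simp only [Matrix.SpecialLinearGroup.coe_mul, Matrix.map_mul, Matrix.transpose_mul,
      LinearMap.comp_apply, Module.End.mul_apply, LinearMap.mulLeft_apply, LinearMap.mulRight_apply]
    noncomm_ring

set_option maxHeartbeats 2000000 in
/-- `PΩ⁻₄(q) ≅ PSL₂(q²)`. -/
theorem nonempty_pOmega_four_minus_equiv {q : ℕ} (hF : Fintype.card F = q)
    (hK : Fintype.card K = q ^ 2) (a b : F)
    (hab : ∀ z₁ z₂ : F, z₁ ^ 2 + a * z₁ * z₂ + b * z₂ ^ 2 = 0 → z₁ = 0 ∧ z₂ = 0) :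
    Nonempty (Cfsg.POmega F (Cfsg.quadFormMinus 1 F a b) ≃*
      Matrix.ProjectiveSpecialLinearGroup (Fin 2) K) := by
  classical
  obtain ⟨_⟩ := CfsgLib.FieldEmb.exists_algebra (by norm_num : 1 ≤ 2) hF hK
  obtain ⟨σ, θ, e, hσσ, hfix, -, he, hsum, hprod⟩ := exists_norm_root (K := K) hF hK a b hab
  set ι := algebraMap F K
  have hσι : ∀ t, σ (ι t) = ι t := fun t => (hfix _).2 ⟨t, rfl⟩
  have he' : ∀ t, e.symm (ι t) = (t, 0) := fun t => by
    rw [LinearEquiv.symm_apply_eq, he]; simp [ι]
  let Z : ((Fin 1 ⊕ Fin 1) ⊕ Fin 2 → F) →ₗ[F] K :=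
    e.toLinearMap ∘ₗ (LinearMap.proj (Sum.inr 0)).prod (LinearMap.proj (Sum.inr 1))
  let T : ((Fin 1 ⊕ Fin 1) ⊕ Fin 2 → F) →ₗ[F] Matrix (Fin 2) (Fin 2) K :=
    { toFun := fun v => !![ι (v (.inl (.inl 0))), Z v; σ (Z v), -ι (v (.inl (.inr 0)))]
      map_add' := fun x y => by
        ext i j; fin_cases i <;> fin_cases j <;> simp [map_add, add_comm]
      map_smul' := fun t x => by
        ext i j
        fin_cases i <;> fin_cases j <;> simp [fun z : K => (Algebra.smul_def t z : t • z = ι t * z), map_mul, hσι, ι] }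
  let P : Matrix (Fin 2) (Fin 2) K →ₗ[F] ((Fin 1 ⊕ Fin 1) ⊕ Fin 2 → F) :=
    { toFun := fun M => Sum.elim (Sum.elim (fun _ => (e.symm (M 0 0)).1) fun _ => -(e.symm (M 1 1)).1)
        ![(e.symm (M 0 1)).1, (e.symm (M 0 1)).2]
      map_add' := fun M N => by
        funext i; rcases i with (i | i) | i
        · simp
        · simp [add_comm]
        · fin_cases i <;> simp
      map_smul' := fun t M => by
        funext i; rcases i with (i | i) | i
        · simp
        · simp
        · fin_cases i <;> simp }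
  have hPT : ∀ x, P (T x) = x := fun x => by
    funext i
    rcases i with (i | i) | i
    · simp [P, T, he', Fin.fin_one_eq_zero]
    · simp [P, T, map_neg, he', Fin.fin_one_eq_zero]
    · fin_cases i <;> simp [P, T, Z]
  have hherm : ∀ x, ((T x).map σ)ᵀ = T x := fun x => by
    ext i j; fin_cases i <;> fin_cases j <;> simp [T, hσι, hσσ]
  have hTP : ∀ M : Matrix (Fin 2) (Fin 2) K, (M.map σ)ᵀ = M → T (P M) = M := by
    intro M hM
    have hd : ∀ i, σ (M i i) = M i i := fun i => congrFun (congrFun hM i) i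
    obtain ⟨t, ht⟩ := (hfix _).1 (hd 0)
    obtain ⟨s, hs⟩ := (hfix _).1 (hd 1)
    have h10 : σ (M 0 1) = M 1 0 := congrFun (congrFun hM 1) 0
    ext i j
    fin_cases i <;> fin_cases j <;> simp [T, P, Z, ← ht, ← hs, he', h10]
  have hA : ∀ g x, T (P (hermSandwichHom (F := F) σ g (T x))) = hermSandwichHom (F := F) σ g (T x) := by
    intro g x
    refine hTP _ ?_
    show ((g.1 * (T x * (g.1.map σ)ᵀ)).map σ)ᵀ = g.1 * (T x * (g.1.map σ)ᵀ)
    rw [Matrix.map_mul, Matrix.map_mul, Matrix.transpose_mul, Matrix.transpose_mul, Matrix.transpose_map,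
      Matrix.map_map, show (σ ∘ σ) = id from funext hσσ, Matrix.map_id, Matrix.transpose_transpose,
      hherm, mul_assoc]
  have hQT : ∀ x, ι (Cfsg.quadFormMinus 1 F a b x) = -(T x).det := by
    intro x
    simp [T, Z, he, Cfsg.quadFormMinus, det_fin_two, hσι, ι]
    linear_combination (-(ι (x (.inr 1)) * ι (x (.inr 0)))) * (-hsum) + (-(ι (x (.inr 1))) ^ 2) * hprod
  have hQ : ∀ g x, Cfsg.quadFormMinus 1 F a b (P (hermSandwichHom (F := F) σ g (T x))) =
      Cfsg.quadFormMinus 1 F a b x := by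
    intro g x
    refine ι.injective ?_
    rw [hQT, hA, hQT]
    show -((g.1 * (T x * (g.1.map σ)ᵀ)).det) = _
    rw [det_mul, det_mul, det_transpose, g.2, ← RingHom.mapMatrix_apply, ← RingHom.map_det, g.2,
      map_one, one_mul, mul_one]
  obtain ⟨φ, -, hφ⟩ := exists_isoHom (Cfsg.quadFormMinus 1 F a b) T P hPT (hermSandwichHom (F := F) σ) hA hQ
  have hker : φ.ker = Subgroup.center SL(2, K) := by
    ext g
    rw [MonoidHom.mem_ker, hφ]
    constructor
    · intro h
      have h' : ∀ M : Matrix (Fin 2) (Fin 2) K, (M.map σ)ᵀ = M → g.1 * (M * (g.1.map σ)ᵀ) = M := by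
        intro M hM
        have := h (P M)
        rw [hTP M hM] at this
        exact this
      have h1 := h' 1 (by ext i j; fin_cases i <;> fin_cases j <;> simp)
      rw [one_mul] at h1
      have h1' : (g.1.map σ)ᵀ * g.1 = 1 := mul_eq_one_comm.1 h1
      have key : ∀ M : Matrix (Fin 2) (Fin 2) K, (M.map σ)ᵀ = M → g.1 * M = M * g.1 := by
        intro M hM
        conv_rhs => rw [← h' M hM]
        rw [mul_assoc, mul_assoc, h1', mul_one]
      have k1 := key !![1, 0; 0, 0] (by ext i j; fin_cases i <;> fin_cases j <;> simp)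
      have k2 := key !![0, 1; 1, 0] (by ext i j; fin_cases i <;> fin_cases j <;> simp)
      have a01 := congrFun (congrFun k1 0) 1
      have a10 := congrFun (congrFun k1 1) 0
      have a00 := congrFun (congrFun k2 0) 1
      simp [Matrix.mul_apply, Fin.sum_univ_two] at a01 a10 a00
      refine Matrix.SpecialLinearGroup.mem_center_iff.2 ⟨g.1 0 0, ?_, ?_⟩
      · have hd := g.2
        rw [det_fin_two, ← a00, ← a01] at hd
        simp only [zero_mul, sub_zero] at hd
        rw [Fintype.card_fin, sq]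
        exact hd
      · ext i j
        fin_cases i <;> fin_cases j <;> simp [← a00, a10, ← a01]
    · intro hg x
      obtain ⟨r, hr, hrg⟩ := Matrix.SpecialLinearGroup.mem_center_iff.1 hg
      have hr2 : r * r = 1 := by rwa [Fintype.card_fin, sq] at hr
      have hσr : σ r = r := by
        rcases mul_self_eq_one_iff.1 hr2 with h | h <;> simp [h]
      show g.1 * (T x * (g.1.map σ)ᵀ) = T x
      have e1 : (g.1.map σ)ᵀ = scalar (Fin 2) r := by
        rw [← hrg]; ext i j; fin_cases i <;> fin_cases j <;> simp [hσr]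
      rw [e1, ← hrg]
      ext i j
      simp [Matrix.scalar_apply]
      linear_combination (T x i j) * hr2
  have hq : 2 ≤ q := hF ▸ Fintype.one_lt_card
  have hS : commutator SL(2, K) = ⊤ := commutator_SL_two (by rw [hK]; nlinarith)
  have hle := range_le_commutator φ hS
  have hkc : Nat.card φ.ker = Nat.gcd 2 (q ^ 2 - 1) := by
    rw [hker, CfsgLib.Linear.card_center_SL, Fintype.card_fin, hK]
  have hcardS : Nat.card SL(2, K) = q ^ 2 * (q ^ 2 ^ 2 - 1) := by
    rw [CfsgLib.Linear.card_SL_two, hK, ← pow_mul]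
    norm_num
  have hO : Nat.card (Cfsg.isometryGroup F (Cfsg.quadFormMinus 1 F a b)) = 2 * (q ^ 2 * (q ^ 2 ^ 2 - 1)) := by
    have h := card_isometryGroup_quadFormMinus hF 2 (by norm_num) a b hab
    have e4 : q ^ 2 ^ 2 - 1 = (q ^ 2 + 1) * (q ^ 2 - 1) := by
      rw [← Nat.sq_sub_sq, one_pow, ← pow_mul]
      norm_num
    rw [h, e4]
    simp
    ring
  have hrange : φ.range = Cfsg.Omega F (Cfsg.quadFormMinus 1 F a b) := by
    by_cases h2 : (2 : F) = 0
    · have hev : Even (q ^ 2) := ((two_eq_zero_iff_even hF).1 h2).pow_of_ne_zero two_ne_zero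
      have hg : Nat.gcd 2 (q ^ 2 - 1) = 1 := by
        rcases hev with ⟨k, hk⟩
        have : 0 < q ^ 2 := by positivity
        exact (Nat.Prime.coprime_iff_not_dvd Nat.prime_two).2 (by omega)
      refine range_eq_commutator_of_index_two φ hle ?_
      have h1 := φ.ker.card_eq_card_quotient_mul_card_subgroup
      rw [Nat.card_congr (QuotientGroup.quotientKerEquivRange φ).toEquiv, hkc, hg, mul_one] at h1
      rw [hO, ← hcardS, h1]
    · refine range_eq_of_card φ hle ?_
      have hodd : Odd (q ^ 2) := (Nat.not_even_iff_odd.1 fun h =>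
        h2 ((two_eq_zero_iff_even hF).2 h)).pow
      have hg : Nat.gcd 2 (q ^ 2 - 1) = 2 := Nat.gcd_eq_left (by
        rcases hodd with ⟨k, hk⟩; exact ⟨k, by omega⟩)
      have hidx := (Cfsg.Omega F (Cfsg.quadFormMinus 1 F a b)).index_mul_card
      have hi : (Cfsg.Omega F (Cfsg.quadFormMinus 1 F a b)).index = 4 := by
        rw [← coe_minusQ]
        exact CfsgLib.Forms.index_omega_odd h2 (minusQ_nondegenerate 1 (disc_ne_zero hab)) (by simp)
      rw [hi, hO] at hidx
      rw [hkc, hg, hcardS]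
      linarith
  exact nonempty_quotient_center_equiv φ hrange hker.le
    (fun g hg => mem_center_SL_two fun x => hker ▸ hg x)

end CfsgLib.Forms4
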