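import Cfsg.Agent.Forms4.OmegaSixPlus
import Cfsg.Agent.Forms4.OmegaFourMinus
import Cfsg.Agent.Forms4.UnitarySimple
import Cfsg.Agent.Forms4.UnitaryCenter
import Cfsg.Agent.FieldEmb.QuadExt

/-!
# `PΩ⁻₆(q) ≅ PSU₄(q)`

`SU₄` commutes with the semilinear duality on alternating matrices; its fixed points form the
six-dimensional space of minus type.
-/

set_option autoImplicit false

open Matrix CfsgLib.StdForms CfsgLib.RepBounds.Unit
open scoped commutatorElement

namespace CfsgLib.Forms4

section Field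

variable {K : Type*} [Field K]

/-- Exchange of the two halves of the coordinates. -/
def dualVec (z : Fin 3 ⊕ Fin 3 → K) : Fin 3 ⊕ Fin 3 → K := Sum.elim (z ∘ Sum.inr) (z ∘ Sum.inl)

theorem dual_transvection {i j : Fin 4} (hij : i ≠ j) (c : K) (x : Fin 3 ⊕ Fin 3 → K) (r : Fin 3 ⊕ Fin 3) :
    dualVec (altCoord K ((1 + Matrix.single i j c : Matrix (Fin 4) (Fin 4) K) * (altMat K x *
      (1 + Matrix.single i j c : Matrix (Fin 4) (Fin 4) K)ᵀ))) r =
    altCoord K ((1 + Matrix.single j i (-c) : Matrix (Fin 4) (Fin 4) K) * (altMat K (dualVec x) *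
      (1 + Matrix.single j i (-c) : Matrix (Fin 4) (Fin 4) K)ᵀ)) r := by
  rcases r with r | r <;> fin_cases r <;>
    simp only [altCoord, dualVec, LinearMap.coe_mk, AddHom.coe_mk, Function.comp_apply, Sum.elim_inl,
      Sum.elim_inr, Matrix.cons_val_zero, Matrix.cons_val_one, Matrix.cons_val, transvection_congr_apply] <;>
    fin_cases i <;> fin_cases j <;>
    first
      | exact absurd rfl hij
      | (simp [altMat]; done)
      | (simp [altMat]; ring)

/-- The Pfaffian dual transforms contragrediently. -/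
theorem dual_congr (g : Matrix.SpecialLinearGroup (Fin 4) K) (x : Fin 3 ⊕ Fin 3 → K) :
    g.1ᵀ * altMat K (dualVec (altCoord K (congrHom K g (altMat K x)))) * g.1 = altMat K (dualVec x) := by
  revert x
  refine CfsgLib.Linear.sl_induction (fun g => ∀ x, g.1ᵀ *
    altMat K (dualVec (altCoord K (congrHom K g (altMat K x)))) * g.1 = altMat K (dualVec x)) ?_ ?_ ?_ g
  · intro x
    simp [altCoord_altMat]
  · intro i j hij c x
    set E := Matrix.SpecialLinearGroup.transvection hij c with hE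
    set E' := Matrix.SpecialLinearGroup.transvection hij.symm c with hE'
    have ht : E.1ᵀ = E'.1 := by
      rw [hE, hE', Matrix.SpecialLinearGroup.transvection_coe, Matrix.SpecialLinearGroup.transvection_coe,
        Matrix.transpose_add, Matrix.transpose_one, Matrix.transpose_single]
    have hd : dualVec (altCoord K (congrHom K E (altMat K x))) =
        altCoord K (congrHom K (Matrix.SpecialLinearGroup.transvection hij.symm (-c)) (altMat K (dualVec x))) := by
      funext r
      show dualVec (altCoord K (E.1 * (altMat K x * E.1ᵀ))) r = altCoord K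
        ((Matrix.SpecialLinearGroup.transvection hij.symm (-c)).1 * (altMat K (dualVec x) *
          (Matrix.SpecialLinearGroup.transvection hij.symm (-c)).1ᵀ)) r
      simp only [hE, Matrix.SpecialLinearGroup.transvection_coe]
      exact dual_transvection hij c x r
    have hR : ∀ Y, E.1ᵀ * Y * E.1 = congrHom K E' Y := fun Y => by
      show _ = E'.1 * (Y * E'.1ᵀ)
      rw [← ht, Matrix.transpose_transpose, Matrix.mul_assoc]
    rw [hd, altMat_congr, hR, ← Module.End.mul_apply, ← map_mul, hE',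
      Matrix.SpecialLinearGroup.transvection_mul_neg, map_one, Module.End.one_apply]
  · intro A B hA hB x
    rw [map_mul, Module.End.mul_apply, ← altMat_congr B x, Matrix.SpecialLinearGroup.coe_mul,
      Matrix.transpose_mul]
    have h := hA (altCoord K (congrHom K B (altMat K x)))
    calc B.1ᵀ * A.1ᵀ * altMat K (dualVec (altCoord K (congrHom K A (altMat K
            (altCoord K (congrHom K B (altMat K x))))))) * (A.1 * B.1)
        = B.1ᵀ * (A.1ᵀ * altMat K (dualVec (altCoord K (congrHom K A (altMat K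
            (altCoord K (congrHom K B (altMat K x))))))) * A.1) * B.1 := by noncomm_ring
      _ = _ := by rw [h, hB]

theorem altMat_map (σ : K →+* K) (z : Fin 3 ⊕ Fin 3 → K) : (altMat K z).map σ = altMat K (σ ∘ z) := by
  ext i j
  fin_cases i <;> fin_cases j <;> simp [altMat]

theorem altCoord_map (σ : K →+* K) (M : Matrix (Fin 4) (Fin 4) K) :
    altCoord K (M.map σ) = σ ∘ altCoord K M := by
  funext i
  rcases i with i | i <;> fin_cases i <;> simp [altCoord]

/-- The fixed space of the semilinear duality. -/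
theorem unitary_stable (σ : K →+* K) (g : Matrix.SpecialLinearGroup (Fin 4) K)
    (hg : g.1ᵀ * g.1.map σ = 1) {z : Fin 3 ⊕ Fin 3 → K} (hz : dualVec z = σ ∘ z) :
    dualVec (altCoord K (congrHom K g (altMat K z))) = σ ∘ altCoord K (congrHom K g (altMat K z)) := by
  have h1 : g.1.map σ * g.1ᵀ = 1 := mul_eq_one_comm.1 hg
  have h2 : g.1 * (g.1.map σ)ᵀ = 1 := by
    have := congrArg Matrix.transpose h1
    rwa [Matrix.transpose_mul, Matrix.transpose_transpose, Matrix.transpose_one] at this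
  have key : altMat K (dualVec (altCoord K (congrHom K g (altMat K z)))) =
      (congrHom K g (altMat K z)).map σ := by
    show _ = (g.1 * (altMat K z * g.1ᵀ)).map σ
    rw [Matrix.map_mul, Matrix.map_mul, altMat_map, ← hz, ← dual_congr g z, Matrix.transpose_map]
    simp only [← Matrix.mul_assoc, h1, Matrix.one_mul]
    rw [Matrix.mul_assoc, h2, Matrix.mul_one]
  have := congrArg (altCoord K) key
  rw [altCoord_altMat, altCoord_map] at this
  exact this

end Field

variable {F K : Type*} [Field F] [Fintype F] [Field K] [Fintype K]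

theorem commutator_SU_eq_top {q : ℕ} (hK : Fintype.card K = q ^ 2) (n : ℕ) (hn : 3 ≤ n)
    (h : ¬ (n = 3 ∧ q = 2)) : commutator (Cfsg.SU n K q) = ⊤ := by
  obtain ⟨D, rfl⟩ := exists_conjField q hK
  obtain ⟨m, rfl⟩ : ∃ m, n = 2 + (m + 1) := ⟨n - 3, by omega⟩
  let R := reindexHom D (finSumFinEquiv : Fin 2 ⊕ Fin (m + 1) ≃ Fin (2 + (m + 1)))
  let R' := reindexHom D (finSumFinEquiv.symm : Fin (2 + (m + 1)) ≃ Fin 2 ⊕ Fin (m + 1))
  let e : suG D (Fin 2 ⊕ Fin (m + 1)) ≃* Cfsg.SU (2 + (m + 1)) K D.q :=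
    (MonoidHom.toMulEquiv R R'
      (MonoidHom.ext fun g => suG_ext D fun x => by
        rw [MonoidHom.comp_apply, app_reindexHom, app_reindexHom]; simp [Function.comp_def])
      (MonoidHom.ext fun g => suG_ext D fun x => by
        rw [MonoidHom.comp_apply, app_reindexHom, app_reindexHom]; simp [Function.comp_def])).trans
      (MulEquiv.subgroupCongr (suG_fin_eq D _))
  have hs := commutator_suG_eq_top D (κ := Fin (m + 1)) (by simp; omega)
  have he : (⊤ : Subgroup (suG D (Fin 2 ⊕ Fin (m + 1)))).map e.toMonoidHom = ⊤ :=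
    Subgroup.map_top_of_surjective _ e.surjective
  rw [commutator_def, ← he, ← Subgroup.map_commutator, ← commutator_def, hs]

theorem mem_SU_iff_mul (σ : K →+* K) {n q : ℕ} (hσ : ∀ x, σ x = x ^ q) (hq : 0 < q)
    (g : Matrix.SpecialLinearGroup (Fin n) K) : g ∈ Cfsg.SU n K q ↔ g.1ᵀ * g.1.map σ = 1 := by
  have hdot : ∀ u v : Fin n → K, Cfsg.hermForm n K q u v = u ⬝ᵥ (σ ∘ v) := fun u v => by
    simp [Cfsg.hermForm, dotProduct, hσ]
  constructor
  · intro h
    ext i j
    have h' := h (Pi.single i 1) (Pi.single j 1)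
    change Cfsg.hermForm n K q (g.1 *ᵥ Pi.single i 1) (g.1 *ᵥ Pi.single j 1) =
      Cfsg.hermForm n K q (Pi.single i 1) (Pi.single j 1) at h'
    rw [hdot, hdot, single_dotProduct] at h'
    simpa [Matrix.mul_apply, dotProduct, Matrix.one_apply, Pi.single_apply, apply_ite σ] using h'
  · intro h u v
    show Cfsg.hermForm n K q (g.1 *ᵥ u) (g.1 *ᵥ v) = Cfsg.hermForm n K q u v
    have e : σ ∘ (g.1 *ᵥ v) = g.1.map σ *ᵥ (σ ∘ v) := by
      funext i
      simp [Matrix.mulVec, dotProduct]
    rw [hdot, hdot, e, ← Matrix.vecMul_transpose g.1 u, ← Matrix.dotProduct_mulVec,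
      Matrix.mulVec_mulVec, h, Matrix.one_mulVec]

/-- Coordinates identifying the minus form with the sum of three norms. -/
theorem exists_minus_coords [Algebra F K] {q : ℕ} (hF : Fintype.card F = q) (hK : Fintype.card K = q ^ 2)
    (a b : F) (hab : ∀ z₁ z₂ : F, z₁ ^ 2 + a * z₁ * z₂ + b * z₂ ^ 2 = 0 → z₁ = 0 ∧ z₂ = 0) :
    ∃ (σ : K →+* K) (θ : K) (E : ((Fin 2 ⊕ Fin 2) ⊕ Fin 2 → F) ≃ₗ[F] (Fin 3 → K)),
      (∀ x, σ (σ x) = x) ∧ (∀ x, σ x = x ^ q) ∧ (∀ t : F, σ (algebraMap F K t) = algebraMap F K t) ∧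
      θ - σ θ ≠ 0 ∧
      ∀ v, algebraMap F K (Cfsg.quadFormMinus 2 F a b v) = ∑ i, E v i * σ (E v i) := by
  classical
  obtain ⟨σ, θ, e, hσσ, hfix, hσ, he, hsum, hprod⟩ := exists_norm_root (K := K) hF hK a b hab
  set ι := algebraMap F K
  have hσι : ∀ t, σ (ι t) = ι t := fun t => (hfix _).2 ⟨t, rfl⟩
  set δ := θ - σ θ with hδdef
  have hδ : δ ≠ 0 := by
    rw [hδdef, sub_ne_zero]
    intro h
    obtain ⟨r, hr⟩ := (hfix θ).1 h.symm
    have := he (r, 1)
    rw [map_one, one_mul, hr, sub_self] at this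
    exact one_ne_zero (congrArg Prod.snd (e.map_eq_zero_iff.1 this))
  have hσδ : σ δ = -δ := by rw [hδdef, map_sub, hσσ]; ring
  obtain ⟨ζ, hζ0⟩ := CfsgLib.FieldEmb.exists_norm_eq (K := K) hF hK (-1)
  rw [← hσ, map_neg, map_one] at hζ0
  have hζne : ζ ≠ 0 := fun h => by simp [h] at hζ0
  have hσθ : σ θ ≠ 0 := fun h => hδ (by
    have h' : θ = 0 := by rw [← hσσ θ, h, map_zero]
    rw [hδdef, h, h', sub_zero])
  set ζ' := ζ * (θ / σ θ) with hζ'def
  have hθ : θ ≠ 0 := fun h => hσθ (by rw [h, map_zero])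
  have hζ' : ζ' * σ ζ' = -1 := by
    rw [hζ'def, map_mul, map_div₀, hσσ]
    field_simp
    linear_combination hζ0
  have hne : ζ - ζ' ≠ 0 := by
    rw [hζ'def, show ζ - ζ * (θ / σ θ) = ζ * (-δ / σ θ) by rw [hδdef]; field_simp; ring]
    exact mul_ne_zero hζne (div_ne_zero (neg_ne_zero.2 hδ) hσθ)
  set c := 1 + ζ * σ ζ' with hcdef
  have hc : c ≠ 0 := by
    intro h
    apply hne
    have : ζ * σ ζ' * ζ' = -ζ' := by linear_combination ζ' * h
    linear_combination ζ * hζ' - this
  let t : ((Fin 2 ⊕ Fin 2) ⊕ Fin 2 → F) → K := fun v =>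
    ι (v (.inl (.inr 0))) * (-σ θ / δ) + ι (v (.inl (.inr 1))) * (-1 / δ)
  let w : ((Fin 2 ⊕ Fin 2) ⊕ Fin 2 → F) → K := fun v =>
    ι (v (.inl (.inl 0))) - ι (v (.inl (.inl 1))) * θ
  let L : ((Fin 2 ⊕ Fin 2) ⊕ Fin 2 → F) →ₗ[F] (Fin 3 → K) :=
    { toFun := fun v => ![w v + σ (t v / c), ζ * w v + ζ' * σ (t v / c),
        ι (v (.inr 0)) - ι (v (.inr 1)) * θ]
      map_add' := fun u v => by
        funext i
        fin_cases i <;> simp [w, t, map_div₀, hσι] <;> ring
      map_smul' := fun r u => by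
        funext i
        fin_cases i <;>
          simp [w, t, map_div₀, hσι, fun z : K => (Algebra.smul_def r z : r • z = ι r * z)] <;> ring }
  have hLi : Function.Injective L := by
    rw [← LinearMap.ker_eq_bot, LinearMap.ker_eq_bot']
    intro v hv
    have h0 : w v + σ (t v / c) = 0 := congrFun hv 0
    have h1 : ζ * w v + ζ' * σ (t v / c) = 0 := congrFun hv 1
    have h2 : ι (v (.inr 0)) - ι (v (.inr 1)) * θ = 0 := congrFun hv 2
    have hw : w v = 0 := (mul_eq_zero.1
      (show (ζ - ζ') * w v = 0 by linear_combination h1 - ζ' * h0)).resolve_left hne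
    have ht : t v = 0 := by
      rw [hw, zero_add, ← map_zero σ] at h0
      simpa [hc] using σ.injective h0
    have eX := e.map_eq_zero_iff.1 ((he (v (.inl (.inl 0)), v (.inl (.inl 1)))).trans hw)
    have eZ := e.map_eq_zero_iff.1 ((he (v (.inr 0), v (.inr 1))).trans h2)
    have eY := e.map_eq_zero_iff.1 ((he (v (.inl (.inr 1)) - a * v (.inl (.inr 0)),
      v (.inl (.inr 0)))).trans (by
        simp only [t] at ht
        field_simp at ht
        rw [map_sub, map_mul]
        linear_combination -ht - ι (v (.inl (.inr 0))) * hsum))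
    obtain ⟨eY1, eY2⟩ := Prod.ext_iff.1 eY
    simp only [Prod.fst_zero, Prod.snd_zero] at eY1 eY2
    rw [eY2, mul_zero, sub_zero] at eY1
    funext j
    rcases j with (j | j) | j <;> fin_cases j
    · exact congrArg Prod.fst eX
    · exact congrArg Prod.snd eX
    · exact eY2
    · exact eY1
    · exact congrArg Prod.fst eZ
    · exact congrArg Prod.snd eZ
  have hfr : Module.finrank F ((Fin 2 ⊕ Fin 2) ⊕ Fin 2 → F) = Module.finrank F (Fin 3 → K) := by
    rw [Module.finrank_pi, Module.finrank_pi_fintype, CfsgLib.FieldEmb.finrank_eq hF hK]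
    simp
  refine ⟨σ, θ, LinearEquiv.ofBijective L
    ⟨hLi, (LinearMap.injective_iff_surjective_of_finrank_eq_finrank hfr).1 hLi⟩,
    hσσ, hσ, hσι, hδ, fun v => ?_⟩
  have hcc : σ c = 1 + σ ζ * ζ' := by rw [hcdef, map_add, map_one, map_mul, hσσ]
  have hc' : 1 + σ ζ * ζ' ≠ 0 := by
    rw [← hcc]; simpa using hc
  simp only [LinearEquiv.ofBijective_apply, Fin.sum_univ_three]
  show _ = (w v + σ (t v / c)) * σ (w v + σ (t v / c)) +
      (ζ * w v + ζ' * σ (t v / c)) * σ (ζ * w v + ζ' * σ (t v / c)) +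
      (ι (v (.inr 0)) - ι (v (.inr 1)) * θ) * σ (ι (v (.inr 0)) - ι (v (.inr 1)) * θ)
  have hu : σ (t v / c) * σ c = σ (t v) := by rw [← map_mul, div_mul_cancel₀ _ hc]
  have hu' : (t v / c) * c = t v := div_mul_cancel₀ _ hc
  have htr : w v * t v + σ (w v) * σ (t v) =
      ι (v (.inl (.inl 0))) * ι (v (.inl (.inr 0))) + ι (v (.inl (.inl 1))) * ι (v (.inl (.inr 1))) := by
    simp only [t, w, map_add, map_sub, map_mul, map_div₀, map_neg, map_one, hσι, hσσ, hσδ]
    field_simp
    rw [hδdef]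
    ring
  have hQ : ι (Cfsg.quadFormMinus 2 F a b v) =
      ι (v (.inl (.inl 0))) * ι (v (.inl (.inr 0))) + ι (v (.inl (.inl 1))) * ι (v (.inl (.inr 1))) +
      (ι (v (.inr 0)) ^ 2 + ι a * ι (v (.inr 0)) * ι (v (.inr 1)) + ι b * ι (v (.inr 1)) ^ 2) := by
    simp [Cfsg.quadFormMinus, Fin.sum_univ_two, ι]
  rw [hQ]
  simp only [map_add, map_sub, map_mul, hσι, hσσ]
  set W := w v
  set u := t v / c
  rw [hcdef] at hu'
  rw [hcc] at hu
  linear_combination -htr - W * hu' - σ W * hu - (W * σ W) * hζ0 - (σ u * u) * hζ' +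
    (ι (v (.inr 0)) * ι (v (.inr 1))) * hsum - (ι (v (.inr 1)) ^ 2) * hprod

theorem scalar_mul_eq {g : Matrix (Fin 4) (Fin 4) K} {r : K} (hs : Matrix.scalar (Fin 4) r = g)
    (hr : r * r = 1) (M : Matrix (Fin 4) (Fin 4) K) : g * (M * gᵀ) = M := by
  rw [← hs, Matrix.scalar_apply, Matrix.diagonal_transpose]
  ext i j
  simp
  linear_combination (M i j) * hr

/-- `PΩ⁻₆(q) ≅ PSU₄(q)`. -/
theorem nonempty_pOmega_six_minus_equiv {q : ℕ} (hF : Fintype.card F = q) (hK : Fintype.card K = q ^ 2)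
    (a b : F) (hab : ∀ z₁ z₂ : F, z₁ ^ 2 + a * z₁ * z₂ + b * z₂ ^ 2 = 0 → z₁ = 0 ∧ z₂ = 0) :
    Nonempty (Cfsg.POmega F (Cfsg.quadFormMinus 2 F a b) ≃* Cfsg.PSU 4 K q) := by
  classical
  obtain ⟨_⟩ := CfsgLib.FieldEmb.exists_algebra (by norm_num : 1 ≤ 2) hF hK
  obtain ⟨σ, θ, E, hσσ, hσ, hσι, hδ, hE⟩ := exists_minus_coords (K := K) hF hK a b hab
  have hq : 0 < q := hF ▸ Fintype.card_pos
  let V : (Fin 3 → K) →ₗ[F] (Fin 3 ⊕ Fin 3 → K) :=
    { toFun := fun x => Sum.elim x (σ ∘ x)
      map_add' := fun x y => by funext i; rcases i with i | i <;> simp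
      map_smul' := fun r x => by funext i; rcases i with i | i <;> simp [Algebra.smul_def, hσι] }
  have hdual : ∀ x, dualVec (V x) = σ ∘ V x := fun x => by
    funext i; rcases i with i | i <;> simp [dualVec, V, hσσ]
  have hVl : ∀ z, dualVec z = σ ∘ z → V (z ∘ Sum.inl) = z := fun z hz => by
    funext i
    rcases i with i | i
    · rfl
    · exact (congrFun hz (.inl i)).symm
  let R : (Fin 3 ⊕ Fin 3 → K) →ₗ[F] (Fin 3 → K) := LinearMap.funLeft F K Sum.inl
  let T : ((Fin 2 ⊕ Fin 2) ⊕ Fin 2 → F) →ₗ[F] Matrix (Fin 4) (Fin 4) K :=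
    ((altMat K).restrictScalars F).comp (V.comp E.toLinearMap)
  let P : Matrix (Fin 4) (Fin 4) K →ₗ[F] ((Fin 2 ⊕ Fin 2) ⊕ Fin 2 → F) :=
    E.symm.toLinearMap.comp (R.comp ((altCoord K).restrictScalars F))
  have hPT : ∀ v, P (T v) = v := fun v => by
    show E.symm (altCoord K (altMat K (V (E v))) ∘ Sum.inl) = v
    rw [altCoord_altMat]
    exact E.symm_apply_apply v
  let A : Cfsg.SU 4 K q →* Module.End F (Matrix (Fin 4) (Fin 4) K) :=
    { toFun := fun g => (congrHom K g.1).restrictScalars F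
      map_one' := LinearMap.ext fun M => by simp
      map_mul' := fun g h => LinearMap.ext fun M => by
        show congrHom K (g.1 * h.1) M = congrHom K g.1 (congrHom K h.1 M)
        rw [map_mul]; rfl }
  have hunit : ∀ g : Cfsg.SU 4 K q, g.1.1ᵀ * g.1.1.map σ = 1 :=
    fun g => (mem_SU_iff_mul σ hσ hq g.1).1 g.2
  have hVP : ∀ (g : Cfsg.SU 4 K q) v, V (E (P (A g (T v)))) =
      altCoord K (congrHom K g.1 (altMat K (V (E v)))) := fun g v => by
    show V (E (E.symm (altCoord K (congrHom K g.1 (altMat K (V (E v)))) ∘ Sum.inl))) = _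
    rw [E.apply_symm_apply]
    exact hVl _ (unitary_stable σ g.1 (hunit g) (hdual _))
  have hA : ∀ g v, T (P (A g (T v))) = A g (T v) := fun g v => by
    show altMat K (V (E (P (A g (T v))))) = congrHom K g.1 (altMat K (V (E v)))
    rw [hVP, altMat_congr]
  have hN : ∀ v, algebraMap F K (Cfsg.quadFormMinus 2 F a b v) =
      Cfsg.quadFormPlus 3 K (V (E v)) := fun v => by
    rw [hE]; rfl
  obtain ⟨φ, -, hφ⟩ := exists_isoHom (Cfsg.quadFormMinus 2 F a b) T P hPT A hA fun g v => by
    refine (algebraMap F K).injective ?_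
    rw [hN, hN, hVP, pfaffian_congr]
  have hmem : ∀ g : Cfsg.SU 4 K q, g ∈ φ.ker ↔
      g.1.1 0 0 * g.1.1 0 0 = 1 ∧ Matrix.scalar (Fin 4) (g.1.1 0 0) = g.1.1 := by
    intro g
    rw [MonoidHom.mem_ker, hφ]
    refine ⟨fun h => scalar_of_congr_fix fun z => ?_, fun ⟨hr, hs⟩ v => scalar_mul_eq hs hr _⟩
    have hfix : ∀ x, congrHom K g.1 (altMat K (V x)) = altMat K (V x) := fun x => by
      have := h (E.symm x)
      change congrHom K g.1 (altMat K (V (E (E.symm x)))) = altMat K (V (E (E.symm x))) at this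
      rwa [E.apply_symm_apply] at this
    set r : Fin 3 → K := fun i => (z (.inl i) - σ (z (.inr i))) / (θ - σ θ) with hr
    set p : Fin 3 → K := fun i => z (.inl i) - θ * r i with hp
    have hz : z = V p + θ • V r := by
      funext i
      have hns : -θ + σ θ ≠ 0 := fun h => hδ (by linear_combination -h)
      have hns' : σ θ - θ ≠ 0 := fun h => hδ (by linear_combination -h)
      rcases i with i | i <;> simp [V, hp, hr, map_sub, map_mul, map_div₀, hσσ]
      field_simp
      ring
    rw [hz, map_add, map_add, map_smul, map_smul, hfix, hfix]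
  have hkc : φ.ker ≤ Subgroup.center _ := fun g hg => by
    obtain ⟨-, hs⟩ := (hmem g).1 hg
    refine Subgroup.mem_center_iff.2 fun B => Subtype.ext (Subtype.ext ?_)
    show B.1.1 * g.1.1 = g.1.1 * B.1.1
    rw [← hs]
    exact ((Matrix.scalar_commute _ (fun _ => Commute.all _ _) B.1.1).eq).symm
  let e : φ.ker ≃ ({1, -1} : Set K) :=
    { toFun := fun g => ⟨g.1.1.1 0 0, mul_self_eq_one_iff.1 ((hmem g.1).1 g.2).1⟩
      invFun := fun r => ⟨⟨⟨Matrix.scalar (Fin 4) r.1, by
          rcases r.2 with h | (h : r.1 = -1) <;> simp [h, Matrix.det_neg, Even.neg_one_pow (show Even 4 by decide)]⟩,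
          (mem_SU_iff_mul σ hσ hq _).2 (by
          show (Matrix.scalar (Fin 4) r.1)ᵀ * (Matrix.scalar (Fin 4) r.1).map σ = 1
          rw [Matrix.scalar_apply, Matrix.diagonal_transpose, Matrix.diagonal_map (map_zero σ),
            Matrix.diagonal_mul_diagonal, ← Matrix.diagonal_one]
          congr 1
          funext i
          rcases r.2 with h | (h : r.1 = -1) <;> simp [h])⟩,
          (hmem _).2 ⟨by
          rcases r.2 with h | (h : r.1 = -1) <;> simp [h], by simp⟩⟩
      left_inv := fun g => Subtype.ext (Subtype.ext (Subtype.ext ((hmem g.1).1 g.2).2))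
      right_inv := fun r => Subtype.ext (by simp) }
  have hKF : (2 : K) = 0 ↔ (2 : F) = 0 := by
    rw [← map_ofNat (algebraMap F K) 2, map_eq_zero]
  have hker : Nat.card φ.ker = if (2 : F) = 0 then 1 else 2 := by
    rw [Nat.card_congr e, Nat.card_coe_set_eq]
    split_ifs with h2
    · have := hKF.2 h2
      rw [show (-1 : K) = 1 by linear_combination -this]
      simp
    · refine Set.ncard_pair fun h => h2 (hKF.1 ?_)
      linear_combination h
  have hS : commutator (Cfsg.SU 4 K q) = ⊤ := commutator_SU_eq_top hK 4 (by norm_num) (by simp)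
  have hcard : Nat.card (Cfsg.SU 4 K q) = q ^ 6 * ((q ^ 3 + 1) * ((q ^ 2 - 1) * (q ^ 4 - 1))) := by
    refine Nat.eq_of_mul_eq_mul_left (n := q + 1) (by omega) ?_
    rw [card_SU_mul_GU hK (by norm_num), CfsgLib.Forms.card_GU hK 4]
    simp [Finset.sum_range_succ, Finset.prod_range_succ, CfsgLib.Forms.u_succ, Nat.even_iff]
    ring
  have hrange : φ.range = Cfsg.Omega F (Cfsg.quadFormMinus 2 F a b) := by
    refine range_eq_of_card φ (range_le_commutator φ hS) ?_
    have hO := (Cfsg.Omega F (Cfsg.quadFormMinus 2 F a b)).index_mul_card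
    have hcO := card_isometryGroup_quadFormMinus hF 3 (by norm_num) a b hab
    rw [show (3 : ℕ) - 1 = 2 from rfl] at hcO
    rw [hcO] at hO
    simp [-Nat.card_eq_fintype_card, Finset.prod_range_succ] at hO
    rw [hker, hcard]
    have hnd := minusQ_nondegenerate 2 (disc_ne_zero hab)
    split_ifs with h2
    · have : CharP F 2 := CharTwo.of_one_ne_zero_of_two_eq_zero one_ne_zero h2
      have hi : (Cfsg.Omega F (Cfsg.quadFormMinus 2 F a b)).index = 2 := by
        rw [← coe_minusQ]
        exact CfsgLib.Forms.index_omega_charTwo hnd (by simp) (Or.inr (by simp))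
      rw [hi] at hO
      linarith
    · have hi : (Cfsg.Omega F (Cfsg.quadFormMinus 2 F a b)).index = 4 := by
        rw [← coe_minusQ]
        exact CfsgLib.Forms.index_omega_odd h2 hnd (by simp)
      rw [hi] at hO
      linarith
  exact nonempty_quotient_center_equiv φ hrange hkc
    (fun g hg => mem_center_of_commutator_mem_center hS fun x => hkc (hg x))

end CfsgLib.Forms4
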