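import Cfsg.Agent.Forms4.OmegaSixPlus
import Cfsg.Agent.Forms4.SymplecticSimple
import Cfsg.Agent.Forms.SymplecticOrder

/-!
# `PΩ₅(q) ≅ PSp₄(q)`, `q` odd

`Sp₄ ≤ SL₄` fixes an anisotropic vector of the six-dimensional space of alternating matrices.
-/

set_option autoImplicit false

open Matrix CfsgLib.StdForms
open scoped commutatorElement

namespace CfsgLib.Forms4

variable {F : Type*} [Field F]

/-- The perp of the symplectic matrix inside the six-dimensional space. -/
noncomputable def fiveIn (F : Type*) [Field F] :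
    (Unit ⊕ (Fin 2 ⊕ Fin 2) → F) →ₗ[F] (Fin 3 ⊕ Fin 3 → F) where
  toFun u := Sum.elim ![u (.inr (.inl 0)), u (.inl ()), u (.inr (.inl 1))]
    ![u (.inr (.inr 0)), u (.inl ()), u (.inr (.inr 1))]
  map_add' u v := by funext i; rcases i with i | i <;> fin_cases i <;> simp
  map_smul' t u := by funext i; rcases i with i | i <;> fin_cases i <;> simp

/-- A left inverse of `fiveIn`. -/
noncomputable def fiveOut (F : Type*) [Field F] :
    (Fin 3 ⊕ Fin 3 → F) →ₗ[F] (Unit ⊕ (Fin 2 ⊕ Fin 2) → F) where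
  toFun x := Sum.elim (fun _ => x (.inl 1)) (Sum.elim ![x (.inl 0), x (.inl 2)] ![x (.inr 0), x (.inr 2)])
  map_add' u v := by funext i; rcases i with i | i | i <;> first | (fin_cases i <;> simp; done) | simp
  map_smul' t u := by funext i; rcases i with i | i | i <;> first | (fin_cases i <;> simp; done) | simp

/-- The coordinates of the symplectic matrix. -/
def sympVec (F : Type*) [Field F] : Fin 3 ⊕ Fin 3 → F := Sum.elim ![0, -1, 0] ![0, 1, 0]

theorem fiveOut_fiveIn (u : Unit ⊕ (Fin 2 ⊕ Fin 2) → F) : fiveOut F (fiveIn F u) = u := by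
  funext i
  rcases i with i | i | i
  · simp [fiveIn, fiveOut]
  · fin_cases i <;> simp [fiveIn, fiveOut]
  · fin_cases i <;> simp [fiveIn, fiveOut]

theorem fiveIn_fiveOut {x : Fin 3 ⊕ Fin 3 → F} (h : x (.inl 1) = x (.inr 1)) :
    fiveIn F (fiveOut F x) = x := by
  funext i
  rcases i with i | i <;> fin_cases i <;> simp [fiveIn, fiveOut, h]

theorem quadFormOdd_fiveIn (u : Unit ⊕ (Fin 2 ⊕ Fin 2) → F) :
    Cfsg.quadFormOdd 2 F u = Cfsg.quadFormPlus 3 F (fiveIn F u) := by
  simp [Cfsg.quadFormOdd, Cfsg.quadFormPlus, fiveIn, Fin.sum_univ_two, Fin.sum_univ_three]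
  ring

theorem quadFormPlus_add_sympVec (x : Fin 3 ⊕ Fin 3 → F) :
    Cfsg.quadFormPlus 3 F (x + sympVec F) = Cfsg.quadFormPlus 3 F x + (x (.inl 1) - x (.inr 1)) - 1 := by
  simp [Cfsg.quadFormPlus, sympVec, Fin.sum_univ_three]
  ring

theorem altMat_sympVec :
    altMat F (sympVec F) = Matrix.reindex finSumFinEquiv finSumFinEquiv (Matrix.J (Fin 2) F) := by
  have h : ∀ i j, altMat F (sympVec F) (finSumFinEquiv i) (finSumFinEquiv j) = Matrix.J (Fin 2) F i j := by
    intro i j
    rcases i with i | i <;> rcases j with j | j <;> fin_cases i <;> fin_cases j <;>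
      simp [altMat, sympVec, Matrix.J, finSumFinEquiv]
  ext i j
  rw [Matrix.reindex_apply, Matrix.submatrix_apply, ← h, Equiv.apply_symm_apply, Equiv.apply_symm_apply]

theorem det_eq_one_of_perfect {n : Type*} [Fintype n] [DecidableEq n] {S : Type*} [Group S]
    (hS : commutator S = ⊤) (φ : S →* Matrix n n F) (s : S) : (φ s).det = 1 := by
  have h : s ∈ ((Units.map Matrix.detMonoidHom).comp φ.toHomUnits).ker :=
    Abelianization.commutator_subset_ker _ (by rw [hS]; trivial)
  exact congrArg Units.val h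

/-- `Sp₄ → SL₄`. -/
noncomputable def spToSL (F : Type*) [Field F] (h2 : (2 : F) ≠ 0) :
    Matrix.symplecticGroup (Fin 2) F →* Matrix.SpecialLinearGroup (Fin 4) F where
  toFun A := ⟨Matrix.reindex finSumFinEquiv finSumFinEquiv A.1, by
    rw [Matrix.det_reindex_self]
    exact det_eq_one_of_perfect (commutator_Sp_eq_top (Or.inr (Or.inl ⟨le_rfl, h2⟩)))
      (Matrix.symplecticGroup (Fin 2) F).subtype A⟩
  map_one' := Subtype.ext (by simp)
  map_mul' A B := Subtype.ext
    (Matrix.submatrix_mul_equiv A.1 B.1 finSumFinEquiv.symm finSumFinEquiv.symm finSumFinEquiv.symm).symm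

theorem spToSL_fix (h2 : (2 : F) ≠ 0) (A : Matrix.symplecticGroup (Fin 2) F) :
    congrHom F (spToSL F h2 A) (altMat F (sympVec F)) = altMat F (sympVec F) := by
  rw [altMat_sympVec]
  change Matrix.reindex finSumFinEquiv finSumFinEquiv A.1 *
    (Matrix.reindex finSumFinEquiv finSumFinEquiv (Matrix.J (Fin 2) F) *
      (Matrix.reindex finSumFinEquiv finSumFinEquiv A.1)ᵀ) = _
  simp only [Matrix.reindex_apply, Matrix.transpose_submatrix, Matrix.submatrix_mul_equiv]
  rw [← mul_assoc, SymplecticGroup.mem_iff.1 A.2]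

theorem five_stable (h2 : (2 : F) ≠ 0) (A : Matrix.symplecticGroup (Fin 2) F) (u : Unit ⊕ (Fin 2 ⊕ Fin 2) → F) :
    fiveIn F (fiveOut F (altCoord F (congrHom F (spToSL F h2 A) (altMat F (fiveIn F u))))) =
      altCoord F (congrHom F (spToSL F h2 A) (altMat F (fiveIn F u))) := by
  refine fiveIn_fiveOut ?_
  have h := pfaffian_congr (spToSL F h2 A) (fiveIn F u + sympVec F)
  rw [map_add, map_add, map_add, spToSL_fix h2, altCoord_altMat, quadFormPlus_add_sympVec,
    quadFormPlus_add_sympVec, pfaffian_congr] at h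
  have hu : fiveIn F u (.inl 1) - fiveIn F u (.inr 1) = 0 := by simp [fiveIn]
  linear_combination h + hu

variable [Fintype F]

/-- `PΩ₅(q) ≅ PSp₄(q)`. -/
theorem nonempty_pOmega_five_equiv (hodd : Odd (Fintype.card F)) :
    Nonempty (Cfsg.POmega F (Cfsg.quadFormOdd 2 F) ≃* Cfsg.PSp 2 F) := by
  classical
  have h2 : (2 : F) ≠ 0 := fun h => (Nat.not_even_iff_odd.2 hodd) ((two_eq_zero_iff_even rfl).1 h)
  have hA : ∀ (A : Matrix.symplecticGroup (Fin 2) F) u,
      ((altMat F).comp (fiveIn F)) (((fiveOut F).comp (altCoord F))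
        (congrHom F (spToSL F h2 A) (((altMat F).comp (fiveIn F)) u))) =
        congrHom F (spToSL F h2 A) (((altMat F).comp (fiveIn F)) u) := by
    intro A u
    simp only [LinearMap.comp_apply]
    rw [five_stable h2, altMat_congr]
  obtain ⟨φ, -, hφ⟩ := exists_isoHom (Cfsg.quadFormOdd 2 F) ((altMat F).comp (fiveIn F))
    ((fiveOut F).comp (altCoord F))
    (fun u => by simp [altCoord_altMat, fiveOut_fiveIn])
    ((congrHom F).comp (spToSL F h2)) hA (fun A u => by
      simp only [MonoidHom.comp_apply, LinearMap.comp_apply]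
      rw [quadFormOdd_fiveIn, five_stable h2, pfaffian_congr, ← quadFormOdd_fiveIn])
  have hmem : ∀ A, A ∈ φ.ker ↔ A.1 (.inl 0) (.inl 0) * A.1 (.inl 0) (.inl 0) = 1 ∧
      Matrix.scalar (Fin 2 ⊕ Fin 2) (A.1 (.inl 0) (.inl 0)) = A.1 := by
    intro A
    rw [MonoidHom.mem_ker, hφ]
    constructor
    · intro h
      obtain ⟨hr, hs⟩ := scalar_of_congr_fix (g := spToSL F h2 A) fun x => by
        set t := (x (.inr 1) - x (.inl 1)) / 2 with ht
        have hx : x = fiveIn F (fiveOut F (x - t • sympVec F)) + t • sympVec F := by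
          rw [fiveIn_fiveOut, sub_add_cancel]
          simp [sympVec, ht]
          field_simp
          ring
        rw [hx, map_add, map_add, map_smul, map_smul, spToSL_fix h2]
        exact congrArg (· + _) (h _)
      have e0 : (spToSL F h2 A).1 0 0 = A.1 (.inl 0) (.inl 0) := rfl
      rw [e0] at hr hs
      refine ⟨hr, ?_⟩
      ext i j
      have := congrFun (congrFun hs (finSumFinEquiv i)) (finSumFinEquiv j)
      change _ = A.1 (finSumFinEquiv.symm (finSumFinEquiv i)) (finSumFinEquiv.symm (finSumFinEquiv j)) at this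
      simpa [Matrix.diagonal_apply] using this
    · rintro ⟨hr, hs⟩ x
      show (spToSL F h2 A).1 * (_ * (spToSL F h2 A).1ᵀ) = _
      have e : (spToSL F h2 A).1 = Matrix.scalar (Fin 4) (A.1 (.inl 0) (.inl 0)) := by
        show Matrix.reindex finSumFinEquiv finSumFinEquiv A.1 = _
        conv_lhs => rw [← hs]
        ext i j
        simp [Matrix.reindex_apply, Matrix.diagonal_apply]
      rw [e]
      ext i j
      simp [Matrix.scalar_apply]
      linear_combination (altMat F (fiveIn F x) i j) * hr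
  have hkc : φ.ker ≤ Subgroup.center _ := fun A hA => by
    obtain ⟨-, hs⟩ := (hmem A).1 hA
    refine Subgroup.mem_center_iff.2 fun B => Subtype.ext ?_
    show B.1 * A.1 = A.1 * B.1
    rw [← hs]
    exact ((Matrix.scalar_commute _ (fun _ => Commute.all _ _) B.1).eq).symm
  let e : φ.ker ≃ ({1, -1} : Set F) :=
    { toFun := fun A => ⟨A.1.1 (.inl 0) (.inl 0), mul_self_eq_one_iff.1 ((hmem A.1).1 A.2).1⟩
      invFun := fun r => ⟨⟨Matrix.scalar (Fin 2 ⊕ Fin 2) r.1, by
          rw [SymplecticGroup.mem_iff]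
          ext i j
          rcases r.2 with h | (h : r.1 = -1) <;> simp [h]⟩, (hmem _).2 ⟨by
          rcases r.2 with h | (h : r.1 = -1) <;> simp [h], by simp⟩⟩
      left_inv := fun A => Subtype.ext (Subtype.ext ((hmem A.1).1 A.2).2)
      right_inv := fun r => Subtype.ext (by simp) }
  have hker : Nat.card φ.ker = 2 := by
    rw [Nat.card_congr e, Nat.card_coe_set_eq]
    exact Set.ncard_pair fun h => h2 (by linear_combination h)
  have hS : commutator (Matrix.symplecticGroup (Fin 2) F) = ⊤ :=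
    commutator_Sp_eq_top (Or.inr (Or.inl ⟨le_rfl, h2⟩))
  have hrange : φ.range = Cfsg.Omega F (Cfsg.quadFormOdd 2 F) := by
    refine range_eq_of_card φ (range_le_commutator φ hS) ?_
    have hO := (Cfsg.Omega F (Cfsg.quadFormOdd 2 F)).index_mul_card
    have hi : (Cfsg.Omega F (Cfsg.quadFormOdd 2 F)).index = 4 := by
      rw [← coe_oddQ]
      exact CfsgLib.Forms.index_omega_odd h2 (oddQ_nondegenerate h2 2) (by simp)
    rw [card_isometryGroup_quadFormOdd rfl hodd 2, hi] at hO
    rw [hker, CfsgLib.Forms.card_symplecticGroup]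
    simp [-Nat.card_eq_fintype_card, Finset.prod_range_succ] at hO ⊢
    linarith
  exact nonempty_quotient_center_equiv φ hrange hkc
    (fun g hg => mem_center_of_commutator_mem_center hS fun x => hkc (hg x))

end CfsgLib.Forms4
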