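import Cfsg.Agent.Forms.Eichler

/-!
# `Ω(Q)` is perfect and `Ω(Q)/Z` is simple

Finite field of any characteristic, nondegenerate polar form, dimension at least five, two orthogonal
hyperbolic pairs. Eichler maps generate a normal subgroup that is transitive on each set of vectors of
given value, hence equals `Ω`; each Eichler map is a commutator inside it; then Iwasawa's argument on
the singular points.
-/

set_option autoImplicit false

namespace CfsgLib.Forms4

open Matrix Module CfsgLib.Spinor CfsgLib.Forms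
open scoped commutatorElement

variable {F : Type*} [Field F] {ι : Type} [Fintype ι] [DecidableEq ι]

/-- Two orthogonal hyperbolic pairs. -/
structure TwoPairs (Q : QuadraticForm F (ι → F)) where
  /-- first vector -/
  e : ι → F
  /-- its partner -/
  f : ι → F
  /-- second vector -/
  a : ι → F
  /-- its partner -/
  b : ι → F
  qe : Q e = 0
  qf : Q f = 0
  qa : Q a = 0
  qb : Q b = 0
  ef : QuadraticMap.polar (⇑Q) e f = 1
  ab : QuadraticMap.polar (⇑Q) a b = 1
  ea : QuadraticMap.polar (⇑Q) e a = 0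
  eb : QuadraticMap.polar (⇑Q) e b = 0
  fa : QuadraticMap.polar (⇑Q) f a = 0
  fb : QuadraticMap.polar (⇑Q) f b = 0

variable (Q : QuadraticForm F (ι → F))

/-- The subgroup generated by the Eichler maps. -/
def eichGroup : Subgroup ↥(Cfsg.isometryGroup F ⇑Q) :=
  Subgroup.closure {g | ∃ u w, Q u = 0 ∧ QuadraticMap.polar (⇑Q) u w = 0 ∧ mat Q g = eich Q u w}

theorem eichIso_mem {u w : ι → F} (hu : Q u = 0) (huw : QuadraticMap.polar (⇑Q) u w = 0) :
    eichIso Q u w hu huw ∈ eichGroup Q :=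
  Subgroup.subset_closure ⟨u, w, hu, huw, rfl⟩

theorem eichGroup_normal : (eichGroup Q).Normal := by
  refine ⟨fun g hg k => ?_⟩
  unfold eichGroup at hg ⊢
  induction hg using Subgroup.closure_induction with
  | mem y hy =>
    obtain ⟨u, w, hu, huw, hy⟩ := hy
    refine Subgroup.subset_closure ⟨mat Q k *ᵥ u, mat Q k *ᵥ w, by rw [quad_mulVec, hu],
      by rw [polar_mulVec, huw], ?_⟩
    rw [mat_mul, mat_mul, hy, conj_eich, mul_assoc, ← mat_mul, mul_inv_cancel, mat_one, mul_one]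
  | one => simp
  | mul y z _ _ hy hz => simpa [mul_assoc] using mul_mem hy hz
  | inv y _ hy => simpa [mul_assoc] using inv_mem hy

theorem eich_smul_left (u w : ι → F) (t : F) : eich Q (t • u) w = eich Q u (t • w) := by
  refine Matrix.ext_iff_mulVec.2 fun x => ?_
  simp only [eich_mulVec, QuadraticMap.polar_smul_left, QuadraticMap.map_smul, smul_eq_mul]
  module

theorem eich_smul_self {u : ι → F} (hu : Q u = 0) (t : F) : eich Q u (t • u) = 1 := by
  refine Matrix.ext_iff_mulVec.2 fun x => ?_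
  simp only [eich_mulVec, QuadraticMap.polar_smul_left, QuadraticMap.map_smul, smul_eq_mul, hu,
    Matrix.one_mulVec]
  module

variable {Q}

/-- Two vectors have a non-degenerate enough common perpendicular space. -/
theorem exists_perp_pair (hQ : (QuadraticMap.polarBilin Q).Nondegenerate)
    (hn : 5 ≤ Fintype.card ι) (u v : ι → F) :
    ∃ x y, (QuadraticMap.polar (⇑Q) u x = 0 ∧ QuadraticMap.polar (⇑Q) v x = 0) ∧ (QuadraticMap.polar (⇑Q) u y = 0 ∧ QuadraticMap.polar (⇑Q) v y = 0) ∧ QuadraticMap.polar (⇑Q) x y ≠ 0 := by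
  by_contra! hc
  let P := perpSub Q ![u, v]
  have hP : ∀ x ∈ P, QuadraticMap.polar (⇑Q) u x = 0 ∧ QuadraticMap.polar (⇑Q) v x = 0 := fun x hx =>
    ⟨mem_perpSub.1 hx 0, mem_perpSub.1 hx 1⟩
  let φ : P →ₗ[F] Module.Dual F (ι → F) := (QuadraticMap.polarBilin Q).comp P.subtype
  have hφ : Function.Injective φ := by
    rw [injective_iff_map_eq_zero]
    intro x hx
    exact Subtype.ext (hQ.1 _ fun y => LinearMap.congr_fun hx y)
  have hr : LinearMap.range φ ≤ P.dualAnnihilator := by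
    rintro _ ⟨x, rfl⟩
    rw [Submodule.mem_dualAnnihilator]
    intro y hy
    exact hc _ _ (hP _ x.2) (hP _ hy)
  have h1 := Submodule.finrank_mono hr
  rw [LinearMap.finrank_range_of_inj hφ] at h1
  have h2 : finrank F P + finrank F P.dualAnnihilator = finrank F (ι → F) :=
    Subspace.finrank_add_finrank_dualAnnihilator_eq P
  have h3 := le_finrank_perpSub Q ![u, v]
  have h4 : finrank F (ι → F) = Fintype.card ι := Module.finrank_pi F
  change finrank F (ι → F) ≤ finrank F P + 2 at h3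
  omega

/-- Two vectors are perpendicular to a common anisotropic vector. -/
theorem exists_perp_anisotropic (hQ : (QuadraticMap.polarBilin Q).Nondegenerate)
    (hn : 5 ≤ Fintype.card ι) (u v : ι → F) :
    ∃ w, QuadraticMap.polar (⇑Q) u w = 0 ∧ QuadraticMap.polar (⇑Q) v w = 0 ∧ Q w ≠ 0 := by
  obtain ⟨x, y, hx, hy, hxy⟩ := exists_perp_pair hQ hn u v
  by_contra! h
  apply hxy
  have h3 := h (x + y) (by rw [QuadraticMap.polar_add_right, hx.1, hy.1, add_zero])
    (by rw [QuadraticMap.polar_add_right, hx.2, hy.2, add_zero])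
  rw [QuadraticMap.map_add (⇑Q), h x hx.1 hx.2, h y hy.1 hy.2] at h3
  simpa using h3

namespace TwoPairs

variable (P : TwoPairs Q)

theorem fe : QuadraticMap.polar (⇑Q) P.f P.e = 1 := by rw [QuadraticMap.polar_comm, P.ef]

theorem ee : QuadraticMap.polar (⇑Q) P.e P.e = 0 := by rw [polar_self', P.qe, mul_zero]

theorem ff : QuadraticMap.polar (⇑Q) P.f P.f = 0 := by rw [polar_self', P.qf, mul_zero]

theorem aa : QuadraticMap.polar (⇑Q) P.a P.a = 0 := by rw [polar_self', P.qa, mul_zero]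

theorem bb : QuadraticMap.polar (⇑Q) P.b P.b = 0 := by rw [polar_self', P.qb, mul_zero]

/-- Membership in the perpendicular space of the first pair. -/
def InW (z : ι → F) : Prop := QuadraticMap.polar (⇑Q) P.e z = 0 ∧ QuadraticMap.polar (⇑Q) P.f z = 0

theorem inW_add {z z' : ι → F} (h : P.InW z) (h' : P.InW z') : P.InW (z + z') :=
  ⟨by rw [QuadraticMap.polar_add_right, h.1, h'.1, add_zero],
    by rw [QuadraticMap.polar_add_right, h.2, h'.2, add_zero]⟩

theorem inW_smul {z : ι → F} (h : P.InW z) (t : F) : P.InW (t • z) :=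
  ⟨by rw [QuadraticMap.polar_smul_right, h.1, smul_zero],
    by rw [QuadraticMap.polar_smul_right, h.2, smul_zero]⟩

theorem inW_a : P.InW P.a := ⟨P.ea, P.fa⟩

theorem inW_b : P.InW P.b := ⟨P.eb, P.fb⟩

/-- The component in the perpendicular space. -/
def proj (x : ι → F) : ι → F := x - QuadraticMap.polar (⇑Q) P.f x • P.e - QuadraticMap.polar (⇑Q) P.e x • P.f

theorem inW_proj (x : ι → F) : P.InW (P.proj x) := by
  constructor <;>
    simp [proj, QuadraticMap.polar_sub_right, QuadraticMap.polar_smul_right, P.ee, P.ff, P.ef, P.fe]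

theorem decomp (x : ι → F) : x = QuadraticMap.polar (⇑Q) P.f x • P.e + QuadraticMap.polar (⇑Q) P.e x • P.f + P.proj x := by
  rw [proj]; module

theorem quad_decomp (α β : F) {z : ι → F} (hz : P.InW z) :
    Q (α • P.e + β • P.f + z) = α * β + Q z := by
  rw [QuadraticMap.map_add (⇑Q), QuadraticMap.map_add (⇑Q), QuadraticMap.map_smul,
    QuadraticMap.map_smul, P.qe, P.qf, QuadraticMap.polar_add_left,
    QuadraticMap.polar_smul_left, QuadraticMap.polar_smul_left, QuadraticMap.polar_smul_left,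
    QuadraticMap.polar_smul_right, P.ef, hz.1, hz.2]
  simp

theorem eich_e_apply (α β : F) {z w : ι → F} (hz : P.InW z) (hw : P.InW w) :
    eich Q P.e w *ᵥ (α • P.e + β • P.f + z) =
      (α - QuadraticMap.polar (⇑Q) w z - Q w * β) • P.e + β • P.f + (z + β • w) := by
  simp only [eich_mulVec, QuadraticMap.polar_add_right, QuadraticMap.polar_smul_right, P.ee, P.ef,
    hz.1, QuadraticMap.polar_comm (⇑Q) w P.e, QuadraticMap.polar_comm (⇑Q) w P.f, hw.1, hw.2,
    smul_eq_mul]
  module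

theorem eich_f_apply (α β : F) {z w : ι → F} (hz : P.InW z) (hw : P.InW w) :
    eich Q P.f w *ᵥ (α • P.e + β • P.f + z) =
      α • P.e + (β - QuadraticMap.polar (⇑Q) w z - Q w * α) • P.f + (z + α • w) := by
  simp only [eich_mulVec, QuadraticMap.polar_add_right, QuadraticMap.polar_smul_right, P.ff, P.fe,
    hz.2, QuadraticMap.polar_comm (⇑Q) w P.e, QuadraticMap.polar_comm (⇑Q) w P.f, hw.1, hw.2,
    smul_eq_mul]
  module

/-- Every vector of the perpendicular space is a sum of three singular ones. -/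
theorem exists_three_singular {z : ι → F} (hz : P.InW z) :
    ∃ z₁ z₂ z₃, (P.InW z₁ ∧ Q z₁ = 0) ∧ (P.InW z₂ ∧ Q z₂ = 0) ∧ (P.InW z₃ ∧ Q z₃ = 0) ∧
      z = z₁ + z₂ + z₃ := by
  set y := z - QuadraticMap.polar (⇑Q) P.b z • P.a - QuadraticMap.polar (⇑Q) P.a z • P.b with hy
  have hyW : P.InW y := by
    constructor <;>
      simp [hy, QuadraticMap.polar_sub_right, QuadraticMap.polar_smul_right, hz.1, hz.2, P.ea, P.eb,
        P.fa, P.fb]
  have hay : QuadraticMap.polar (⇑Q) P.a y = 0 := by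
    simp [hy, QuadraticMap.polar_sub_right, QuadraticMap.polar_smul_right, P.aa, P.ab]
  have hby : QuadraticMap.polar (⇑Q) P.b y = 0 := by
    simp [hy, QuadraticMap.polar_sub_right, QuadraticMap.polar_smul_right, P.bb,
      QuadraticMap.polar_comm (⇑Q) P.b P.a, P.ab]
  refine ⟨y + (P.a + (-Q y) • P.b), (QuadraticMap.polar (⇑Q) P.b z - 1) • P.a, (QuadraticMap.polar (⇑Q) P.a z + Q y) • P.b,
    ⟨P.inW_add hyW (P.inW_add P.inW_a (P.inW_smul P.inW_b _)), ?_⟩,
    ⟨P.inW_smul P.inW_a _, ?_⟩, ⟨P.inW_smul P.inW_b _, ?_⟩, ?_⟩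
  · rw [QuadraticMap.map_add (⇑Q), QuadraticMap.map_add (⇑Q) P.a, QuadraticMap.map_smul, P.qa,
      P.qb, QuadraticMap.polar_add_right, QuadraticMap.polar_smul_right,
      QuadraticMap.polar_smul_right, P.ab, QuadraticMap.polar_comm (⇑Q) y P.a, hay,
      QuadraticMap.polar_comm (⇑Q) y P.b, hby]
    simp
  · rw [QuadraticMap.map_smul, P.qa, smul_zero]
  · rw [QuadraticMap.map_smul, P.qb, smul_zero]
  · rw [hy]; module

/-- Some element of `eichGroup` moves a nonzero vector into the plane of the first pair, with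
nonzero first coordinate. -/
theorem exists_to_plane (hQ : (QuadraticMap.polarBilin Q).Nondegenerate) {x : ι → F} (hx : x ≠ 0) :
    ∃ s ∈ eichGroup Q, ∃ α β : F, α ≠ 0 ∧ mat Q s *ᵥ x = α • P.e + β • P.f := by
  have step : ∀ (α β : F) (z : ι → F), α ≠ 0 → P.InW z →
      ∃ s ∈ eichGroup Q, ∃ β' : F, mat Q s *ᵥ (α • P.e + β • P.f + z) = α • P.e + β' • P.f := by
    intro α β z hα hz
    have hw : P.InW ((-α⁻¹) • z) := P.inW_smul hz _
    refine ⟨_, eichIso_mem Q P.qf hw.2, β - QuadraticMap.polar (⇑Q) ((-α⁻¹) • z) z - Q ((-α⁻¹) • z) * α, ?_⟩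
    rw [mat_eichIso, P.eich_f_apply _ _ hz hw, smul_smul, mul_neg, mul_inv_cancel₀ hα, neg_one_smul,
      add_neg_cancel, add_zero]
  set α := QuadraticMap.polar (⇑Q) P.f x
  set β := QuadraticMap.polar (⇑Q) P.e x
  set z := P.proj x
  have hz : P.InW z := P.inW_proj x
  have hd : x = α • P.e + β • P.f + z := P.decomp x
  rw [hd] at hx ⊢
  by_cases hα : α = 0
  swap
  · obtain ⟨s, hs, β', h⟩ := step α β z hα hz
    exact ⟨s, hs, α, β', hα, h⟩
  obtain ⟨w, hw, hwz⟩ : ∃ w, P.InW w ∧ α - QuadraticMap.polar (⇑Q) w z - Q w * β ≠ 0 := by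
    by_contra! h
    have hadd : ∀ w w', P.InW w → P.InW w' → QuadraticMap.polar (⇑Q) w w' * β = 0 := fun w w' hw hw' => by
      have h3 := h (w + w') (P.inW_add hw hw')
      rw [QuadraticMap.polar_add_left, QuadraticMap.map_add (⇑Q)] at h3
      linear_combination h w hw + h w' hw' - h3 - hα
    have hβ : β = 0 := by simpa [P.ab] using hadd _ _ P.inW_a P.inW_b
    have hzW : ∀ w, P.InW w → QuadraticMap.polar (⇑Q) w z = 0 := fun w hw => by
      have := h w hw
      rw [hα, hβ] at this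
      linear_combination -this
    have hz0 : z = 0 := hQ.1 z fun y => by
      have hy := P.decomp y
      rw [QuadraticMap.polarBilin_apply_apply, hy, QuadraticMap.polar_add_right,
        QuadraticMap.polar_add_right, QuadraticMap.polar_smul_right, QuadraticMap.polar_smul_right,
        QuadraticMap.polar_comm (⇑Q) z P.e, hz.1, QuadraticMap.polar_comm (⇑Q) z P.f, hz.2,
        QuadraticMap.polar_comm (⇑Q) z (P.proj y), hzW _ (P.inW_proj y)]
      simp
    exact hx (by rw [hα, hβ, hz0]; simp)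
  obtain ⟨s, hs, β', h⟩ := step _ β (z + β • w) hwz (P.inW_add hz (P.inW_smul hw _))
  refine ⟨s * eichIso Q P.e w P.qe hw.1, mul_mem hs (eichIso_mem Q P.qe hw.1), _, β', hwz, ?_⟩
  rw [mat_mul, ← Matrix.mulVec_mulVec, mat_eichIso, P.eich_e_apply _ _ hz hw, h]

/-- `eichGroup` is transitive on singular points. -/
theorem exists_to_e (hQ : (QuadraticMap.polarBilin Q).Nondegenerate) {x : ι → F} (hx : x ≠ 0)
    (hq : Q x = 0) : ∃ s ∈ eichGroup Q, ∃ α : F, α ≠ 0 ∧ mat Q s *ᵥ x = α • P.e := by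
  obtain ⟨s, hs, α, β, hα, h⟩ := P.exists_to_plane hQ hx
  have hβ : β = 0 := by
    have h1 := congrArg (fun v => Q v) h
    simp only [quad_mulVec, hq] at h1
    rw [← add_zero (α • P.e + β • P.f),
      P.quad_decomp α β (z := 0) ⟨QuadraticMap.polar_zero_right _ _, QuadraticMap.polar_zero_right _ _⟩,
      QuadraticMap.map_zero, add_zero] at h1
    exact (mul_eq_zero.1 h1.symm).resolve_left hα
  exact ⟨s, hs, α, hα, by rw [h, hβ, zero_smul, add_zero]⟩

/-- `eichGroup` is transitive on the vectors of a given nonzero value. -/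
theorem exists_to_value (hQ : (QuadraticMap.polarBilin Q).Nondegenerate) {x : ι → F} {c : F}
    (hc : c ≠ 0) (hq : Q x = c) : ∃ s ∈ eichGroup Q, mat Q s *ᵥ x = P.e + c • P.f := by
  have hz0 : P.InW 0 := ⟨QuadraticMap.polar_zero_right _ _, QuadraticMap.polar_zero_right _ _⟩
  obtain ⟨s, hs, α, β, hα, h⟩ := P.exists_to_plane hQ (x := x)
    (fun h0 => hc (by rw [← hq, h0, QuadraticMap.map_zero]))
  have hαβ : α * β = c := by
    have h1 := congrArg (fun v => Q v) h
    simp only [quad_mulVec, hq] at h1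
    rw [← add_zero (α • P.e + β • P.f), P.quad_decomp α β hz0, QuadraticMap.map_zero, add_zero] at h1
    exact h1.symm
  have hβ : β ≠ 0 := right_ne_zero_of_mul (hαβ ▸ hc)
  set t := (α - 1) / β with ht
  set w := P.a + t • P.b with hw'
  have hw : P.InW w := P.inW_add P.inW_a (P.inW_smul P.inW_b _)
  have hQw : Q w = t := by
    rw [hw', QuadraticMap.map_add (⇑Q), QuadraticMap.map_smul, P.qa, P.qb,
      QuadraticMap.polar_smul_right, P.ab]
    simp
  have hu : P.InW ((-β) • w) := P.inW_smul hw _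
  refine ⟨eichIso Q P.f ((-β) • w) P.qf hu.2 * (eichIso Q P.e w P.qe hw.1 * s),
    mul_mem (eichIso_mem Q _ _) (mul_mem (eichIso_mem Q _ _) hs), ?_⟩
  have h1 : α • P.e + β • P.f = α • P.e + β • P.f + (0 : ι → F) := (add_zero _).symm
  rw [mat_mul, ← Matrix.mulVec_mulVec, mat_mul, ← Matrix.mulVec_mulVec, h, mat_eichIso, mat_eichIso,
    h1, P.eich_e_apply _ _ hz0 hw]
  have hα' : α - QuadraticMap.polar (⇑Q) w 0 - Q w * β = 1 := by
    rw [hQw, ht, QuadraticMap.polar_zero_right]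
    field_simp
    ring
  rw [hα', zero_add, P.eich_f_apply _ _ (P.inW_smul hw _) hu, QuadraticMap.map_smul,
    QuadraticMap.polar_smul_left, QuadraticMap.polar_smul_right, polar_self', hQw, smul_eq_mul,
    smul_eq_mul, smul_eq_mul, one_smul, one_smul]
  have hc' : β - -β * (β * (2 * t)) - -β * -β * t * 1 = c := by
    rw [← hαβ, ht]
    field_simp
    ring
  rw [hc']
  module

theorem exists_partner_inW (hQ : (QuadraticMap.polarBilin Q).Nondegenerate) {z : ι → F}
    (hz : P.InW z) (hzq : Q z = 0) (hz0 : z ≠ 0) : ∃ z', P.InW z' ∧ Q z' = 0 ∧ QuadraticMap.polar (⇑Q) z z' = 1 := by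
  obtain ⟨y, hy⟩ : ∃ y, QuadraticMap.polar (⇑Q) z y ≠ 0 := by
    by_contra! h
    exact hz0 (hQ.1 z h)
  have hzp : QuadraticMap.polar (⇑Q) z (P.proj y) ≠ 0 := by
    rw [P.decomp y, QuadraticMap.polar_add_right, QuadraticMap.polar_add_right,
      QuadraticMap.polar_smul_right, QuadraticMap.polar_smul_right,
      QuadraticMap.polar_comm (⇑Q) z P.e, hz.1, QuadraticMap.polar_comm (⇑Q) z P.f, hz.2] at hy
    simpa using hy
  set p := (QuadraticMap.polar (⇑Q) z (P.proj y))⁻¹ • P.proj y with hp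
  have hpz : QuadraticMap.polar (⇑Q) z p = 1 := by
    rw [hp, QuadraticMap.polar_smul_right, smul_eq_mul, inv_mul_cancel₀ hzp]
  refine ⟨p + (-Q p) • z, P.inW_add (P.inW_smul (P.inW_proj y) _) (P.inW_smul hz _), ?_, ?_⟩
  · rw [QuadraticMap.map_add (⇑Q), QuadraticMap.map_smul Q (-Q p) z, hzq, QuadraticMap.polar_smul_right,
      QuadraticMap.polar_comm (⇑Q) p z, hpz]
    simp
  · rw [QuadraticMap.polar_add_right, hpz, QuadraticMap.polar_smul_right, polar_self', hzq]
    simp

variable (hQ : (QuadraticMap.polarBilin Q).Nondegenerate) (hn : 5 ≤ Fintype.card ι)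

include hQ hn in
/-- An Eichler map is a product of commutators of Eichler maps. -/
theorem eichGroup_le_commutator (P : TwoPairs Q) :
    eichGroup Q ≤ ⁅eichGroup Q, eichGroup Q⁆ := by
  have : (eichGroup Q).Normal := eichGroup_normal Q
  have hnor : ⁅eichGroup Q, eichGroup Q⁆.Normal := Subgroup.commutator_normal _ _
  have hsing : ∀ u, Q u = 0 → ∀ heu : QuadraticMap.polar (⇑Q) P.e u = 0,
      eichIso Q P.e u P.qe heu ∈ ⁅eichGroup Q, eichGroup Q⁆ := by
    intro u hu heu
    obtain ⟨x, y, hx, hy, hxy⟩ := exists_perp_pair hQ hn P.e u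
    set w := (-(QuadraticMap.polar (⇑Q) x y)⁻¹) • x with hw
    have hew : QuadraticMap.polar (⇑Q) P.e w = 0 := by rw [hw, QuadraticMap.polar_smul_right, hx.1, smul_zero]
    have huw : QuadraticMap.polar (⇑Q) u w = 0 := by rw [hw, QuadraticMap.polar_smul_right, hx.2, smul_zero]
    have hwy : QuadraticMap.polar (⇑Q) w y = -1 := by
      rw [hw, QuadraticMap.polar_smul_left, smul_eq_mul, neg_mul, inv_mul_cancel₀ hxy]
    have hge : eich Q u w *ᵥ P.e = P.e := by
      rw [eich_mulVec, QuadraticMap.polar_comm (⇑Q) u P.e, heu, QuadraticMap.polar_comm (⇑Q) w P.e,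
        hew]
      simp
    have hgy : eich Q u w *ᵥ y = y + u := by
      rw [eich_mulVec, hy.2, hwy]
      simp
    have h := Subgroup.commutator_mem_commutator (eichIso_mem Q hu huw) (eichIso_mem Q P.qe hy.1)
    convert h using 1
    rw [commutatorElement_def, eq_mul_inv_iff_mul_eq, eq_mul_inv_iff_mul_eq]
    refine mat_ext Q ?_
    rw [mat_mul, mat_mul, mat_mul, mat_eichIso, mat_eichIso, mat_eichIso,
      eich_mul P.qe heu hy.1, add_comm u y, ← hgy]
    have := conj_eich (eichIso Q u w hu huw) P.e y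
    rw [mat_eichIso, hge] at this
    rw [← this]
  have he : ∀ w, ∀ hew : QuadraticMap.polar (⇑Q) P.e w = 0, eichIso Q P.e w P.qe hew ∈ ⁅eichGroup Q, eichGroup Q⁆ := by
    intro w hew
    obtain ⟨z₁, z₂, z₃, h₁, h₂, h₃, hz⟩ := P.exists_three_singular (P.inW_proj w)
    have hw : w = QuadraticMap.polar (⇑Q) P.f w • P.e + (z₁ + z₂ + z₃) := by
      conv_lhs => rw [P.decomp w, hew, zero_smul, add_zero, hz]
    have h12 : QuadraticMap.polar (⇑Q) P.e (z₁ + z₂) = 0 := by rw [QuadraticMap.polar_add_right, h₁.1.1, h₂.1.1, add_zero]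
    have heq : eichIso Q P.e w P.qe hew = eichIso Q P.e z₁ P.qe h₁.1.1 *
        eichIso Q P.e z₂ P.qe h₂.1.1 * eichIso Q P.e z₃ P.qe h₃.1.1 := by
      refine mat_ext Q ?_
      rw [mat_mul, mat_mul, mat_eichIso, mat_eichIso, mat_eichIso, mat_eichIso,
        eich_mul P.qe h₁.1.1 h₂.1.1, eich_mul P.qe h12 h₃.1.1, hw,
        ← eich_mul P.qe (by rw [QuadraticMap.polar_smul_right, P.ee, smul_zero])
          (by rw [QuadraticMap.polar_add_right, h12, h₃.1.1, add_zero]), eich_smul_self Q P.qe,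
        one_mul]
    rw [heq]
    exact mul_mem (mul_mem (hsing _ h₁.2 _) (hsing _ h₂.2 _)) (hsing _ h₃.2 _)
  conv_lhs => rw [eichGroup]
  rw [Subgroup.closure_le]
  rintro g ⟨u, w, hu, huw, hg⟩
  by_cases hu0 : u = 0
  · have : g = 1 := mat_ext Q (by
      rw [hg, mat_one, hu0, ← zero_smul F P.e, eich_smul_left, zero_smul, eich_zero])
    rw [this]
    exact one_mem _
  obtain ⟨s, -, α, hα, hsu⟩ := P.exists_to_e hQ hu0 hu
  have hew : QuadraticMap.polar (⇑Q) P.e (α • (mat Q s *ᵥ w)) = 0 := by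
    have h := polar_mulVec Q s u w
    rw [hsu, huw, QuadraticMap.polar_smul_left] at h
    rw [QuadraticMap.polar_smul_right]
    exact h
  have hs : s * g * s⁻¹ = eichIso Q P.e (α • (mat Q s *ᵥ w)) P.qe hew := by
    rw [mul_inv_eq_iff_eq_mul]
    refine mat_ext Q ?_
    rw [mat_mul, mat_mul, hg, conj_eich, hsu, eich_smul_left, mat_eichIso]
  have := hnor.conj_mem _ (he _ hew) s⁻¹
  rw [← hs] at this
  simpa [mul_assoc] using this

include hQ hn in
/-- `Ω` is generated by the Eichler maps. -/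
theorem omega_eq_eichGroup (P : TwoPairs Q) [Finite F] : Cfsg.Omega F ⇑Q = eichGroup Q := by
  have : (eichGroup Q).Normal := eichGroup_normal Q
  refine le_antisymm ?_ ((eichGroup_le_commutator hQ hn P).trans
    (Subgroup.commutator_mono le_top le_top))
  have hgen := exists_isReflProd_finite hQ (Or.inr (by omega))
  have hle := omega_le_of_reflections_commute hgen (QuotientGroup.mk' (eichGroup Q)) ?_
  · rwa [QuotientGroup.ker_mk'] at hle
  intro v w hv hw
  show QuotientGroup.mk' _ _ * QuotientGroup.mk' _ _ = QuotientGroup.mk' _ _ * QuotientGroup.mk' _ _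
  rw [← map_mul, ← map_mul, QuotientGroup.mk'_eq_mk']
  have hinv : ∀ x (hx : Q x ≠ 0), (reflIso Q x hx)⁻¹ = reflIso Q x hx := fun x hx =>
    inv_eq_of_mul_eq_one_right (mat_ext Q (reflectionMatrix_mul_self Q hx))
  refine ⟨(reflIso Q v hv * reflIso Q w hw)⁻¹ * (reflIso Q w hw * reflIso Q v hv), ?_,
    mul_inv_cancel_left _ _⟩
  rw [_root_.mul_inv_rev, hinv, hinv]
  -- a product of two reflections of the same value
  have key : ∀ x y (hx : Q x ≠ 0) (hy : Q y ≠ 0), Q x = Q y →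
      reflIso Q x hx * reflIso Q y hy ∈ eichGroup Q := by
    intro x y hx hy hxy
    obtain ⟨s, hs, hs'⟩ := P.exists_to_value hQ hx rfl
    obtain ⟨t, ht, ht'⟩ := P.exists_to_value hQ hx hxy.symm
    have hmove : mat Q (t⁻¹ * s) *ᵥ x = y := by
      rw [mat_mul, ← Matrix.mulVec_mulVec, hs', ← ht', Matrix.mulVec_mulVec, ← mat_mul,
        inv_mul_cancel, mat_one, Matrix.one_mulVec]
    have hy' : reflIso Q y hy = (t⁻¹ * s) * reflIso Q x hx * (t⁻¹ * s)⁻¹ := by
      rw [conj_reflIso]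
      exact mat_ext Q (by rw [mat_reflIso, mat_reflIso, hmove])
    rw [hy', ← mul_assoc, ← mul_assoc]
    nth_rewrite 2 [← hinv x hx]
    exact mul_mem (this.conj_mem _ (mul_mem (inv_mem ht) hs) _)
      (inv_mem (mul_mem (inv_mem ht) hs))
  have h := key w (mat Q (reflIso Q v hv) *ᵥ w) hw (by rw [quad_mulVec]; exact hw)
    (quad_mulVec Q _ _).symm
  rw [← conj_reflIso Q (reflIso Q v hv) w hw, hinv] at h
  simpa only [mul_assoc] using h

include hQ hn in
/-- `Ω` is perfect. -/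
theorem commutator_omega (P : TwoPairs Q) [Finite F] :
    commutator ↥(Cfsg.Omega F ⇑Q) = ⊤ := by
  apply Subgroup.map_injective (Cfsg.Omega F ⇑Q).subtype_injective
  rw [Subgroup.map_subtype_commutator, ← MonoidHom.range_eq_map, Subgroup.range_subtype]
  refine le_antisymm (Subgroup.commutator_le_self _) ?_
  rw [omega_eq_eichGroup hQ hn P]
  exact eichGroup_le_commutator hQ hn P

include hQ hn in
/-- A subgroup of `Ω` normalised by `Ω` consists of scalars or is `Ω`. -/
theorem scalar_or_omega_le (P : TwoPairs Q) [Finite F] (N : Subgroup ↥(Cfsg.isometryGroup F ⇑Q))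
    (hN : ∀ n ∈ N, ∀ g ∈ Cfsg.Omega F ⇑Q, g * n * g⁻¹ ∈ N) :
    (∀ k ∈ N, ∃ r : F, r * r = 1 ∧ mat Q k = r • 1) ∨ Cfsg.Omega F ⇑Q ≤ N := by
  have hΩ := omega_eq_eichGroup hQ hn P
  by_cases hfix : ∀ k ∈ N, ∀ x, Q x = 0 → ∃ t : F, mat Q k *ᵥ x = t • x
  · refine Or.inl fun k hk => ?_
    have hx' : ∀ x, Q x = 0 → ∃ t : F, mat Q k *ᵥ x = t • x := hfix k hk
    choose lam hlam using hx'
    have horth : ∀ x y (hx : Q x = 0) (hy : Q y = 0), x ≠ 0 → y ≠ 0 → QuadraticMap.polar (⇑Q) x y = 0 →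
        lam x hx = lam y hy := by
      intro x y hx hy hx0 hy0 hxy
      have hs : Q (x + y) = 0 := by rw [QuadraticMap.map_add (⇑Q), hx, hy, hxy]; simp
      have h := hlam (x + y) hs
      rw [Matrix.mulVec_add, hlam x hx, hlam y hy] at h
      set μ := lam (x + y) hs
      by_cases h1 : lam x hx = μ
      · have : (lam y hy - μ) • y = 0 := by rw [h1] at h; linear_combination (norm := module) h
        rw [h1, ((smul_eq_zero.1 this).resolve_right hy0 |> sub_eq_zero.1)]
      · have hxy' : x = ((μ - lam y hy) / (lam x hx - μ)) • y := by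
          rw [div_eq_inv_mul, ← smul_smul, eq_inv_smul_iff₀ (sub_ne_zero.2 h1)]
          linear_combination (norm := module) h
        have h2 : mat Q k *ᵥ x = lam y hy • x := by
          conv_lhs => rw [hxy']
          rw [Matrix.mulVec_smul, hlam y hy, smul_comm, ← hxy']
        have : (lam y hy - lam x hx) • x = 0 := by rw [sub_smul, ← h2, hlam x hx, sub_self]
        exact (sub_eq_zero.1 ((smul_eq_zero.1 this).resolve_right hx0)).symm
    have hmul : ∀ x y (hx : Q x = 0) (hy : Q y = 0), QuadraticMap.polar (⇑Q) x y ≠ 0 → lam x hx * lam y hy = 1 := by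
      intro x y hx hy hxy
      have h := polar_mulVec Q k x y
      rw [hlam x hx, hlam y hy, QuadraticMap.polar_smul_left, QuadraticMap.polar_smul_right,
        smul_eq_mul, smul_eq_mul, ← mul_assoc] at h
      exact (mul_eq_right₀ hxy).1 h
    have ne0 : ∀ {x y : ι → F}, QuadraticMap.polar (⇑Q) x y = 1 → x ≠ 0 := fun h h0 => by
      rw [h0, QuadraticMap.polar_zero_left] at h
      exact zero_ne_one h
    set r := lam P.e P.qe with hr
    have he0 := ne0 P.ef
    have hf0 := ne0 P.fe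
    have ha0 := ne0 P.ab
    have hrr : r * r = 1 := by
      have h1 : lam P.e P.qe = lam P.a P.qa := horth _ _ _ _ he0 ha0 P.ea
      have h2 : lam P.f P.qf = lam P.a P.qa := horth _ _ _ _ hf0 ha0 P.fa
      have h3 := hmul P.e P.f P.qe P.qf (by rw [P.ef]; exact one_ne_zero)
      rwa [h2, ← h1] at h3
    have hall : ∀ x, Q x = 0 → mat Q k *ᵥ x = r • x := by
      intro x hx
      by_cases hx0 : x = 0
      · simp [hx0]
      rw [hlam x hx]
      congr 1
      by_cases hex : QuadraticMap.polar (⇑Q) P.e x = 0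
      · exact (horth _ _ P.qe hx he0 hx0 hex).symm
      · have h := hmul P.e x P.qe hx hex
        calc lam x hx = r * r * lam x hx := by rw [hrr, one_mul]
          _ = r := by rw [mul_assoc, h, mul_one]
    refine ⟨r, hrr, Matrix.ext_iff_mulVec.2 fun x => ?_⟩
    obtain ⟨z₁, z₂, z₃, h₁, h₂, h₃, hz⟩ := P.exists_three_singular (P.inW_proj x)
    rw [Matrix.smul_mulVec, Matrix.one_mulVec, P.decomp x, hz]
    simp only [Matrix.mulVec_add, Matrix.mulVec_smul, hall _ P.qe, hall _ P.qf, hall _ h₁.2,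
      hall _ h₂.2, hall _ h₃.2]
    module
  right
  push Not at hfix
  obtain ⟨k, hk, x, hx, hxk⟩ := hfix
  have hx0 : x ≠ 0 := fun h0 => hxk 0 (by rw [h0]; simp)
  let L : (ι → F) → (ι → F) → Prop := fun x y => ∃ n ∈ N, ∃ c : F, c ≠ 0 ∧ mat Q n *ᵥ x = c • y
  have Lsymm : ∀ {x y}, L x y → L y x := by
    rintro x y ⟨n, hn', c, hc, h⟩
    refine ⟨n⁻¹, inv_mem hn', c⁻¹, inv_ne_zero hc, ?_⟩
    have hy : y = c⁻¹ • mat Q n *ᵥ x := by rw [h, inv_smul_smul₀ hc]
    rw [hy, Matrix.mulVec_smul, Matrix.mulVec_mulVec, ← mat_mul, inv_mul_cancel, mat_one,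
      Matrix.one_mulVec]
  have Ltrans : ∀ {x y z}, L x y → L y z → L x z := by
    rintro x y z ⟨n, hn', c, hc, h⟩ ⟨m, hm, d, hd, h'⟩
    refine ⟨m * n, mul_mem hm hn', c * d, mul_ne_zero hc hd, ?_⟩
    rw [mat_mul, ← Matrix.mulVec_mulVec, h, Matrix.mulVec_smul, h', smul_smul]
  have Lsmul : ∀ (x : ι → F) {c : F}, c ≠ 0 → L x (c • x) := fun x c hc =>
    ⟨1, one_mem _, c⁻¹, inv_ne_zero hc, by rw [mat_one, Matrix.one_mulVec, inv_smul_smul₀ hc]⟩
  have Lscal : ∀ {x y : ι → F} {c d : F}, c ≠ 0 → d ≠ 0 → L (c • x) (d • y) → L x y :=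
    fun {x y c d} hc hd h => Ltrans (Ltrans (Lsmul x hc) h) (Lsymm (Lsmul y hd))
  have Lmap : ∀ {x y}, L x y → ∀ g ∈ eichGroup Q, L (mat Q g *ᵥ x) (mat Q g *ᵥ y) := by
    rintro x y ⟨n, hn', c, hc, h⟩ g hg
    refine ⟨g * n * g⁻¹, hN n hn' g (hΩ ▸ hg), c, hc, ?_⟩
    rw [Matrix.mulVec_mulVec, ← mat_mul, inv_mul_cancel_right, mat_mul, ← Matrix.mulVec_mulVec, h,
      Matrix.mulVec_smul]
  -- move the witness to `e`
  obtain ⟨s, hs, α, hα, hsx⟩ := P.exists_to_e hQ hx0 hx
  set y := mat Q s *ᵥ (mat Q k *ᵥ x) with hy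
  have hy0 : Q y = 0 := by rw [hy, quad_mulVec, quad_mulVec, hx]
  have hey : L P.e y := by
    have h1 : L x (mat Q k *ᵥ x) := ⟨k, hk, 1, one_ne_zero, (one_smul _ _).symm⟩
    have h2 := Lmap h1 s hs
    rw [hsx] at h2
    exact Lscal hα one_ne_zero (by rwa [one_smul])
  have hyne : ∀ c : F, y ≠ c • P.e := fun c hc => hxk (c * α⁻¹) (by
    have h1 : mat Q s *ᵥ (mat Q k *ᵥ x) = mat Q s *ᵥ ((c * α⁻¹) • x) := by
      rw [← hy, hc, Matrix.mulVec_smul, hsx, smul_smul, inv_mul_cancel_right₀ hα]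
    have h2 := congrArg (fun v => mat Q s⁻¹ *ᵥ v) h1
    simpa [Matrix.mulVec_mulVec, ← mat_mul, mat_one, Matrix.one_mulVec, inv_mul_cancel,
      Matrix.mulVec_smul] using h2)
  -- non-orthogonal case
  have case1 : ∀ y, Q y = 0 → L P.e y → QuadraticMap.polar (⇑Q) P.e y ≠ 0 → ∀ z, Q z = 0 → z ≠ 0 → L P.e z := by
    intro y hy hey hye
    have hmove : ∀ v, Q v = 0 → QuadraticMap.polar (⇑Q) P.e v ≠ 0 → ∃ g ∈ eichGroup Q,
        mat Q g *ᵥ P.e = P.e ∧ mat Q g *ᵥ v = QuadraticMap.polar (⇑Q) P.e v • P.f := by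
      intro v hv hve
      have hw : P.InW ((-(QuadraticMap.polar (⇑Q) P.e v)⁻¹) • P.proj v) := P.inW_smul (P.inW_proj v) _
      have happ : mat Q (eichIso Q P.e _ P.qe hw.1) *ᵥ v = _ :=
        (congrArg (mat Q (eichIso Q P.e _ P.qe hw.1) *ᵥ ·) (P.decomp v)).trans
          (P.eich_e_apply _ _ (P.inW_proj v) hw)
      rw [smul_smul, mul_neg, mul_inv_cancel₀ hve, neg_one_smul, add_neg_cancel] at happ
      refine ⟨_, eichIso_mem Q P.qe hw.1, by rw [mat_eichIso]; exact eich_mulVec_left P.qe hw.1, ?_⟩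
      rw [happ, add_zero]
      set γ := QuadraticMap.polar (⇑Q) P.f v - QuadraticMap.polar (⇑Q) ((-(QuadraticMap.polar (⇑Q) P.e v)⁻¹) • P.proj v) (P.proj v) -
        Q ((-(QuadraticMap.polar (⇑Q) P.e v)⁻¹) • P.proj v) * QuadraticMap.polar (⇑Q) P.e v
      have hγ : γ = 0 := by
        have h1 : Q (mat Q (eichIso Q P.e _ P.qe hw.1) *ᵥ v) = 0 := by rw [quad_mulVec, hv]
        rw [happ] at h1
        rw [P.quad_decomp γ _ (z := 0)
          ⟨QuadraticMap.polar_zero_right _ _, QuadraticMap.polar_zero_right _ _⟩,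
          QuadraticMap.map_zero, add_zero] at h1
        exact (mul_eq_zero.1 h1).resolve_right hve
      rw [hγ, zero_smul, zero_add]
    have key : ∀ v, Q v = 0 → QuadraticMap.polar (⇑Q) P.e v ≠ 0 → L P.e v := by
      intro v hv hve
      obtain ⟨g, hg, hge, hgv⟩ := hmove v hv hve
      obtain ⟨g', hg', hg'e, hg'y⟩ := hmove y hy hye
      have h1 := Lmap hey g' hg'
      rw [hg'e, hg'y] at h1
      have h2 : L P.e (mat Q g *ᵥ v) := by
        rw [hgv]
        exact Ltrans (Ltrans h1 (Lsymm (Lsmul P.f hye))) (Lsmul P.f hve)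
      have h3 := Lmap h2 g⁻¹ (inv_mem hg)
      rw [Matrix.mulVec_mulVec, ← mat_mul, inv_mul_cancel, mat_one, Matrix.one_mulVec] at h3
      rwa [show mat Q g⁻¹ *ᵥ P.e = P.e by
        conv_lhs => rw [← hge, Matrix.mulVec_mulVec, ← mat_mul, inv_mul_cancel, mat_one,
          Matrix.one_mulVec]] at h3
    have key2 : ∀ v z, Q v = 0 → v ≠ 0 → Q z = 0 → QuadraticMap.polar (⇑Q) v z ≠ 0 → L v z := by
      intro v z hv hv0 hz hvz
      obtain ⟨t, ht, c, hc, htv⟩ := P.exists_to_e hQ hv0 hv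
      have h := polar_mulVec Q t v z
      rw [htv, QuadraticMap.polar_smul_left] at h
      have h1 : L P.e (mat Q t *ᵥ z) := key _ (by rw [quad_mulVec, hz])
        (fun h0 => hvz (by rw [← h, h0, smul_zero]))
      have h2 := Lmap (Ltrans (Lsymm (Lsmul P.e hc)) h1) t⁻¹ (inv_mem ht)
      rwa [← htv, Matrix.mulVec_mulVec, Matrix.mulVec_mulVec, ← mat_mul, inv_mul_cancel, mat_one,
        Matrix.one_mulVec, Matrix.one_mulVec] at h2
    intro z hz hz0
    by_cases hez : QuadraticMap.polar (⇑Q) P.e z = 0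
    swap
    · exact key z hz hez
    obtain ⟨v, hv, hv0, hvz, hev⟩ : ∃ v, Q v = 0 ∧ v ≠ 0 ∧ QuadraticMap.polar (⇑Q) v z ≠ 0 ∧ QuadraticMap.polar (⇑Q) P.e v ≠ 0 := by
      have hsep : ∀ x, (∀ y, QuadraticMap.polar (⇑Q) x y = 0) → x = 0 := hQ.1
      obtain ⟨z', hz', hzz'⟩ := exists_hyperbolic_partner Q hsep hz0 hz
      have hz'z : QuadraticMap.polar (⇑Q) z' z ≠ 0 := by rw [QuadraticMap.polar_comm, hzz']; exact one_ne_zero
      by_cases hez' : QuadraticMap.polar (⇑Q) P.e z' = 0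
      swap
      · exact ⟨z', hz', fun h0 => hz'z (by rw [h0, QuadraticMap.polar_zero_left]), hz'z, hez'⟩
      by_cases hfz : QuadraticMap.polar (⇑Q) P.f z = 0
      swap
      · exact ⟨P.f, P.qf, ne_of_apply_ne (fun x => QuadraticMap.polar (⇑Q) x P.e)
          (by simp [P.fe, QuadraticMap.polar_zero_left]), hfz, by rw [P.ef]; exact one_ne_zero⟩
      have hv1 : QuadraticMap.polar (⇑Q) (z' + P.f + (-QuadraticMap.polar (⇑Q) z' P.f) • P.e) z = 1 := by
        rw [QuadraticMap.polar_add_left, QuadraticMap.polar_add_left, hfz,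
          QuadraticMap.polar_comm (⇑Q) z' z, hzz', QuadraticMap.polar_smul_left, hez]
        simp
      refine ⟨z' + P.f + (-QuadraticMap.polar (⇑Q) z' P.f) • P.e, ?_, ?_, by rw [hv1]; exact one_ne_zero, ?_⟩
      · rw [QuadraticMap.map_add (⇑Q), QuadraticMap.map_add (⇑Q) z', QuadraticMap.map_smul, hz',
          P.qf, P.qe, QuadraticMap.polar_smul_right, QuadraticMap.polar_add_left, P.fe,
          QuadraticMap.polar_comm (⇑Q) z' P.e, hez']
        simp
      · intro h0
        rw [h0, QuadraticMap.polar_zero_left] at hv1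
        exact zero_ne_one hv1
      · rw [QuadraticMap.polar_add_right, QuadraticMap.polar_add_right, hez', P.ef,
          QuadraticMap.polar_smul_right, P.ee]
        simp
    exact Ltrans (key v hv hev) (key2 v z hv hv0 hz hvz)
  have hall : ∀ z, Q z = 0 → z ≠ 0 → L P.e z := by
    by_cases hye : QuadraticMap.polar (⇑Q) P.e y = 0
    swap
    · exact case1 y hy0 hey hye
    set z := P.proj y with hz
    have hd : y = QuadraticMap.polar (⇑Q) P.f y • P.e + z := by
      conv_lhs => rw [P.decomp y, hye, zero_smul, add_zero]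
    have hz0 : z ≠ 0 := fun h0 => hyne _ (by rw [hd, h0, add_zero])
    have hzW : P.InW z := P.inW_proj y
    have hzq : Q z = 0 := by
      rw [P.decomp y, hye, P.quad_decomp _ _ hzW] at hy0
      simpa using hy0
    obtain ⟨z', hz'W, hz'q, hzz'⟩ := P.exists_partner_inW hQ hzW hzq hz0
    obtain ⟨w, hew, hz'w, hQw⟩ := exists_perp_anisotropic hQ hn P.e z'
    set T := eichIso Q z' w hz'q hz'w with hT
    have hTe : mat Q T *ᵥ P.e = P.e := by
      rw [hT, mat_eichIso, eich_mulVec, QuadraticMap.polar_comm (⇑Q) z' P.e, hz'W.1,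
        QuadraticMap.polar_comm (⇑Q) w P.e, hew]
      simp
    have hz'y : QuadraticMap.polar (⇑Q) z' y = 1 := by
      rw [hd, QuadraticMap.polar_add_right, QuadraticMap.polar_smul_right,
        QuadraticMap.polar_comm (⇑Q) z' P.e, hz'W.1, QuadraticMap.polar_comm (⇑Q) z' z, hzz']
      simp
    have hTy : QuadraticMap.polar (⇑Q) (mat Q T *ᵥ y) y ≠ 0 := by
      rw [hT, mat_eichIso, eich_mulVec, hz'y, QuadraticMap.polar_add_left, polar_self', hy0,
        QuadraticMap.polar_sub_left, QuadraticMap.polar_sub_left, QuadraticMap.polar_smul_left,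
        QuadraticMap.polar_smul_left, QuadraticMap.polar_smul_left, hz'y]
      simp [hQw]
    have h1 := Lmap hey T (eichIso_mem Q _ _)
    rw [hTe] at h1
    have hyy : L y (mat Q T *ᵥ y) := Ltrans (Lsymm hey) h1
    obtain ⟨g, hg, c, hc, hgy⟩ := P.exists_to_e hQ (x := y)
      (fun h0 => hyne 0 (by rw [h0, zero_smul])) hy0
    have h2 := Lmap hyy g hg
    rw [hgy] at h2
    have h3 := polar_mulVec Q g (mat Q T *ᵥ y) y
    rw [hgy, QuadraticMap.polar_smul_right, QuadraticMap.polar_comm (⇑Q) _ P.e] at h3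
    exact case1 _ (by rw [quad_mulVec, quad_mulVec, hy0]) (Ltrans (Lsmul P.e hc) h2)
      (fun h0 => hTy (by rw [← h3, h0, smul_zero]))
  -- Iwasawa
  let T : Subgroup ↥(Cfsg.isometryGroup F ⇑Q) :=
    { carrier := {g | ∃ w, QuadraticMap.polar (⇑Q) P.e w = 0 ∧ mat Q g = eich Q P.e w}
      one_mem' := ⟨0, QuadraticMap.polar_zero_right _ _, by rw [mat_one, eich_zero]⟩
      mul_mem' := by
        rintro g h ⟨w, hw, hg⟩ ⟨w', hw', hh⟩
        exact ⟨w + w', by rw [QuadraticMap.polar_add_right, hw, hw', add_zero],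
          by rw [mat_mul, hg, hh, eich_mul P.qe hw hw']⟩
      inv_mem' := by
        rintro g ⟨w, hw, hg⟩
        have hw' : QuadraticMap.polar (⇑Q) P.e (-w) = 0 := by rw [QuadraticMap.polar_neg_right, hw, neg_zero]
        refine ⟨-w, hw', ?_⟩
        have h : g⁻¹ = eichIso Q P.e (-w) P.qe hw' := inv_eq_of_mul_eq_one_right (mat_ext Q (by
          rw [mat_mul, hg, mat_eichIso, eich_mul P.qe hw hw', add_neg_cancel, eich_zero, mat_one]))
        rw [h, mat_eichIso] }
  have hTc : ∀ g ∈ T, ∀ h ∈ T, g * h = h * g := by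
    rintro g ⟨w, hw, hg⟩ h ⟨w', hw', hh⟩
    refine mat_ext Q ?_
    rw [mat_mul, mat_mul, hg, hh, eich_mul P.qe hw hw', eich_mul P.qe hw' hw, add_comm]
  have hTΩ : T ≤ Cfsg.Omega F ⇑Q := by
    rintro g ⟨w, hw, hg⟩
    rw [hΩ, show g = eichIso Q P.e w P.qe hw from mat_ext Q hg]
    exact eichIso_mem Q _ _
  have hgen : Cfsg.Omega F ⇑Q ≤ N ⊔ T := by
    rw [hΩ, eichGroup, Subgroup.closure_le]
    rintro g ⟨u, w, hu, huw, hg⟩
    by_cases hu0 : u = 0
    · have : g = 1 := mat_ext Q (by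
        rw [hg, mat_one, hu0, ← zero_smul F P.e, eich_smul_left, zero_smul, eich_zero])
      rw [this]
      exact one_mem _
    obtain ⟨n, hn', c, hc, hne⟩ := hall u hu hu0
    have hw' : QuadraticMap.polar (⇑Q) P.e (c⁻¹ • mat Q n⁻¹ *ᵥ w) = 0 := by
      have h := polar_mulVec Q n⁻¹ (c • u) w
      rw [QuadraticMap.polar_smul_left, huw, smul_zero, ← hne, Matrix.mulVec_mulVec, ← mat_mul,
        inv_mul_cancel, mat_one, Matrix.one_mulVec] at h
      rw [QuadraticMap.polar_smul_right, h, smul_zero]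
    have heq : n * eichIso Q P.e (c⁻¹ • mat Q n⁻¹ *ᵥ w) P.qe hw' * n⁻¹ = g := by
      rw [mul_inv_eq_iff_eq_mul]
      refine mat_ext Q ?_
      rw [mat_mul, mat_mul, mat_eichIso, hg, conj_eich, Matrix.mulVec_smul, Matrix.mulVec_mulVec,
        ← mat_mul, mul_inv_cancel, mat_one, Matrix.one_mulVec, hne, eich_smul_left,
        smul_inv_smul₀ hc]
    rw [← heq]
    exact mul_mem (mul_mem (Subgroup.mem_sup_left hn')
      (Subgroup.mem_sup_right ⟨_, hw', rfl⟩)) (inv_mem (Subgroup.mem_sup_left hn'))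
  -- the quotient is abelian
  have hcomm : ⁅Cfsg.Omega F ⇑Q, Cfsg.Omega F ⇑Q⁆ ≤ N := by
    have hnorm : T ≤ Subgroup.normalizer (N : Set ↥(Cfsg.isometryGroup F ⇑Q)) := fun t ht => by
      rw [Subgroup.mem_normalizer_iff]
      refine fun n => ⟨fun h => hN n h t (hTΩ ht), fun h => ?_⟩
      have h' := hN _ h t⁻¹ (inv_mem (hTΩ ht))
      simpa [mul_assoc] using h'
    have hmem : ∀ a ∈ Cfsg.Omega F ⇑Q, ∃ n ∈ N, ∃ t ∈ T, a = n * t := fun a ha => by
      have h := hgen ha
      rw [← SetLike.mem_coe, Subgroup.coe_mul_of_right_le_normalizer_left N T hnorm] at h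
      obtain ⟨n, hn', t, ht, rfl⟩ := h
      exact ⟨n, hn', t, ht, rfl⟩
    let M := Subgroup.normalizer (N : Set ↥(Cfsg.isometryGroup F ⇑Q))
    let φ : M →* M ⧸ N.subgroupOf M := QuotientGroup.mk' _
    have hNM : N ≤ M := Subgroup.le_normalizer
    rw [Subgroup.commutator_le]
    intro a ha b hb
    obtain ⟨n, hn', t, ht, rfl⟩ := hmem a ha
    obtain ⟨m, hm, u, hu, rfl⟩ := hmem b hb
    have key : φ ⁅(⟨n, hNM hn'⟩ * ⟨t, hnorm ht⟩ : M), (⟨m, hNM hm⟩ * ⟨u, hnorm hu⟩ : M)⁆ = 1 := by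
      have h1 : φ ⟨n, hNM hn'⟩ = 1 := (QuotientGroup.eq_one_iff _).2 hn'
      have h2 : φ ⟨m, hNM hm⟩ = 1 := (QuotientGroup.eq_one_iff _).2 hm
      rw [map_commutatorElement, map_mul, map_mul, h1, h2, one_mul, one_mul,
        commutatorElement_eq_one_iff_mul_comm, ← map_mul, ← map_mul]
      exact congrArg φ (Subtype.ext (hTc t ht u hu))
    have h3 := (QuotientGroup.eq_one_iff (N := N.subgroupOf M) _).1 key
    rw [Subgroup.mem_subgroupOf] at h3
    exact h3
  rw [hΩ] at hcomm ⊢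
  exact (eichGroup_le_commutator hQ hn P).trans hcomm

include hQ hn in
theorem nontrivial_omega (P : TwoPairs Q) [Finite F] :
    ∃ g ∈ Cfsg.Omega F ⇑Q, g ≠ 1 := by
  refine ⟨eichIso Q P.e P.a P.qe P.ea, ?_, fun h => ?_⟩
  · rw [omega_eq_eichGroup hQ hn P]; exact eichIso_mem Q _ _
  · have h1 := congrArg (fun g => QuadraticMap.polar (⇑Q) (mat Q g *ᵥ P.f) P.b) h
    simp only [mat_eichIso, mat_one, Matrix.one_mulVec, eich_mulVec, P.fb, P.ef,
      QuadraticMap.polar_comm (⇑Q) P.a P.f, P.fa, P.qa, zero_mul, zero_smul, sub_zero, one_smul,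
      QuadraticMap.polar_add_left, P.ab, zero_add] at h1
    exact one_ne_zero h1

include hQ hn in
/-- The centre of `Ω` consists of the scalars `±1` in it. -/
theorem mem_center_omega_iff (P : TwoPairs Q) [Finite F] (g : ↥(Cfsg.Omega F ⇑Q)) :
    g ∈ Subgroup.center ↥(Cfsg.Omega F ⇑Q) ↔ ∃ r : F, r * r = 1 ∧ mat Q g.1 = r • 1 := by
  constructor
  · intro hg
    let N := (Subgroup.center ↥(Cfsg.Omega F ⇑Q)).map (Cfsg.Omega F ⇑Q).subtype
    rcases scalar_or_omega_le hQ hn P N (fun n hn' a ha => by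
      obtain ⟨x, hx, rfl⟩ := hn'
      have h := Subgroup.mem_center_iff.1 hx ⟨a, ha⟩
      refine ⟨x, hx, ?_⟩
      rw [eq_mul_inv_iff_mul_eq]
      exact (congrArg Subtype.val h).symm) with h | h
    · exact h _ (Subgroup.mem_map_of_mem _ hg)
    · exfalso
      obtain ⟨a, ha, ha1⟩ := nontrivial_omega hQ hn P
      have htop : Subgroup.center ↥(Cfsg.Omega F ⇑Q) = ⊤ := by
        rw [eq_top_iff]
        intro x _
        obtain ⟨y, hy, hyx⟩ := h x.2
        rwa [← Subtype.ext (a2 := x) hyx]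
      have hperf := commutator_omega hQ hn P
      have hbot : commutator ↥(Cfsg.Omega F ⇑Q) = ⊥ := by
        rw [commutator_def, Subgroup.commutator_eq_bot_iff_le_centralizer, Subgroup.coe_top,
          Subgroup.centralizer_univ, htop]
      have h1 : (⟨a, ha⟩ : ↥(Cfsg.Omega F ⇑Q)) ∈ (⊥ : Subgroup ↥(Cfsg.Omega F ⇑Q)) := by
        rw [← hbot, hperf]; exact Subgroup.mem_top _
      exact ha1 (congrArg Subtype.val (Subgroup.mem_bot.1 h1))
  · rintro ⟨r, -, hr⟩
    rw [Subgroup.mem_center_iff]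
    intro x
    refine Subtype.ext (mat_ext Q ?_)
    rw [Subgroup.coe_mul, Subgroup.coe_mul, mat_mul, mat_mul, hr]
    simp

include hQ hn in
/-- A normal subgroup of `Ω` is central or everything. -/
theorem normal_le_center_or_eq_top (P : TwoPairs Q) [Finite F]
    (M : Subgroup ↥(Cfsg.Omega F ⇑Q)) [M.Normal] :
    M ≤ Subgroup.center ↥(Cfsg.Omega F ⇑Q) ∨ M = ⊤ := by
  rcases scalar_or_omega_le hQ hn P (M.map (Cfsg.Omega F ⇑Q).subtype) (fun n hn' a ha => by
    obtain ⟨x, hx, rfl⟩ := hn'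
    refine ⟨⟨a, ha⟩ * x * ⟨a, ha⟩⁻¹, Subgroup.Normal.conj_mem inferInstance x hx _, ?_⟩
    simp only [Subgroup.coe_subtype, Subgroup.coe_mul, Subgroup.coe_inv]) with h | h
  · exact Or.inl fun x hx => (mem_center_omega_iff hQ hn P x).2 (h _ (Subgroup.mem_map_of_mem _ hx))
  · refine Or.inr (eq_top_iff.2 fun x _ => ?_)
    obtain ⟨y, hy, hyx⟩ := h x.2
    rwa [← Subtype.ext (a2 := x) hyx]

include hQ hn in
/-- `Ω/Z(Ω)` is simple. -/
theorem isSimpleGroup_pOmega (P : TwoPairs Q) [Finite F] :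
    IsSimpleGroup (Cfsg.POmega F ⇑Q) := by
  have hnt : Nontrivial (Cfsg.POmega F ⇑Q) := by
    by_contra hne
    rw [not_nontrivial_iff_subsingleton] at hne
    have htop : Subgroup.center ↥(Cfsg.Omega F ⇑Q) = ⊤ :=
      eq_top_iff.2 fun x _ => (QuotientGroup.eq_one_iff x).1 (hne.elim _ _)
    obtain ⟨a, ha, ha1⟩ := nontrivial_omega hQ hn P
    have hbot : commutator ↥(Cfsg.Omega F ⇑Q) = ⊥ := by
      rw [commutator_def, Subgroup.commutator_eq_bot_iff_le_centralizer, Subgroup.coe_top,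
        Subgroup.centralizer_univ, htop]
    have h1 : (⟨a, ha⟩ : ↥(Cfsg.Omega F ⇑Q)) ∈ (⊥ : Subgroup ↥(Cfsg.Omega F ⇑Q)) := by
      rw [← hbot, commutator_omega hQ hn P]; exact Subgroup.mem_top _
    exact ha1 (congrArg Subtype.val (Subgroup.mem_bot.1 h1))
  constructor
  intro H hH
  rcases normal_le_center_or_eq_top hQ hn P (H.comap (QuotientGroup.mk' _)) with h | h
  · refine Or.inl (eq_bot_iff.2 ?_)
    rw [← Subgroup.map_comap_eq_self_of_surjective (QuotientGroup.mk'_surjective _) H]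
    refine (Subgroup.map_mono h).trans ?_
    rw [QuotientGroup.map_mk'_self]
  · refine Or.inr ?_
    rw [← Subgroup.map_comap_eq_self_of_surjective (QuotientGroup.mk'_surjective _) H, h,
      Subgroup.map_top_of_surjective _ (QuotientGroup.mk'_surjective _)]

end TwoPairs

end CfsgLib.Forms4
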