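import Cfsg.Agent.Forms4.ExceptionalTools
import Cfsg.Agent.Forms4.OrthogonalOrders
import Cfsg.Agent.Forms4.POmegaOrders
import Cfsg.Agent.Forms.OrthIndex

/-!
# `PΩ⁺₆(q) ≅ PSL₄(q)`

`SL₄` acts on alternating matrices by `M ↦ A M Aᵀ` preserving the Pfaffian.
-/

set_option autoImplicit false

open Matrix CfsgLib.StdForms
open scoped commutatorElement

namespace CfsgLib.Forms4

variable {F : Type*} [Field F]

/-- The alternating `4 × 4` matrix with the given coordinates. -/
noncomputable def altMat (F : Type*) [Field F] :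
    (Fin 3 ⊕ Fin 3 → F) →ₗ[F] Matrix (Fin 4) (Fin 4) F where
  toFun x := !![0, x (.inl 0), x (.inl 1), x (.inl 2);
      -x (.inl 0), 0, x (.inr 2), -x (.inr 1);
      -x (.inl 1), -x (.inr 2), 0, x (.inr 0);
      -x (.inl 2), x (.inr 1), -x (.inr 0), 0]
  map_add' x y := by ext i j; fin_cases i <;> fin_cases j <;> simp [add_comm]
  map_smul' t x := by ext i j; fin_cases i <;> fin_cases j <;> simp

/-- The coordinates of an alternating `4 × 4` matrix. -/
noncomputable def altCoord (F : Type*) [Field F] :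
    Matrix (Fin 4) (Fin 4) F →ₗ[F] (Fin 3 ⊕ Fin 3 → F) where
  toFun M := Sum.elim ![M 0 1, M 0 2, M 0 3] ![M 2 3, -M 1 3, M 1 2]
  map_add' M N := by funext i; rcases i with i | i <;> fin_cases i <;> simp [add_comm]
  map_smul' t M := by funext i; rcases i with i | i <;> fin_cases i <;> simp

theorem altCoord_altMat (x : Fin 3 ⊕ Fin 3 → F) : altCoord F (altMat F x) = x := by
  funext i; rcases i with i | i <;> fin_cases i <;> simp [altCoord, altMat]

theorem altMat_altCoord (X : Matrix (Fin 4) (Fin 4) F) :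
    altMat F (altCoord F (X - Xᵀ)) = X - Xᵀ := by
  ext i j
  fin_cases i <;> fin_cases j <;> simp [altCoord, altMat]

/-- An upper triangular half of the alternating matrix. -/
theorem exists_sub_transpose (x : Fin 3 ⊕ Fin 3 → F) : ∃ N, altMat F x = N - Nᵀ := by
  refine ⟨!![0, x (.inl 0), x (.inl 1), x (.inl 2); 0, 0, x (.inr 2), -x (.inr 1);
    0, 0, 0, x (.inr 0); 0, 0, 0, 0], ?_⟩
  ext i j
  fin_cases i <;> fin_cases j <;> simp [altMat]

/-- `A ↦ (M ↦ A M Aᵀ)`. -/
noncomputable def congrHom (F : Type*) [Field F] :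
    Matrix.SpecialLinearGroup (Fin 4) F →* Module.End F (Matrix (Fin 4) (Fin 4) F) where
  toFun g := LinearMap.mulLeft F g.1 ∘ₗ LinearMap.mulRight F g.1ᵀ
  map_one' := by
    refine LinearMap.ext fun M => ?_
    simp
  map_mul' g h := by
    refine LinearMap.ext fun M => ?_
    simp only [Matrix.SpecialLinearGroup.coe_mul, Matrix.transpose_mul,
      LinearMap.comp_apply, Module.End.mul_apply, LinearMap.mulLeft_apply, LinearMap.mulRight_apply]
    noncomm_ring

theorem altMat_congr (g : Matrix.SpecialLinearGroup (Fin 4) F) (x : Fin 3 ⊕ Fin 3 → F) :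
    altMat F (altCoord F (congrHom F g (altMat F x))) = congrHom F g (altMat F x) := by
  obtain ⟨N, hN⟩ := exists_sub_transpose x
  have h : congrHom F g (altMat F x) = g.1 * N * g.1ᵀ - (g.1 * N * g.1ᵀ)ᵀ := by
    show g.1 * (altMat F x * g.1ᵀ) = _
    rw [hN, Matrix.transpose_mul, Matrix.transpose_mul, Matrix.transpose_transpose]
    noncomm_ring
  rw [h, altMat_altCoord]

theorem transvection_congr_apply (i j : Fin 4) (c : F) (M : Matrix (Fin 4) (Fin 4) F) (k l : Fin 4) :
    ((1 + Matrix.single i j c : Matrix (Fin 4) (Fin 4) F) *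
      (M * (1 + Matrix.single i j c : Matrix (Fin 4) (Fin 4) F)ᵀ) : Matrix (Fin 4) (Fin 4) F) k l = M k l +
      (if k = i then c * M j l else 0) + (if l = i then c * M k j else 0) +
      (if k = i ∧ l = i then c * c * M j j else 0) := by
  have h1 : ∀ X : Matrix (Fin 4) (Fin 4) F, ((1 + Matrix.single i j c) * X) k l =
      X k l + if k = i then c * X j l else 0 := fun X => by
    rw [Matrix.add_mul, Matrix.one_mul, Matrix.add_apply]
    split_ifs with hk
    · rw [hk, Matrix.single_mul_apply_same]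
    · rw [Matrix.single_mul_apply_of_ne _ _ _ _ _ hk]
  have h2 : ∀ r, (M * (1 + Matrix.single i j c : Matrix (Fin 4) (Fin 4) F)ᵀ : Matrix (Fin 4) (Fin 4) F) r l = M r l + if l = i then c * M r j else 0 := fun r => by
    rw [Matrix.transpose_add, Matrix.transpose_one, Matrix.transpose_single, Matrix.mul_add,
      Matrix.mul_one, Matrix.add_apply]
    split_ifs with hl
    · rw [hl, Matrix.mul_single_apply_same, mul_comm]
    · rw [Matrix.mul_single_apply_of_ne _ _ _ _ _ hl]
  rw [h1, h2, h2]
  split_ifs <;> simp_all <;> ring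

/-- The Pfaffian is invariant under `SL₄`. -/
theorem pfaffian_congr (g : Matrix.SpecialLinearGroup (Fin 4) F) (x : Fin 3 ⊕ Fin 3 → F) :
    Cfsg.quadFormPlus 3 F (altCoord F (congrHom F g (altMat F x))) = Cfsg.quadFormPlus 3 F x := by
  revert x
  refine CfsgLib.Linear.sl_induction (fun g => ∀ x, Cfsg.quadFormPlus 3 F
    (altCoord F (congrHom F g (altMat F x))) = Cfsg.quadFormPlus 3 F x) ?_ ?_ ?_ g
  · intro x
    rw [map_one, Module.End.one_apply, altCoord_altMat]
  · intro i j hij c x
    show Cfsg.quadFormPlus 3 F (altCoord F ((Matrix.SpecialLinearGroup.transvection hij c).1 *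
      (altMat F x * (Matrix.SpecialLinearGroup.transvection hij c).1ᵀ))) = _
    rw [Matrix.SpecialLinearGroup.transvection_coe]
    simp only [Cfsg.quadFormPlus, Fin.sum_univ_three, altCoord, LinearMap.coe_mk, AddHom.coe_mk,
      Sum.elim_inl, Sum.elim_inr, Matrix.cons_val_zero, Matrix.cons_val_one, Matrix.cons_val,
      transvection_congr_apply]
    fin_cases i <;> fin_cases j <;>
      first
        | exact absurd rfl hij
        | (simp [altMat]; ring)
        | simp [altMat]
  · intro A B hA hB x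
    rw [map_mul, Module.End.mul_apply, ← altMat_congr B x, hA, hB]

/-- A matrix fixing every alternating matrix under congruence is `±1`. -/
theorem scalar_of_congr_fix {g : Matrix.SpecialLinearGroup (Fin 4) F}
    (h : ∀ x, congrHom F g (altMat F x) = altMat F x) :
    g.1 0 0 * g.1 0 0 = 1 ∧ Matrix.scalar (Fin 4) (g.1 0 0) = g.1 := by
  classical
  have key : ∀ i j k l : Fin 4, i ≠ j → g.1 k i * g.1 l j - g.1 k j * g.1 l i =
      (if k = i ∧ l = j then 1 else 0) - (if k = j ∧ l = i then 1 else 0) := by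
    intro i j k l hij
    have hx := h (altCoord F (Matrix.single i j 1 - (Matrix.single i j 1)ᵀ))
    rw [altMat_altCoord] at hx
    have e := congrFun (congrFun hx k) l
    change (g.1 * ((Matrix.single i j (1 : F) - (Matrix.single i j 1)ᵀ) * g.1ᵀ) : Matrix (Fin 4) (Fin 4) F) k l = _ at e
    simpa [Matrix.mul_apply, Matrix.single_apply, sub_mul, mul_sub, Finset.sum_sub_distrib,
      ite_and, eq_comm] using e
  have hoff : ∀ k i, k ≠ i → g.1 k i = 0 := by
    intro k i hki
    obtain ⟨j, hji, hjk⟩ : ∃ j, j ≠ i ∧ j ≠ k := by revert k i; decide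
    have e1 := key i j k i hji.symm
    have e2 := key i j k j hji.symm
    have e3 := key i j i j hji.symm
    rw [if_neg (fun h => hki h.1), if_neg (fun h => hjk h.1.symm), sub_zero] at e1
    rw [if_neg (fun h => hki h.1), if_neg (fun h => hjk h.1.symm), sub_zero] at e2
    rw [if_pos ⟨rfl, rfl⟩, if_neg (fun h => hji h.1.symm), sub_zero] at e3
    linear_combination g.1 i i * e2 - g.1 j i * e1 - g.1 k i * e3
  have hd : ∀ i j, i ≠ j → g.1 i i * g.1 j j = 1 := by
    intro i j hij
    have e3 := key i j i j hij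
    rw [hoff i j hij, zero_mul, sub_zero, if_pos ⟨rfl, rfl⟩, if_neg (fun h => hij h.1), sub_zero] at e3
    exact e3
  have heq : ∀ i, g.1 i i = g.1 0 0 := by
    intro i
    rcases eq_or_ne i 0 with rfl | hi
    · rfl
    · obtain ⟨j, hji, hj0⟩ : ∃ j, j ≠ i ∧ j ≠ (0 : Fin 4) := by revert i; decide
      refine mul_right_cancel₀ (fun h0 => ?_) ((hd i j hji.symm).trans (hd 0 j hj0.symm).symm)
      have := hd i j hji.symm
      rw [h0, mul_zero] at this
      exact zero_ne_one this
  refine ⟨by have := hd 1 0 (by decide); rwa [heq 1] at this, ?_⟩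
  ext i j
  rcases eq_or_ne i j with rfl | hij
  · simp [heq]
  · simp [hij, hoff i j hij]

variable [Fintype F]

theorem card_SL_four :
    Nat.card (Matrix.SpecialLinearGroup (Fin 4) F) = Fintype.card F ^ 6 *
      ((Fintype.card F ^ 2 - 1) * (Fintype.card F ^ 3 - 1) * (Fintype.card F ^ 4 - 1)) := by
  have h := CfsgLib.Linear.card_SL_mul (n := Fin 4) (F := F)
  rw [CfsgLib.Linear.card_GL, CfsgLib.Linear.prod_pow_sub_pow, Fintype.card_fin] at h
  simp only [Finset.prod_range_succ, Finset.prod_range_zero, one_mul, zero_add, pow_one,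
    Nat.reduceMul, Nat.reduceSub, Nat.reduceDiv, Nat.reduceAdd] at h
  have hq : 0 < Fintype.card F - 1 := by
    have := Fintype.one_lt_card (α := F)
    omega
  refine Nat.eq_of_mul_eq_mul_left hq ?_
  rw [h]
  ring

/-- `PΩ⁺₆(q) ≅ PSL₄(q)`. -/
theorem nonempty_pOmega_six_plus_equiv :
    Nonempty (Cfsg.POmega F (Cfsg.quadFormPlus 3 F) ≃*
      Matrix.ProjectiveSpecialLinearGroup (Fin 4) F) := by
  classical
  obtain ⟨φ, -, hφ⟩ := exists_isoHom (Cfsg.quadFormPlus 3 F) (altMat F) (altCoord F) altCoord_altMat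
    (congrHom F) altMat_congr pfaffian_congr
  have hmem : ∀ g, g ∈ φ.ker ↔ g.1 0 0 * g.1 0 0 = 1 ∧ Matrix.scalar (Fin 4) (g.1 0 0) = g.1 := by
    intro g
    rw [MonoidHom.mem_ker, hφ]
    refine ⟨scalar_of_congr_fix, fun ⟨hr, hs⟩ x => ?_⟩
    show g.1 * (altMat F x * g.1ᵀ) = altMat F x
    rw [← hs, Matrix.scalar_apply, Matrix.diagonal_transpose]
    ext i j
    simp
    linear_combination (altMat F x i j) * hr
  have hkc : φ.ker ≤ Subgroup.center _ := fun g hg => by
    obtain ⟨hr, hs⟩ := (hmem g).1 hg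
    refine Matrix.SpecialLinearGroup.mem_center_iff.2 ⟨g.1 0 0, ?_, hs⟩
    rw [Fintype.card_fin]
    linear_combination (g.1 0 0 * g.1 0 0 + 1) * hr
  let e : φ.ker ≃ ({1, -1} : Set F) :=
    { toFun := fun g => ⟨g.1.1 0 0, mul_self_eq_one_iff.1 ((hmem g.1).1 g.2).1⟩
      invFun := fun r => ⟨⟨Matrix.scalar (Fin 4) r.1, by
          rcases r.2 with h | (h : r.1 = -1) <;> simp [h, Matrix.det_neg, Even.neg_one_pow (show Even 4 by decide)]⟩, (hmem _).2 ⟨by
          rcases r.2 with h | (h : r.1 = -1) <;> simp [h], by simp⟩⟩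
      left_inv := fun g => Subtype.ext (Subtype.ext ((hmem g.1).1 g.2).2)
      right_inv := fun r => Subtype.ext (by simp) }
  have hker : Nat.card φ.ker = if (2 : F) = 0 then 1 else 2 := by
    rw [Nat.card_congr e, Nat.card_coe_set_eq]
    split_ifs with h2
    · rw [show (-1 : F) = 1 by linear_combination -h2]
      simp
    · refine Set.ncard_pair fun h => h2 ?_
      linear_combination h
  have hS : commutator (Matrix.SpecialLinearGroup (Fin 4) F) = ⊤ :=
    CfsgLib.Linear.commutator_SL_eq_top (by simp)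
  have hrange : φ.range = Cfsg.Omega F (Cfsg.quadFormPlus 3 F) := by
    refine range_eq_of_card φ (range_le_commutator φ hS) ?_
    have hO := (Cfsg.Omega F (Cfsg.quadFormPlus 3 F)).index_mul_card
    rw [card_isometryGroup_quadFormPlus rfl 3 (by norm_num)] at hO
    simp [-Nat.card_eq_fintype_card, Finset.prod_range_succ] at hO
    rw [hker, card_SL_four]
    split_ifs with h2
    · have : CharP F 2 := CharTwo.of_one_ne_zero_of_two_eq_zero one_ne_zero h2
      have hi : (Cfsg.Omega F (Cfsg.quadFormPlus 3 F)).index = 2 := by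
        rw [← coe_plusQ]
        exact CfsgLib.Forms.index_omega_charTwo (plusQ_nondegenerate 3) (by simp) (Or.inr (by simp))
      rw [hi] at hO
      linarith
    · have hi : (Cfsg.Omega F (Cfsg.quadFormPlus 3 F)).index = 4 := by
        rw [← coe_plusQ]
        exact CfsgLib.Forms.index_omega_odd h2 (plusQ_nondegenerate 3) (by simp)
      rw [hi] at hO
      linarith
  exact nonempty_quotient_center_equiv φ hrange hkc
    (fun g hg => mem_center_of_commutator_mem_center hS fun x => hkc (hg x))

end CfsgLib.Forms4
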