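import Cfsg.Agent.Forms4.ExceptionalTools
import Cfsg.Agent.Forms4.OrthogonalOrders
import Cfsg.Agent.Forms4.POmegaOrders
import Cfsg.Agent.Forms.OrthIndex

/-!
# `PΩ₃(q) ≅ PSL₂(q)` and `PΩ⁺₄(q) ≅ PSL₂(q) × PSL₂(q)`
-/

set_option autoImplicit false

open Matrix CfsgLib.StdForms
open scoped commutatorElement MatrixGroups

namespace CfsgLib.Forms4

variable {F : Type*} [Field F]

/-- Matrices under left and right multiplication. -/
noncomputable def sandwichHom (F : Type*) [Field F] :
    GL (Fin 2) F × GL (Fin 2) F →* Module.End F (Matrix (Fin 2) (Fin 2) F) where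
  toFun g := LinearMap.mulLeft F (g.1 : Matrix (Fin 2) (Fin 2) F) ∘ₗ
      LinearMap.mulRight F ((g.2⁻¹ : GL (Fin 2) F) : Matrix (Fin 2) (Fin 2) F)
  map_one' := by
    refine LinearMap.ext fun M => ?_
    simp
  map_mul' g h := by
    refine LinearMap.ext fun M => ?_
    simp only [Prod.fst_mul, Prod.snd_mul, _root_.mul_inv_rev, Units.val_mul, LinearMap.comp_apply,
      Module.End.mul_apply, LinearMap.mulLeft_apply, LinearMap.mulRight_apply]
    noncomm_ring

theorem sandwichHom_apply (g : GL (Fin 2) F × GL (Fin 2) F) (M : Matrix (Fin 2) (Fin 2) F) :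
    sandwichHom F g M = g.1.1 * (M * (g.2⁻¹).1) := rfl

theorem det_sandwich {g : GL (Fin 2) F × GL (Fin 2) F} (hg : g.1.1.det = g.2.1.det)
    (M : Matrix (Fin 2) (Fin 2) F) : (sandwichHom F g M).det = M.det := by
  have h1 : g.2.1.det * (g.2⁻¹).1.det = 1 := by
    rw [← det_mul, ← Units.val_mul, mul_inv_cancel, Units.val_one, det_one]
  rw [sandwichHom_apply, det_mul, det_mul, hg]
  linear_combination M.det * h1

/-- A matrix commuting with all elementary matrices of `sl₂` is scalar. -/
theorem scalar_of_commute_sl_two {g : Matrix (Fin 2) (Fin 2) F}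
    (h1 : g * !![0, 1; 0, 0] = !![0, 1; 0, 0] * g) (h2 : g * !![0, 0; 1, 0] = !![0, 0; 1, 0] * g) :
    scalar (Fin 2) (g 0 0) = g := by
  have a := congrFun (congrFun h1 0) 1
  have b := congrFun (congrFun h1 0) 0
  have c := congrFun (congrFun h2 1) 1
  simp [Matrix.mul_apply, Fin.sum_univ_two] at a b c
  ext i j
  fin_cases i <;> fin_cases j <;> simp [← a, ← b, c]

theorem slTwo_mem_center_of_scalar {g : SL(2, F)} (h : scalar (Fin 2) (g.1 0 0) = g.1) :
    g ∈ Subgroup.center SL(2, F) := by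
  refine Matrix.SpecialLinearGroup.mem_center_iff.2 ⟨g.1 0 0, ?_, h⟩
  have := congrArg Matrix.det h
  rw [Matrix.SpecialLinearGroup.det_coe] at this
  simpa [Matrix.scalar_apply, Fin.prod_univ_two, sq] using this

theorem coe_toGL_inv (g : SL(2, F)) :
    ((Matrix.SpecialLinearGroup.toGL g)⁻¹ : GL (Fin 2) F).1 = (g⁻¹).1 := by
  rw [← map_inv]
  rfl

theorem sandwich_center {g : SL(2, F)} (hg : g ∈ Subgroup.center SL(2, F))
    (M : Matrix (Fin 2) (Fin 2) F) :
    sandwichHom F (Matrix.SpecialLinearGroup.toGL g, Matrix.SpecialLinearGroup.toGL g) M = M := by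
  obtain ⟨r, hr, hrg⟩ := Matrix.SpecialLinearGroup.mem_center_iff.1 hg
  show (g.1 : Matrix (Fin 2) (Fin 2) F) * (M * ((Matrix.SpecialLinearGroup.toGL g)⁻¹).1) = M
  rw [← mul_assoc, ← hrg, (Matrix.scalar_commute r (fun _ => Commute.all _ _) M).eq, mul_assoc, hrg,
    coe_toGL_inv, ← Matrix.SpecialLinearGroup.coe_mul, mul_inv_cancel,
    Matrix.SpecialLinearGroup.coe_one, mul_one]

section Fintype

variable [Fintype F]

theorem exists_unit_ne_one (hF : 3 ≤ Fintype.card F) : ∃ a : Fˣ, IsUnit ((a : F) - 1) := by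
  classical
  obtain ⟨a, -, ha⟩ := Finset.exists_mem_notMem_of_card_lt_card
    (s := ({0, 1} : Finset F)) (t := Finset.univ)
    (Finset.card_le_two.trans_lt (by rw [Finset.card_univ]; omega))
  simp only [Finset.mem_insert, Finset.mem_singleton, not_or] at ha
  exact ⟨Units.mk0 a ha.1, (sub_ne_zero.2 ha.2).isUnit⟩

theorem card_ker_eq (hF : 0 < Fintype.card F) :
    Nat.card (Subgroup.center SL(2, F)) = Nat.gcd 2 (Fintype.card F - 1) := by
  have := CfsgLib.Linear.card_center_SL (n := Fin 2) (F := F)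
  rwa [Fintype.card_fin] at this

/-- `PΩ₃(q) ≅ PSL₂(q)`. -/
theorem nonempty_pOmega_three_equiv (hodd : Odd (Fintype.card F)) :
    Nonempty (Cfsg.POmega F (Cfsg.quadFormOdd 1 F) ≃* Matrix.ProjectiveSpecialLinearGroup (Fin 2) F) := by
  classical
  have hq3 : 3 ≤ Fintype.card F := by
    have := Fintype.one_lt_card (α := F)
    rcases hodd with ⟨k, hk⟩; omega
  have h2 : (2 : F) ≠ 0 := fun h => (Nat.not_even_iff_odd.2 hodd) ((two_eq_zero_iff_even rfl).1 h)
  let T : (Unit ⊕ (Fin 1 ⊕ Fin 1) → F) →ₗ[F] Matrix (Fin 2) (Fin 2) F :=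
    { toFun := fun x => !![x (.inl ()), x (.inr (.inl 0)); x (.inr (.inr 0)), -x (.inl ())]
      map_add' := fun x y => by ext i j; fin_cases i <;> fin_cases j <;> simp [add_comm]
      map_smul' := fun t x => by ext i j; fin_cases i <;> fin_cases j <;> simp }
  let P : Matrix (Fin 2) (Fin 2) F →ₗ[F] (Unit ⊕ (Fin 1 ⊕ Fin 1) → F) :=
    { toFun := fun M => Sum.elim (fun _ => M 0 0) (Sum.elim (fun _ => M 0 1) fun _ => M 1 0)
      map_add' := fun M N => by funext i; rcases i with i | i | i <;> simp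
      map_smul' := fun t M => by funext i; rcases i with i | i | i <;> simp }
  let A := (sandwichHom F).comp ((MonoidHom.id (GL (Fin 2) F)).prod (MonoidHom.id (GL (Fin 2) F)))
  have hPT : ∀ x, P (T x) = x := fun x => by
    funext i; rcases i with i | i | i <;> simp [P, T, Fin.fin_one_eq_zero]
  have hA : ∀ g x, T (P (A g (T x))) = A g (T x) := by
    intro g x
    have htr : (A g (T x)).trace = 0 := by
      show (g.1 * (T x * (g⁻¹).1)).trace = 0
      rw [trace_mul_comm, mul_assoc, ← Units.val_mul, inv_mul_cancel, Units.val_one, mul_one]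
      simp [T, trace_fin_two]
    rw [trace_fin_two] at htr
    ext i j
    fin_cases i <;> fin_cases j <;> simp [T, P]
    linear_combination -htr
  have hQT : ∀ x, Cfsg.quadFormOdd 1 F x = -(T x).det := by
    intro x
    simp [T, Cfsg.quadFormOdd, det_fin_two]
    ring
  have hQ : ∀ g x, Cfsg.quadFormOdd 1 F (P (A g (T x))) = Cfsg.quadFormOdd 1 F x := by
    intro g x
    rw [hQT, hA, hQT]
    congr 1
    exact det_sandwich (g := (g, g)) rfl _
  obtain ⟨ψ, -, hψ⟩ := exists_isoHom (Cfsg.quadFormOdd 1 F) T P hPT A hA hQ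
  set φ := ψ.comp Matrix.SpecialLinearGroup.toGL
  have hker : φ.ker = Subgroup.center SL(2, F) := by
    ext g
    rw [MonoidHom.mem_ker]
    refine Iff.trans (hψ _) ⟨fun h => ?_, fun h x => sandwich_center h _⟩
    have key : ∀ x, g.1 * T x = T x * g.1 := fun x => by
      have h1 : g.1 * (T x * ((Matrix.SpecialLinearGroup.toGL g)⁻¹).1) = T x := h x
      conv_rhs => rw [← h1]
      rw [coe_toGL_inv, mul_assoc, mul_assoc, ← Matrix.SpecialLinearGroup.coe_mul, inv_mul_cancel,
        Matrix.SpecialLinearGroup.coe_one, mul_one]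
    refine slTwo_mem_center_of_scalar (scalar_of_commute_sl_two ?_ ?_)
    · simpa [T] using key (Sum.elim (fun _ => 0) (Sum.elim (fun _ => 1) fun _ => 0))
    · simpa [T] using key (Sum.elim (fun _ => 0) (Sum.elim (fun _ => 0) fun _ => 1))
  have hle : φ.range ≤ Cfsg.Omega F (Cfsg.quadFormOdd 1 F) := by
    rintro _ ⟨g, rfl⟩
    obtain ⟨a, ha⟩ := exists_unit_ne_one hq3
    refine CfsgLib.Linear.sl_induction (fun g => φ g ∈ Cfsg.Omega F (Cfsg.quadFormOdd 1 F))
      (by simp) (fun i j hij c => ?_) (fun A B hA hB => by rw [map_mul]; exact Subgroup.mul_mem _ hA hB) g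
    obtain ⟨d, b, hd⟩ := exists_transvection_commutator hij a ha c
    show ψ _ ∈ _
    rw [← hd, map_commutatorElement]
    exact Subgroup.commutator_mem_commutator (Subgroup.mem_top _) (Subgroup.mem_top _)
  have hrange : φ.range = Cfsg.Omega F (Cfsg.quadFormOdd 1 F) := by
    refine range_eq_of_card φ hle ?_
    rw [hker, card_ker_eq (by omega), CfsgLib.Linear.card_SL_two]
    have hO := (Cfsg.Omega F (Cfsg.quadFormOdd 1 F)).index_mul_card
    rw [card_isometryGroup_quadFormOdd rfl hodd 1] at hO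
    have hi : (Cfsg.Omega F (Cfsg.quadFormOdd 1 F)).index = 4 := by
      rw [← coe_oddQ]
      exact CfsgLib.Forms.index_omega_odd h2 (oddQ_nondegenerate h2 1) (by simp)
    rw [hi] at hO
    have hgcd : Nat.gcd 2 (Fintype.card F - 1) = 2 := Nat.gcd_eq_left (by
      rcases hodd with ⟨k, hk⟩; exact ⟨k, by omega⟩)
    rw [hgcd]
    simp [-Nat.card_eq_fintype_card, Finset.prod_range_succ] at hO
    linarith
  exact nonempty_quotient_center_equiv φ hrange hker.le
    (fun g hg => mem_center_SL_two fun x => hker ▸ hg x)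

/-- `PΩ⁺₄(q) ≅ PSL₂(q) × PSL₂(q)`. -/
theorem nonempty_pOmega_four_plus_equiv (hq3 : 3 ≤ Fintype.card F) :
    Nonempty (Cfsg.POmega F (Cfsg.quadFormPlus 2 F) ≃*
      Matrix.ProjectiveSpecialLinearGroup (Fin 2) F × Matrix.ProjectiveSpecialLinearGroup (Fin 2) F) := by
  classical
  let T : (Fin 2 ⊕ Fin 2 → F) →ₗ[F] Matrix (Fin 2) (Fin 2) F :=
    { toFun := fun x => !![x (.inl 0), x (.inl 1); -x (.inr 1), x (.inr 0)]
      map_add' := fun x y => by ext i j; fin_cases i <;> fin_cases j <;> simp [add_comm]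
      map_smul' := fun t x => by ext i j; fin_cases i <;> fin_cases j <;> simp }
  let P : Matrix (Fin 2) (Fin 2) F →ₗ[F] (Fin 2 ⊕ Fin 2 → F) :=
    { toFun := fun M => Sum.elim ![M 0 0, M 0 1] ![M 1 1, -M 1 0]
      map_add' := fun M N => by
        funext i; rcases i with i | i <;> fin_cases i <;> simp [add_comm]
      map_smul' := fun t M => by funext i; rcases i with i | i <;> fin_cases i <;> simp }
  let D : Subgroup (GL (Fin 2) F × GL (Fin 2) F) :=
    MonoidHom.eqLocus (Matrix.GeneralLinearGroup.det.comp (MonoidHom.fst _ _))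
      (Matrix.GeneralLinearGroup.det.comp (MonoidHom.snd _ _))
  let A := (sandwichHom F).comp D.subtype
  have hPT : ∀ x, P (T x) = x := fun x => by
    funext i; rcases i with i | i <;> fin_cases i <;> simp [P, T]
  have hTP : ∀ M, T (P M) = M := fun M => by
    ext i j; fin_cases i <;> fin_cases j <;> simp [T, P]
  have hQT : ∀ x, Cfsg.quadFormPlus 2 F x = (T x).det := by
    intro x
    simp [T, Cfsg.quadFormPlus, det_fin_two, Fin.sum_univ_two]
  have hQ : ∀ g x, Cfsg.quadFormPlus 2 F (P (A g (T x))) = Cfsg.quadFormPlus 2 F x := by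
    intro g x
    rw [hQT, hTP, hQT]
    exact det_sandwich (congrArg Units.val g.2) _
  obtain ⟨ψ, -, hψ⟩ := exists_isoHom (Cfsg.quadFormPlus 2 F) T P hPT A (fun _ _ => hTP _) hQ
  let j : SL(2, F) × SL(2, F) →* D :=
    (MonoidHom.prodMap Matrix.SpecialLinearGroup.toGL Matrix.SpecialLinearGroup.toGL).codRestrict D
      fun g => Units.ext (g.1.2.trans g.2.2.symm)
  set φ := ψ.comp j
  let δ : SL(2, F) →* SL(2, F) × SL(2, F) := (MonoidHom.id _).prod (MonoidHom.id _)
  have hker : φ.ker = (Subgroup.center SL(2, F)).map δ := by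
    ext ⟨g, g'⟩
    rw [MonoidHom.mem_ker]
    refine Iff.trans (hψ _) ⟨fun h => ?_, ?_⟩
    · have key : ∀ M, g.1 * M = M * g'.1 := fun M => by
        have h1 : g.1 * (M * ((Matrix.SpecialLinearGroup.toGL g')⁻¹).1) = M := by
          have := h (P M); rw [hTP] at this; exact this
        conv_rhs => rw [← h1]
        rw [coe_toGL_inv, mul_assoc, mul_assoc, ← Matrix.SpecialLinearGroup.coe_mul, inv_mul_cancel,
          Matrix.SpecialLinearGroup.coe_one, mul_one]
      have heq : g = g' := Subtype.ext (by simpa using key 1)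
      subst heq
      exact ⟨g, slTwo_mem_center_of_scalar (scalar_of_commute_sl_two (key _) (key _)), rfl⟩
    · rintro ⟨z, hz, hzg⟩ x
      obtain ⟨rfl, rfl⟩ : z = g ∧ z = g' := Prod.ext_iff.1 hzg
      exact sandwich_center hz _
  have hkc : φ.ker ≤ Subgroup.center (SL(2, F) × SL(2, F)) := by
    rw [hker]
    rintro _ ⟨z, hz, rfl⟩
    refine Subgroup.mem_center_iff.2 fun x => Prod.ext ?_ ?_
    · exact Subgroup.mem_center_iff.1 hz x.1
    · exact Subgroup.mem_center_iff.1 hz x.2
  have hle : φ.range ≤ Cfsg.Omega F (Cfsg.quadFormPlus 2 F) := by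
    obtain ⟨a, ha⟩ := exists_unit_ne_one hq3
    have h1 : ∀ g, φ (g, 1) ∈ Cfsg.Omega F (Cfsg.quadFormPlus 2 F) ∧
        φ (1, g) ∈ Cfsg.Omega F (Cfsg.quadFormPlus 2 F) := by
      intro g
      refine CfsgLib.Linear.sl_induction (fun g => φ (g, 1) ∈ Cfsg.Omega F (Cfsg.quadFormPlus 2 F) ∧
        φ (1, g) ∈ Cfsg.Omega F (Cfsg.quadFormPlus 2 F)) ⟨by simp [Prod.mk_one_one], by simp [Prod.mk_one_one]⟩ ?_ ?_ g
      · intro i k hik c
        obtain ⟨d, b, hd⟩ := exists_transvection_commutator hik a ha c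
        constructor
        · have h : j (Matrix.SpecialLinearGroup.transvection hik c, 1) =
              ⁅(⟨(d, d), rfl⟩ : D), j (Matrix.SpecialLinearGroup.transvection hik b, 1)⁆ := by
            refine Subtype.ext (Prod.ext hd.symm ?_)
            show Matrix.SpecialLinearGroup.toGL 1 = ⁅d, Matrix.SpecialLinearGroup.toGL 1⁆
            rw [map_one, commutatorElement_one_right]
          show ψ _ ∈ _
          rw [h, map_commutatorElement]
          exact Subgroup.commutator_mem_commutator (Subgroup.mem_top _) (Subgroup.mem_top _)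
        · have h : j (1, Matrix.SpecialLinearGroup.transvection hik c) =
              ⁅(⟨(d, d), rfl⟩ : D), j (1, Matrix.SpecialLinearGroup.transvection hik b)⁆ := by
            refine Subtype.ext (Prod.ext ?_ hd.symm)
            show Matrix.SpecialLinearGroup.toGL 1 = ⁅d, Matrix.SpecialLinearGroup.toGL 1⁆
            rw [map_one, commutatorElement_one_right]
          show ψ _ ∈ _
          rw [h, map_commutatorElement]
          exact Subgroup.commutator_mem_commutator (Subgroup.mem_top _) (Subgroup.mem_top _)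
      · intro A B hA hB
        constructor
        · rw [show ((A * B, 1) : SL(2, F) × SL(2, F)) = (A, 1) * (B, 1) by simp, map_mul]
          exact Subgroup.mul_mem _ hA.1 hB.1
        · rw [show ((1, A * B) : SL(2, F) × SL(2, F)) = (1, A) * (1, B) by simp, map_mul]
          exact Subgroup.mul_mem _ hA.2 hB.2
    rintro _ ⟨⟨g, g'⟩, rfl⟩
    rw [show ((g, g') : SL(2, F) × SL(2, F)) = (g, 1) * (1, g') by simp, map_mul]
    exact Subgroup.mul_mem _ (h1 g).1 (h1 g').2
  have hrange : φ.range = Cfsg.Omega F (Cfsg.quadFormPlus 2 F) := by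
    refine range_eq_of_card φ hle ?_
    have hδ : Function.Injective δ := fun x y h => congrArg Prod.fst h
    rw [Nat.card_prod, CfsgLib.Linear.card_SL_two, hker,
      Subgroup.card_map_of_injective hδ, card_ker_eq (by omega)]
    have hO := (Cfsg.Omega F (Cfsg.quadFormPlus 2 F)).index_mul_card
    rw [card_isometryGroup_quadFormPlus rfl 2 (by norm_num)] at hO
    simp [-Nat.card_eq_fintype_card, Finset.prod_range_succ] at hO
    by_cases h2 : (2 : F) = 0
    · have : CharP F 2 := CharTwo.of_one_ne_zero_of_two_eq_zero one_ne_zero h2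
      have hev := (two_eq_zero_iff_even (F := F) rfl).1 h2
      have hi : (Cfsg.Omega F (Cfsg.quadFormPlus 2 F)).index = 2 := by
        rw [← coe_plusQ]
        exact CfsgLib.Forms.index_omega_charTwo (plusQ_nondegenerate 2) (by simp)
          (Or.inl (by rw [Nat.card_eq_fintype_card]; omega))
      have hgcd : Nat.gcd 2 (Fintype.card F - 1) = 1 := by
        rcases hev with ⟨k, hk⟩
        exact (Nat.Prime.coprime_iff_not_dvd Nat.prime_two).2 (by omega)
      rw [hi] at hO
      rw [hgcd]
      linarith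
    · have hodd : Odd (Fintype.card F) := Nat.not_even_iff_odd.1 fun h =>
        h2 ((two_eq_zero_iff_even rfl).2 h)
      have hi : (Cfsg.Omega F (Cfsg.quadFormPlus 2 F)).index = 4 := by
        rw [← coe_plusQ]
        exact CfsgLib.Forms.index_omega_odd h2 (plusQ_nondegenerate 2) (by simp)
      have hgcd : Nat.gcd 2 (Fintype.card F - 1) = 2 := Nat.gcd_eq_left (by
        rcases hodd with ⟨k, hk⟩; exact ⟨k, by omega⟩)
      rw [hi] at hO
      rw [hgcd]
      linarith
  obtain ⟨e⟩ := nonempty_quotient_center_equiv φ hrange hkc fun g hg => by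
    refine Subgroup.mem_center_iff.2 fun x => ?_
    have hz : ∀ (y : SL(2, F) × SL(2, F)), y.2 = 1 ∨ y.1 = 1 → ⁅g, y⁆ = 1 := by
      intro y hy
      obtain ⟨z, -, hzy⟩ := (hker ▸ hg y : ⁅g, y⁆ ∈ (Subgroup.center SL(2, F)).map δ)
      have e1 := congrArg Prod.fst hzy
      have e2 := congrArg Prod.snd hzy
      have c1 : ⁅g, y⁆.1 = ⁅g.1, y.1⁆ := rfl
      have c2 : ⁅g, y⁆.2 = ⁅g.2, y.2⁆ := rfl
      have e12 : ⁅g.1, y.1⁆ = ⁅g.2, y.2⁆ := by rw [← c1, ← c2, ← e1, ← e2]; rfl
      rcases hy with hy | hy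
      · refine Prod.ext (c1.trans ?_) (c2.trans (by rw [hy, commutatorElement_one_right]; rfl))
        rw [e12, hy, commutatorElement_one_right]; rfl
      · refine Prod.ext (c1.trans (by rw [hy, commutatorElement_one_right]; rfl)) (c2.trans ?_)
        rw [← e12, hy, commutatorElement_one_right]; rfl
    have e1 := commutatorElement_eq_one_iff_mul_comm.1 (hz (x.1, 1) (Or.inl rfl))
    have e2 := commutatorElement_eq_one_iff_mul_comm.1 (hz (1, x.2) (Or.inr rfl))
    exact Prod.ext (congrArg Prod.fst e1).symm (congrArg Prod.snd e2).symm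
  refine ⟨e.trans ?_⟩
  let p := (QuotientGroup.mk' (Subgroup.center SL(2, F))).prodMap
    (QuotientGroup.mk' (Subgroup.center SL(2, F)))
  have hp : Function.Surjective p := Function.Surjective.prodMap
    (QuotientGroup.mk'_surjective _) (QuotientGroup.mk'_surjective _)
  refine (QuotientGroup.quotientMulEquivOfEq ?_).trans (QuotientGroup.quotientKerEquivOfSurjective p hp)
  ext x
  constructor
  · intro hx
    refine MonoidHom.mem_ker.2 (Prod.ext ?_ ?_)
    · exact (QuotientGroup.eq_one_iff _).2 (Subgroup.mem_center_iff.2 fun y =>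
        congrArg Prod.fst (Subgroup.mem_center_iff.1 hx (y, 1)))
    · exact (QuotientGroup.eq_one_iff _).2 (Subgroup.mem_center_iff.2 fun y =>
        congrArg Prod.snd (Subgroup.mem_center_iff.1 hx (1, y)))
  · intro hx
    have h1 := (QuotientGroup.eq_one_iff _).1 (congrArg Prod.fst hx)
    have h2 := (QuotientGroup.eq_one_iff _).1 (congrArg Prod.snd hx)
    exact Subgroup.mem_center_iff.2 fun y => Prod.ext (Subgroup.mem_center_iff.1 h1 y.1)
      (Subgroup.mem_center_iff.1 h2 y.2)

end Fintype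

end CfsgLib.Forms4
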