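import Cfsg.Agent.FieldEmb.Basic
import Cfsg.Agent.TwoGroups.Models

/-!
# The orthogonal groups in dimension 2 are dihedral
-/

set_option autoImplicit false

open Matrix

namespace CfsgLib.Forms4

/-- A subgroup made of a cyclic subgroup and an involution inverting it is dihedral. -/
theorem nonempty_dihedral_of_hom {S U : Type*} [Group S] [Finite S] [Group U] [IsCyclic U]
    (H : Subgroup S) (ψ : U →* S) (hψ : Function.Injective ψ) (s : S) (hle : ∀ u, ψ u ∈ H)
    (hsH : s ∈ H) (hs : s * s = 1) (hnot : ∀ u, ψ u ≠ s) (hinv : ∀ u, s * ψ u * s⁻¹ = (ψ u)⁻¹)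
    (hall : ∀ g ∈ H, ∃ u, g = ψ u ∨ g = ψ u * s) :
    Nonempty (H ≃* DihedralGroup (Nat.card U)) := by
  obtain ⟨u₀, hu₀⟩ := IsCyclic.exists_generator (α := U)
  have : Finite U := Finite.of_injective ψ hψ
  refine CfsgLib.TwoGroups.nonempty_equiv_dihedral (hle u₀) hsH
    ?_ hs (hinv u₀) ?_ ?_
  · rw [orderOf_injective ψ hψ, orderOf_eq_card_of_forall_mem_zpowers hu₀]
  · rintro ⟨k, hk⟩
    exact hnot (u₀ ^ k) (by rw [map_zpow]; exact hk)
  · let f : U ⊕ U → H :=
      Sum.elim (fun u => ⟨ψ u, hle u⟩) (fun u => ⟨ψ u * s, mul_mem (hle u) hsH⟩)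
    have hf : Function.Bijective f := by
      refine ⟨?_, fun g => ?_⟩
      · rintro (u | u) (v | v) h <;> simp only [f, Sum.elim_inl, Sum.elim_inr, Subtype.mk.injEq] at h
        · rw [hψ h]
        · exact absurd (show ψ (v⁻¹ * u) = s by rw [map_mul, map_inv, h, inv_mul_cancel_left]) (hnot _)
        · exact absurd (show ψ (u⁻¹ * v) = s by rw [map_mul, map_inv, ← h, inv_mul_cancel_left]) (hnot _)
        · rw [hψ (mul_right_cancel h)]
      · obtain ⟨u, hu | hu⟩ := hall g g.2
        · exact ⟨Sum.inl u, Subtype.ext hu.symm⟩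
        · exact ⟨Sum.inr u, Subtype.ext hu.symm⟩
    rw [← Nat.card_congr (Equiv.ofBijective f hf), Nat.card_sum]
    ring

variable {F : Type*} [Field F]

/-- Renaming coordinates. -/
theorem nonempty_isometryGroup_congr [Finite F] {ι κ : Type} [Fintype ι] [DecidableEq ι] [Fintype κ]
    [DecidableEq κ] (e : ι ≃ κ) (Q : (ι → F) → F) :
    Nonempty (Cfsg.isometryGroup F Q ≃* Cfsg.isometryGroup F fun v => Q (v ∘ e)) := by
  let L : (ι → F) ≃ₗ[F] (κ → F) := LinearEquiv.funCongrLeft F F e.symm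
  obtain ⟨φ, hφ⟩ := CfsgLib.FieldEmb.exists_hom_of_equiv Q (fun v => Q (v ∘ e)) L
    (fun v => congrArg Q (funext fun i => by simp [L, LinearEquiv.funCongrLeft, LinearMap.funLeft]))
  obtain ⟨χ, hχ⟩ := CfsgLib.FieldEmb.exists_hom_of_equiv (fun v => Q (v ∘ e)) Q L.symm
    (fun v => congrArg Q (funext fun i => by simp [L, LinearEquiv.funCongrLeft, LinearMap.funLeft]))
  exact ⟨MulEquiv.ofBijective φ ((Nat.bijective_iff_injective_and_card _).2
    ⟨hφ, le_antisymm (Nat.card_le_card_of_injective φ hφ) (Nat.card_le_card_of_injective χ hχ)⟩)⟩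

/-- The hyperbolic plane: `O₂⁺(q)` is dihedral of order `2(q-1)`. -/
theorem isometryGroup_hyperbolic_plane [Fintype F] :
    Nonempty (Cfsg.isometryGroup F (fun v : Fin 2 → F => v 0 * v 1) ≃*
      DihedralGroup (Fintype.card F - 1)) := by
  classical
  have hmem : ∀ g : GL (Fin 2) F, g ∈ Cfsg.isometryGroup F (fun v : Fin 2 → F => v 0 * v 1) ↔
      ∀ v : Fin 2 → F, (g.1 0 0 * v 0 + g.1 0 1 * v 1) * (g.1 1 0 * v 0 + g.1 1 1 * v 1) = v 0 * v 1 := by
    intro g
    rw [CfsgLib.FieldEmb.mem_isometryGroup]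
    simp [Matrix.mulVec, dotProduct, Fin.sum_univ_two]
  let M : Fˣ →* Matrix (Fin 2) (Fin 2) F :=
    { toFun := fun u => !![(u : F), 0; 0, ((u⁻¹ : Fˣ) : F)]
      map_one' := by simp [Matrix.one_fin_two]
      map_mul' := fun u v => by simp [Matrix.mul_fin_two, mul_comm] }
  let s : GL (Fin 2) F := GeneralLinearGroup.mkOfDetNeZero !![(0 : F), 1; 1, 0]
    (by rw [Matrix.det_fin_two_of]; simp)
  rw [← Fintype.card_units, ← Nat.card_eq_fintype_card]
  refine nonempty_dihedral_of_hom _ M.toHomUnits ?_ s ?_ ?_ ?_ ?_ ?_ ?_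
  · intro u v h
    have := congrArg (fun z : GL (Fin 2) F => z.1 0 0) h
    exact Units.ext (by simpa [M] using this)
  · intro u
    rw [hmem]
    intro v
    simp [M]
    field_simp
  · rw [hmem]
    intro v
    simp [s, GeneralLinearGroup.mkOfDetNeZero]
    ring
  · apply Units.ext
    simp [s, GeneralLinearGroup.mkOfDetNeZero, Matrix.mul_fin_two, Matrix.one_fin_two]
  · intro u h
    have := congrArg (fun z : GL (Fin 2) F => z.1 0 1) h
    simp [M, s, GeneralLinearGroup.mkOfDetNeZero] at this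
  · intro u
    rw [mul_inv_eq_iff_eq_mul, ← map_inv]
    apply Units.ext
    change !![(0 : F), 1; 1, 0] * !![(u : F), 0; 0, ((u⁻¹ : Fˣ) : F)] =
      !![((u⁻¹ : Fˣ) : F), 0; 0, ((u⁻¹⁻¹ : Fˣ) : F)] * !![(0 : F), 1; 1, 0]
    simp [Matrix.mul_fin_two]
  · intro g hg
    rw [hmem] at hg
    have h1 := hg ![1, 0]
    have h2 := hg ![0, 1]
    have h3 := hg ![1, 1]
    simp only [Matrix.cons_val_zero, Matrix.cons_val_one, mul_one, mul_zero, add_zero, zero_add] at h1 h2 h3
    rcases mul_eq_zero.1 h1 with h | h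
    · have h4 : g.1 0 1 * g.1 1 0 = 1 := by linear_combination h3 - h2 - (g.1 1 0 + g.1 1 1) * h
      have h5 : g.1 1 1 = 0 :=
        (mul_eq_zero.1 h2).resolve_left (left_ne_zero_of_mul_eq_one h4)
      refine ⟨⟨g.1 0 1, g.1 1 0, h4, by rw [mul_comm, h4]⟩, Or.inr (Units.ext ?_)⟩
      simp [M, s, GeneralLinearGroup.mkOfDetNeZero, Matrix.mul_fin_two]
      ext i j
      fin_cases i <;> fin_cases j <;> simp [h, h5]
      exact eq_inv_of_mul_eq_one_right h4
    · have h4 : g.1 0 0 * g.1 1 1 = 1 := by linear_combination h3 - h2 - (g.1 0 0 + g.1 0 1) * h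
      have h5 : g.1 0 1 = 0 :=
        (mul_eq_zero.1 h2).resolve_right (right_ne_zero_of_mul_eq_one h4)
      refine ⟨⟨g.1 0 0, g.1 1 1, h4, by rw [mul_comm, h4]⟩, Or.inl (Units.ext ?_)⟩
      simp [M]
      ext i j
      fin_cases i <;> fin_cases j <;> simp [h, h5]
      exact eq_inv_of_mul_eq_one_right h4

/-- An anisotropic binary form: `O₂⁻(q)` is dihedral of order `2(q+1)`. -/
theorem isometryGroup_anisotropic_plane [Fintype F] (a b : F)
    (hab : ∀ z₁ z₂ : F, z₁ ^ 2 + a * z₁ * z₂ + b * z₂ ^ 2 = 0 → z₁ = 0 ∧ z₂ = 0) :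
    Nonempty (Cfsg.isometryGroup F (fun v : Fin 2 → F => v 0 ^ 2 + a * v 0 * v 1 + b * v 1 ^ 2) ≃*
      DihedralGroup (Fintype.card F + 1)) := by
  classical
  have hfact : Fact (∀ r : F, r ^ 2 ≠ -b + a * r) :=
    ⟨fun r h => by
      have := hab r (-1) (by linear_combination h)
      exact neg_ne_zero.2 one_ne_zero this.2⟩
  let : Fintype (QuadraticAlgebra F (-b) a) := Fintype.ofEquiv _ (QuadraticAlgebra.equivProd _ _).symm
  let N : (QuadraticAlgebra F (-b) a)ˣ →* Fˣ := Units.map QuadraticAlgebra.norm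
  have hsq : ringChar F = 2 → ∀ c : F, ∃ x, x * x = c := fun h c =>
    let ⟨x, hx⟩ := FiniteField.isSquare_of_char_two h c
    ⟨x, hx.symm⟩
  have hrep : ∀ c : F, ∃ x y : F, x ^ 2 + a * x * y + b * y ^ 2 = c := by
    intro c
    by_cases h : ringChar F = 2
    · obtain ⟨x, hx⟩ := hsq h c
      exact ⟨x, 0, by linear_combination hx⟩
    have h2 : (2 : F) ≠ 0 := Ring.two_ne_zero h
    have hd : b - a ^ 2 / 4 ≠ 0 := fun h0 => by
      have h4 : (4 : F) ≠ 0 := by
        rw [show (4 : F) = 2 * 2 by norm_num]; exact mul_ne_zero h2 h2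
      have := (hab (-a / 2) 1 (by field_simp; field_simp at h0; linear_combination h0)).2
      exact one_ne_zero this
    obtain ⟨x, y, hxy⟩ := FiniteField.exists_root_sum_quadratic
      (f := (Polynomial.X ^ 2 - Polynomial.C c : Polynomial F))
      (g := Polynomial.C (b - a ^ 2 / 4) * Polynomial.X ^ 2)
      (Polynomial.degree_X_pow_sub_C (by norm_num) _)
      (Polynomial.degree_C_mul_X_pow 2 hd) (FiniteField.odd_card_of_char_ne_two h)
    simp only [Polynomial.eval_sub, Polynomial.eval_pow, Polynomial.eval_X, Polynomial.eval_C,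
      Polynomial.eval_mul] at hxy
    refine ⟨x - a / 2 * y, y, ?_⟩
    have h4 : (4 : F) = 2 * 2 := by norm_num
    rw [h4] at hxy
    field_simp at hxy ⊢
    linear_combination hxy
  have hN : Function.Surjective N := by
    intro c
    obtain ⟨x, y, hxy⟩ := hrep c
    have hn : QuadraticAlgebra.norm (⟨x, y⟩ : QuadraticAlgebra F (-b) a) = c := by
      rw [QuadraticAlgebra.norm_def]; simp only; linear_combination hxy
    have hu : IsUnit (⟨x, y⟩ : QuadraticAlgebra F (-b) a) := by
      rw [QuadraticAlgebra.isUnit_iff_norm_isUnit, hn]; exact c.isUnit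
    exact ⟨hu.unit, Units.ext hn⟩
  have hcard : Nat.card N.ker = Fintype.card F + 1 := by
    have h1 := N.ker.card_eq_card_quotient_mul_card_subgroup
    rw [Nat.card_congr (QuotientGroup.quotientKerEquivOfSurjective N hN).toEquiv, Nat.card_units,
      Nat.card_units, Nat.card_congr (QuadraticAlgebra.equivProd (-b) a), Nat.card_prod,
      Nat.card_eq_fintype_card (α := F)] at h1
    obtain ⟨k, hk⟩ : ∃ k, Fintype.card F = k + 1 + 1 :=
      ⟨Fintype.card F - 2, by have := Fintype.one_lt_card (α := F); omega⟩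
    rw [hk] at h1 ⊢
    refine (Nat.eq_of_mul_eq_mul_left (n := k + 1) (by omega) ?_).symm
    have h2 : (k + 1 + 1) * (k + 1 + 1) - 1 = (k + 1) * (k + 1 + 1 + 1) := by
      have : (k + 1 + 1) * (k + 1 + 1) = (k + 1) * (k + 1 + 1 + 1) + 1 := by ring
      omega
    rw [h2, Nat.add_sub_cancel] at h1
    exact h1
  rw [← hcard]
  let M : QuadraticAlgebra F (-b) a →* Matrix (Fin 2) (Fin 2) F :=
    { toFun := fun z => !![z.re, -b * z.im; z.im, z.re + a * z.im]
      map_one' := by
        change !![(1 : F), -b * 0; 0, 1 + a * 0] = 1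
        simp [Matrix.one_fin_two]
      map_mul' := fun z w => by
        simp only [Matrix.mul_fin_two, QuadraticAlgebra.re_mul, QuadraticAlgebra.im_mul]
        ext i j
        fin_cases i <;> fin_cases j <;> simp <;> ring }
  let ψ : N.ker →* GL (Fin 2) F := (Units.map M).comp N.ker.subtype
  have hmem : ∀ g : GL (Fin 2) F,
      g ∈ Cfsg.isometryGroup F (fun v : Fin 2 → F => v 0 ^ 2 + a * v 0 * v 1 + b * v 1 ^ 2) ↔
      ∀ v : Fin 2 → F, (g.1 0 0 * v 0 + g.1 0 1 * v 1) ^ 2 +
        a * (g.1 0 0 * v 0 + g.1 0 1 * v 1) * (g.1 1 0 * v 0 + g.1 1 1 * v 1) +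
        b * (g.1 1 0 * v 0 + g.1 1 1 * v 1) ^ 2 = v 0 ^ 2 + a * v 0 * v 1 + b * v 1 ^ 2 := by
    intro g
    rw [CfsgLib.FieldEmb.mem_isometryGroup]
    simp [Matrix.mulVec, dotProduct, Fin.sum_univ_two]
  have hker : ∀ z : N.ker, z.1.1.re * z.1.1.re + a * z.1.1.re * z.1.1.im + b * z.1.1.im * z.1.1.im = 1 := by
    intro z
    have h := congrArg Units.val (MonoidHom.mem_ker.1 z.2)
    change QuadraticAlgebra.norm z.1.1 = 1 at h
    rw [QuadraticAlgebra.norm_def] at h
    linear_combination h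
  have hψmem : ∀ z, ψ z ∈ Cfsg.isometryGroup F
      (fun v : Fin 2 → F => v 0 ^ 2 + a * v 0 * v 1 + b * v 1 ^ 2) := by
    intro z
    rw [hmem]
    intro v
    have h := hker z
    simp [ψ, M]
    linear_combination (v 0 ^ 2 + a * v 0 * v 1 + b * v 1 ^ 2) * h
  let s : GL (Fin 2) F := GeneralLinearGroup.mkOfDetNeZero !![(1 : F), a; 0, -1]
    (by rw [Matrix.det_fin_two_of]; simp)
  have hs : s.1 = !![(1 : F), a; 0, -1] := rfl
  have hsmem : s ∈ Cfsg.isometryGroup F
      (fun v : Fin 2 → F => v 0 ^ 2 + a * v 0 * v 1 + b * v 1 ^ 2) := by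
    rw [hmem]
    intro v
    simp [hs]
    ring
  refine nonempty_dihedral_of_hom _ ψ ?_ s hψmem hsmem ?_ ?_ ?_ ?_
  · intro u v h
    have h0 := congrArg (fun z : GL (Fin 2) F => z.1 0 0) h
    have h1 := congrArg (fun z : GL (Fin 2) F => z.1 1 0) h
    simp [ψ, M] at h0 h1
    exact Subtype.ext (Units.ext (QuadraticAlgebra.ext h0 h1))
  · apply Units.ext
    rw [Units.val_mul, hs, Matrix.mul_fin_two, Units.val_one, Matrix.one_fin_two]
    simp
  · intro u h
    have h0 := congrArg (fun z : GL (Fin 2) F => z.1 0 1) h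
    have h1 := congrArg (fun z : GL (Fin 2) F => z.1 1 1) h
    have h2 := congrArg (fun z : GL (Fin 2) F => z.1 1 0) h
    have h3 := congrArg (fun z : GL (Fin 2) F => z.1 0 0) h
    simp [ψ, M, hs] at h0 h1 h2 h3
    rw [h2, mul_zero] at h0
    rw [h2, h3] at h1
    simp at h0
    have h4 : (1 : F) + 1 = 0 := by linear_combination h1
    have h2' : ringChar F = 2 := by
      by_contra hne
      exact Ring.two_ne_zero hne (by rw [← one_add_one_eq_two]; exact h4)
    obtain ⟨x, hx⟩ := hsq h2' (-b)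
    have := hab x 1 (by rw [← h0]; linear_combination hx)
    exact one_ne_zero this.2
  · intro u
    rw [mul_inv_eq_iff_eq_mul, eq_inv_mul_iff_mul_eq]
    apply Units.ext
    rw [Units.val_mul, Units.val_mul, hs]
    have h := hker u
    simp [ψ, M]
    refine ⟨⟨?_, ?_⟩, ?_, ?_⟩
    · linear_combination h
    · linear_combination a * h
    · ring
    · linear_combination -h
  · intro g hg
    have h1 := (hmem g).1 hg ![1, 0]
    simp at h1
    let z : QuadraticAlgebra F (-b) a := ⟨g.1 0 0, g.1 1 0⟩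
    have hn : QuadraticAlgebra.norm z = 1 := by
      rw [QuadraticAlgebra.norm_def]; simp only [z]; linear_combination h1
    have hz : IsUnit z := by rw [QuadraticAlgebra.isUnit_iff_norm_isUnit, hn]; exact isUnit_one
    let u : N.ker := ⟨hz.unit, Units.ext hn⟩
    refine ⟨u, ?_⟩
    set g' := (ψ u)⁻¹ * g with hg'
    have hgg : g = ψ u * g' := by rw [hg', mul_inv_cancel_left]
    have hg'mem : g' ∈ Cfsg.isometryGroup F
        (fun v : Fin 2 → F => v 0 ^ 2 + a * v 0 * v 1 + b * v 1 ^ 2) :=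
      mul_mem (inv_mem (hψmem u)) hg
    have hcol : g'.1 0 0 = 1 ∧ g'.1 1 0 = 0 := by
      have h := congrArg (fun x : GL (Fin 2) F => (x.1 0 0, x.1 1 0)) hgg
      simp [ψ, M, u, z, Matrix.mul_apply, Fin.sum_univ_two] at h
      obtain ⟨e1, e2⟩ := h
      constructor
      · linear_combination (g'.1 0 0 - 1) * (-h1) - (g.1 0 0 + a * g.1 1 0) * e1 - b * g.1 1 0 * e2
      · linear_combination (-(g'.1 1 0)) * h1 + g.1 1 0 * e1 - g.1 0 0 * e2
    have k2 := (hmem g').1 hg'mem ![0, 1]
    have k3 := (hmem g').1 hg'mem ![1, 1]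
    simp [hcol.1, hcol.2] at k2 k3
    set w₁ := g'.1 0 1
    set w₂ := g'.1 1 1
    have e1 : 2 * w₁ + a * w₂ = a := by linear_combination k3 - k2
    have e2 : (w₂ - 1) * (w₂ + 1) * (4 * b - a ^ 2) = 0 := by
      linear_combination 4 * k2 - (2 * w₁ + a * w₂ + a) * e1
    have hdisc : (4 * b - a ^ 2 : F) ≠ 0 := by
      intro h0
      by_cases h2 : (2 : F) = 0
      · have ha : a = 0 := by
          have : a ^ 2 = 0 := by linear_combination (2 * b) * h2 - h0
          exact pow_eq_zero_iff (by norm_num) |>.1 this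
        have h2' : ringChar F = 2 := by
          by_contra hne
          exact Ring.two_ne_zero hne h2
        obtain ⟨x, hx⟩ := hsq h2' (-b)
        have := hab x 1 (by rw [ha]; linear_combination hx)
        exact one_ne_zero this.2
      · have := hab (-a) 2 (by linear_combination h0)
        exact h2 this.2
    have hW : (w₁ = 0 ∧ w₂ = 1) ∨ (w₁ = a ∧ w₂ = -1) := by
      by_cases h2 : (2 : F) = 0
      · have hone : w₂ = 1 := by
          rcases mul_eq_zero.1 ((mul_eq_zero.1 e2).resolve_right hdisc) with h | h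
          · exact sub_eq_zero.1 h
          · linear_combination h - h2
        have : w₁ * (w₁ + a) = 0 := by rw [hone] at k2; linear_combination k2
        rcases mul_eq_zero.1 this with h | h
        · exact Or.inl ⟨h, hone⟩
        · exact Or.inr ⟨by linear_combination h - a * h2, by rw [hone]; linear_combination h2⟩
      · rcases mul_eq_zero.1 ((mul_eq_zero.1 e2).resolve_right hdisc) with h | h
        · refine Or.inl ⟨?_, sub_eq_zero.1 h⟩
          exact mul_left_cancel₀ h2 (by linear_combination e1 - a * h)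
        · refine Or.inr ⟨?_, by linear_combination h⟩
          exact mul_left_cancel₀ h2 (by linear_combination e1 - a * h)
    rcases hW with ⟨hw1, hw2⟩ | ⟨hw1, hw2⟩
    · refine Or.inl ?_
      have : g' = 1 := Units.ext (by
        ext i j
        fin_cases i <;> fin_cases j <;> simp [hcol.1, hcol.2]
        · exact hw1
        · exact hw2)
      rw [hgg, this, mul_one]
    · refine Or.inr ?_
      have : g' = s := Units.ext (by
        rw [hs]
        ext i j
        fin_cases i <;> fin_cases j <;> simp [hcol.1, hcol.2]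
        · exact hw1
        · exact hw2)
      rw [hgg, this]

end CfsgLib.Forms4
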