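import Cfsg.Agent.Forms.Witt
import Cfsg.Agent.Forms4.OrthogonalTwo

/-!
# Orders and zero counts of orthogonal groups

`card_zero_hsum`, `card_isometryGroup_hyp`: recursion by splitting off hyperbolic planes.
-/

set_option autoImplicit false

open Matrix Module

namespace CfsgLib.Forms4

section counting

variable {F : Type*} [Field F] [Fintype F]

/-- Zeros of `x y + f w`. -/
theorem card_zero_mul_add {W : Type*} [Fintype W] (f : W → F) :
    (Nat.card {p : (F × F) × W // p.1.1 * p.1.2 + f p.2 = 0} : ℤ) =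
      ((Fintype.card F : ℤ) - 1) * Fintype.card W +
        Fintype.card F * Nat.card {w : W // f w = 0} := by
  classical
  let e : {p : (F × F) × W // p.1.1 * p.1.2 + f p.2 = 0} ≃
      ({x : F // x ≠ 0} × W) ⊕ (F × {w : W // f w = 0}) :=
    { toFun := fun p => if h : p.1.1.1 = 0 then
          Sum.inr (p.1.1.2, ⟨p.1.2, by simpa [h] using p.2⟩) else Sum.inl (⟨p.1.1.1, h⟩, p.1.2)
      invFun := fun s => match s with
        | Sum.inl (x, w) => ⟨((x.1, -(f w) / x.1), w), by
            show x.1 * (-(f w) / x.1) + f w = 0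
            rw [mul_div_cancel₀ _ x.2]; ring⟩
        | Sum.inr (y, w) => ⟨((0, y), w.1), by
            show 0 * y + f w.1 = 0
            rw [w.2]; ring⟩
      left_inv := fun ⟨⟨⟨x, y⟩, w⟩, h⟩ => by
        by_cases hx : x = 0
        · simp [hx]
        · simp only [hx, dite_false]
          refine Subtype.ext ?_
          simp only [Prod.mk.injEq, true_and, and_true]
          rw [div_eq_iff hx]
          change x * y + f w = 0 at h
          linear_combination -h
      right_inv := fun s => by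
        rcases s with ⟨⟨x, hx⟩, w⟩ | ⟨y, w⟩ <;> simp [*] }
  rw [Nat.card_congr e, Nat.card_sum, Nat.card_prod, Nat.card_prod]
  have h1 : Nat.card {x : F // x ≠ 0} = Fintype.card F - 1 := by
    rw [Nat.card_eq_fintype_card, Fintype.card_subtype_compl, Fintype.card_subtype_eq]
  rw [h1, Nat.card_eq_fintype_card (α := W), Nat.card_eq_fintype_card (α := F)]
  push_cast [Nat.cast_sub (Fintype.card_pos : 0 < Fintype.card F)]
  ring

/-- Split off the coordinates with index `0`. -/
def hsumSplit (m : ℕ) (κ : Type) :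
    (((Fin (m + 1) ⊕ Fin (m + 1)) ⊕ κ) → F) ≃ (F × F) × (((Fin m ⊕ Fin m) ⊕ κ) → F) where
  toFun v := ((v (.inl (.inl 0)), v (.inl (.inr 0))),
    Sum.elim (Sum.elim (fun i => v (.inl (.inl i.succ))) (fun i => v (.inl (.inr i.succ))))
      (fun k => v (.inr k)))
  invFun p := Sum.elim
    (Sum.elim (Fin.cases p.1.1 fun i => p.2 (.inl (.inl i)))
      (Fin.cases p.1.2 fun i => p.2 (.inl (.inr i))))
    (fun k => p.2 (.inr k))
  left_inv v := by
    funext j
    rcases j with (i | i) | k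
    · induction i using Fin.cases <;> simp
    · induction i using Fin.cases <;> simp
    · rfl
  right_inv p := by
    refine Prod.ext (Prod.ext ?_ ?_) (funext fun j => ?_)
    · simp
    · simp
    · rcases j with (i | i) | k <;> simp

/-- `∑ xᵢ yᵢ + f(w)`. -/
def hsum (m : ℕ) {κ : Type} (f : (κ → F) → F) (v : (Fin m ⊕ Fin m) ⊕ κ → F) : F :=
  (∑ i, v (.inl (.inl i)) * v (.inl (.inr i))) + f (v ∘ Sum.inr)

omit [Fintype F] in
theorem hsum_split (m : ℕ) {κ : Type} (f : (κ → F) → F) (v : (Fin (m + 1) ⊕ Fin (m + 1)) ⊕ κ → F) :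
    hsum (m + 1) f v =
      (hsumSplit m κ v).1.1 * (hsumSplit m κ v).1.2 + hsum m f (hsumSplit m κ v).2 := by
  simp [hsum, hsumSplit, Fin.sum_univ_succ, add_assoc, Function.comp_def]

/-- The number of zeros: `q Z_m - |W_m| = q^m (q Z_0 - |W_0|)`. -/
theorem card_zero_hsum {κ : Type} [Fintype κ] [DecidableEq κ] (f : (κ → F) → F) (m : ℕ) :
    (Fintype.card F : ℤ) * Nat.card {v // hsum m f v = 0} -
        (Fintype.card F : ℤ) ^ (2 * m + Fintype.card κ) =
      (Fintype.card F : ℤ) ^ m * ((Fintype.card F : ℤ) * Nat.card {w // f w = 0} -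
        (Fintype.card F : ℤ) ^ Fintype.card κ) := by
  classical
  induction m with
  | zero =>
    have e : {v : (Fin 0 ⊕ Fin 0) ⊕ κ → F // hsum 0 f v = 0} ≃ {w // f w = 0} :=
      (Equiv.arrowCongr (Equiv.emptySum (Fin 0 ⊕ Fin 0) κ) (Equiv.refl F)).subtypeEquiv fun v => by
        simp [hsum, Function.comp_def]
        rfl
    rw [Nat.card_congr e]
    simp
  | succ m ih =>
    rw [Nat.card_congr ((hsumSplit m κ).subtypeEquiv (q := fun p => p.1.1 * p.1.2 + hsum m f p.2 = 0)
      fun v => by rw [hsum_split]), card_zero_mul_add]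
    simp only [Fintype.card_pi, Finset.prod_const, Finset.card_univ, Fintype.card_sum, Fintype.card_fin]
    push_cast
    rw [← two_mul, show 2 * (m + 1) + Fintype.card κ = 2 * m + Fintype.card κ + 2 by ring,
      pow_succ' _ m, pow_succ, pow_succ]
    linear_combination (Fintype.card F : ℤ) * ih

end counting

section hyperbolic

variable {F : Type*} [Field F] {κ : Type} [Fintype κ] [DecidableEq κ]

/-- A hyperbolic plane plus `Q`. -/
noncomputable def hypForm (Q : QuadraticForm F (κ → F)) : QuadraticForm F (Fin 2 ⊕ κ → F) :=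
  QuadraticMap.linMulLin (LinearMap.proj (Sum.inl 0)) (LinearMap.proj (Sum.inl 1)) +
    Q.comp (LinearMap.funLeft F F Sum.inr)

variable (Q : QuadraticForm F (κ → F))

local notation "ve" => (Sum.elim ![(1 : F), 0] 0 : Fin 2 ⊕ κ → F)
local notation "vf" => (Sum.elim ![(0 : F), 1] 0 : Fin 2 ⊕ κ → F)

omit [Fintype κ] [DecidableEq κ] in
theorem hypForm_apply (v : Fin 2 ⊕ κ → F) :
    hypForm Q v = v (.inl 0) * v (.inl 1) + Q (v ∘ Sum.inr) := rfl

omit [Fintype κ] [DecidableEq κ] in
theorem polar_hypForm (u v : Fin 2 ⊕ κ → F) :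
    QuadraticMap.polar (⇑(hypForm Q)) u v = u (.inl 0) * v (.inl 1) + v (.inl 0) * u (.inl 1) +
      QuadraticMap.polar (⇑Q) (u ∘ Sum.inr) (v ∘ Sum.inr) := by
  simp only [QuadraticMap.polar, hypForm_apply, Pi.add_apply, Pi.add_comp]
  ring

omit [Fintype κ] [DecidableEq κ] in
theorem polar_quad_zero_left (x : κ → F) : QuadraticMap.polar (⇑Q) 0 x = 0 :=
  QuadraticMap.polar_zero_left Q x

omit [Fintype κ] [DecidableEq κ] in
theorem hypForm_nondegenerate (hQ : (QuadraticMap.polarBilin Q).Nondegenerate) :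
    (QuadraticMap.polarBilin (hypForm Q)).Nondegenerate := by
  have key : ∀ x, (∀ y, QuadraticMap.polar (⇑(hypForm Q)) x y = 0) → x = 0 := by
    intro x hx
    have h0 := hx ve
    have h1 := hx vf
    simp [polar_hypForm, QuadraticMap.polar_zero_right] at h0 h1
    have h2 : x ∘ Sum.inr = 0 := hQ.1 _ fun y => by
      have := hx (Sum.elim 0 y)
      simpa [polar_hypForm, QuadraticMap.polarBilin_apply_apply] using this
    funext j
    rcases j with i | k
    · fin_cases i
      · exact h1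
      · exact h0
    · exact congrFun h2 k
  exact ⟨fun x hx => key x hx, fun x hx => key x fun y => by
    rw [QuadraticMap.polar_comm]; exact hx y⟩

/-- The block embedding. -/
def blockEmb : Matrix κ κ F →* Matrix (Fin 2 ⊕ κ) (Fin 2 ⊕ κ) F where
  toFun M := fromBlocks 1 0 0 M
  map_one' := fromBlocks_one
  map_mul' M N := by simp [fromBlocks_multiply]

theorem blockEmb_mulVec (M : Matrix κ κ F) (v : Fin 2 ⊕ κ → F) :
    blockEmb M *ᵥ v = Sum.elim (v ∘ Sum.inl) (M *ᵥ (v ∘ Sum.inr)) := by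
  simp [blockEmb, fromBlocks_mulVec]

omit [Fintype κ] [DecidableEq κ] in
/-- Coordinates along `e`, `f`. -/
theorem polar_pair (x : Fin 2 ⊕ κ → F) :
    QuadraticMap.polar (⇑(hypForm Q)) x ve = x (.inl 1) ∧
      QuadraticMap.polar (⇑(hypForm Q)) x vf = x (.inl 0) := by
  simp [polar_hypForm, QuadraticMap.polar_zero_right]

theorem polar_map {g : GL (Fin 2 ⊕ κ) F} (hg : g ∈ Cfsg.isometryGroup F ⇑(hypForm Q))
    (u v : Fin 2 ⊕ κ → F) :
    QuadraticMap.polar (⇑(hypForm Q)) (g.1 *ᵥ u) (g.1 *ᵥ v) =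
      QuadraticMap.polar (⇑(hypForm Q)) u v := by
  have h := CfsgLib.FieldEmb.mem_isometryGroup.1 hg
  simp only [QuadraticMap.polar, ← Matrix.mulVec_add, h]

/-- An isometry fixing `e` and `f` comes from `O(Q)`. -/
theorem exists_eq_blockEmb {g : GL (Fin 2 ⊕ κ) F} (hg : g ∈ Cfsg.isometryGroup F ⇑(hypForm Q))
    (he : g.1 *ᵥ ve = ve) (hf : g.1 *ᵥ vf = vf) :
    ∃ h : Cfsg.isometryGroup F ⇑Q, Units.map blockEmb h.1 = g := by
  have hW : ∀ w : κ → F, g.1 *ᵥ Sum.elim (0 : Fin 2 → F) w =
      Sum.elim (0 : Fin 2 → F) (g.1.toBlocks₂₂ *ᵥ w) := by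
    intro w
    have h1 := polar_map Q hg (Sum.elim 0 w) ve
    have h2 := polar_map Q hg (Sum.elim 0 w) vf
    rw [he, (polar_pair Q _).1, (polar_pair Q _).1] at h1
    rw [hf, (polar_pair Q _).2, (polar_pair Q _).2] at h2
    funext j
    rcases j with i | k
    · fin_cases i
      · simpa using h2
      · simpa using h1
    · conv_lhs => rw [← fromBlocks_toBlocks g.1, fromBlocks_mulVec]
      simp
  have hM : g.1 = blockEmb g.1.toBlocks₂₂ := by
    refine Matrix.ext_iff_mulVec.2 fun v => ?_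
    have hv : v = v (.inl 0) • ve + v (.inl 1) • vf + Sum.elim (0 : Fin 2 → F) (v ∘ Sum.inr) := by
      funext j
      rcases j with i | k
      · fin_cases i <;> simp
      · simp
    conv_lhs => rw [hv, Matrix.mulVec_add, Matrix.mulVec_add, Matrix.mulVec_smul, Matrix.mulVec_smul,
      he, hf, hW]
    rw [blockEmb_mulVec]
    funext j
    rcases j with i | k
    · fin_cases i <;> simp
    · simp
  have hdet : g.1.toBlocks₂₂.det ≠ 0 := by
    have h := g.det.ne_zero
    rw [GeneralLinearGroup.val_det_apply, hM] at h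
    simpa [blockEmb] using h
  refine ⟨⟨GeneralLinearGroup.mkOfDetNeZero _ hdet, CfsgLib.FieldEmb.mem_isometryGroup.2 fun w => ?_⟩,
    Units.ext hM.symm⟩
  have h := CfsgLib.FieldEmb.mem_isometryGroup.1 hg (Sum.elim 0 w)
  rw [hW] at h
  simpa [hypForm_apply, GeneralLinearGroup.mkOfDetNeZero] using h

/-- `O` is transitive on hyperbolic pairs. -/
theorem exists_map_pair (hQ : (QuadraticMap.polarBilin Q).Nondegenerate) {a b : Fin 2 ⊕ κ → F}
    (ha : hypForm Q a = 0) (hb : hypForm Q b = 0)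
    (hab : QuadraticMap.polar (⇑(hypForm Q)) a b = 1) :
    ∃ g : Cfsg.isometryGroup F ⇑(hypForm Q), g.1.1 *ᵥ ve = a ∧ g.1.1 *ᵥ vf = b := by
  have hli : ∀ {a b : Fin 2 ⊕ κ → F}, hypForm Q a = 0 → hypForm Q b = 0 →
      QuadraticMap.polar (⇑(hypForm Q)) a b = 1 → LinearIndependent F ![a, b] := by
    intro a b ha hb hab
    rw [LinearIndependent.pair_iff]
    intro s t hst
    have h1 := congrArg (fun z => QuadraticMap.polar (⇑(hypForm Q)) z b) hst
    have h2 := congrArg (fun z => QuadraticMap.polar (⇑(hypForm Q)) a z) hst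
    simp only [QuadraticMap.polar_add_left, QuadraticMap.polar_add_right,
      QuadraticMap.polar_smul_left, QuadraticMap.polar_smul_right, QuadraticMap.polar_self, ha, hb,
      hab, QuadraticMap.polar_zero_left, QuadraticMap.polar_zero_right] at h1 h2
    simp at h1 h2
    exact ⟨h1, h2⟩
  have hQ1 : hypForm Q ve = 0 := by simp [hypForm_apply]
  have hQ2 : hypForm Q vf = 0 := by simp [hypForm_apply]
  have hp : QuadraticMap.polar (⇑(hypForm Q)) ve vf = 1 := by simp [(polar_pair Q _).2]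
  have l1 := hli hQ1 hQ2 hp
  have l2 := hli ha hb hab
  have hco : ∀ {a b : Fin 2 ⊕ κ → F} (l : LinearIndependent F ![a, b]) (c : Fin 2 →₀ F),
      (l.linearCombinationEquiv c : Fin 2 ⊕ κ → F) = c 0 • a + c 1 • b := by
    intro a b l c
    rw [LinearIndependent.linearCombinationEquiv_apply_coe, Finsupp.linearCombination_apply,
      Finsupp.sum_fintype _ _ (by simp), Fin.sum_univ_two]
    rfl
  obtain ⟨g, hg, hgX⟩ := CfsgLib.Forms.witt_quadratic (hypForm Q) (hypForm_nondegenerate Q hQ)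
    _ _ (l1.linearCombinationEquiv.symm.trans l2.linearCombinationEquiv) (fun x => by
      obtain ⟨c, rfl⟩ := l1.linearCombinationEquiv.surjective x
      rw [LinearEquiv.trans_apply, LinearEquiv.symm_apply_apply, hco l1, hco l2,
        QuadraticMap.map_add (⇑(hypForm Q)), QuadraticMap.map_add (⇑(hypForm Q)) (c 0 • ve)]
      simp only [QuadraticMap.map_smul, QuadraticMap.polar_smul_left, QuadraticMap.polar_smul_right,
        hQ1, hQ2, hp, ha, hb, hab])
  have hdet : (LinearMap.toMatrix' g.toLinearMap).det ≠ 0 := by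
    rw [LinearMap.det_toMatrix']; exact (LinearEquiv.isUnit_det' g).ne_zero
  refine ⟨⟨GeneralLinearGroup.mkOfDetNeZero _ hdet, CfsgLib.FieldEmb.mem_isometryGroup.2 fun v => ?_⟩,
    ?_, ?_⟩
  · show hypForm Q (LinearMap.toMatrix' g.toLinearMap *ᵥ v) = _
    rw [LinearMap.toMatrix'_mulVec]
    exact hg v
  · show LinearMap.toMatrix' g.toLinearMap *ᵥ ve = a
    rw [LinearMap.toMatrix'_mulVec]
    have h := hgX (l1.linearCombinationEquiv (Finsupp.single 0 1))
    rw [LinearEquiv.trans_apply, LinearEquiv.symm_apply_apply, hco l1, hco l2] at h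
    simpa using h
  · show LinearMap.toMatrix' g.toLinearMap *ᵥ vf = b
    rw [LinearMap.toMatrix'_mulVec]
    have h := hgX (l1.linearCombinationEquiv (Finsupp.single 1 1))
    rw [LinearEquiv.trans_apply, LinearEquiv.symm_apply_apply, hco l1, hco l2] at h
    simpa using h

/-- Number of hyperbolic partners of a singular vector, times `q²`. -/
theorem card_partners_mul [Fintype F] {V : Type*} [AddCommGroup V] [Module F V]
    (Φ : QuadraticForm F V) {a b : V} (ha : Φ a = 0) (hab : QuadraticMap.polar (⇑Φ) a b = 1) :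
    Fintype.card F * (Fintype.card F *
      Nat.card {x // Φ x = 0 ∧ QuadraticMap.polar (⇑Φ) a x = 1}) = Nat.card V := by
  have haa : QuadraticMap.polar (⇑Φ) a a = 0 := by rw [QuadraticMap.polar_self, ha]; simp
  let e1 : F × {x // Φ x = 0 ∧ QuadraticMap.polar (⇑Φ) a x = 1} ≃
      {x // QuadraticMap.polar (⇑Φ) a x = 1} :=
    { toFun := fun p => ⟨p.2.1 + p.1 • a, by
        rw [QuadraticMap.polar_add_right, QuadraticMap.polar_smul_right, p.2.2.2, haa]; simp⟩
      invFun := fun x => (Φ x.1, ⟨x.1 + (-Φ x.1) • a, by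
        rw [QuadraticMap.map_add (⇑Φ), QuadraticMap.map_smul, ha, QuadraticMap.polar_smul_right,
          QuadraticMap.polar_comm (⇑Φ) x.1 a, x.2]
        simp, by
        rw [QuadraticMap.polar_add_right, QuadraticMap.polar_smul_right, x.2, haa]; simp⟩)
      left_inv := fun p => by
        obtain ⟨t, x, hx, hx'⟩ := p
        have h : Φ (x + t • a) = t := by
          rw [QuadraticMap.map_add (⇑Φ), QuadraticMap.map_smul, ha, QuadraticMap.polar_smul_right,
            QuadraticMap.polar_comm (⇑Φ) x a, hx', hx]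
          simp
        refine Prod.ext h (Subtype.ext ?_)
        simp only [h]
        module
      right_inv := fun x => Subtype.ext (by simp only; module) }
  let e2 : F × {x // QuadraticMap.polar (⇑Φ) a x = 1} ≃ V :=
    { toFun := fun p => p.2.1 + p.1 • b
      invFun := fun x => (QuadraticMap.polar (⇑Φ) a x - 1,
        ⟨x + (-(QuadraticMap.polar (⇑Φ) a x - 1)) • b, by
          rw [QuadraticMap.polar_add_right, QuadraticMap.polar_smul_right, hab]; simp⟩)
      left_inv := fun p => by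
        obtain ⟨t, x, hx⟩ := p
        have h : QuadraticMap.polar (⇑Φ) a (x + t • b) - 1 = t := by
          rw [QuadraticMap.polar_add_right, QuadraticMap.polar_smul_right, hab, hx]; simp
        refine Prod.ext h (Subtype.ext ?_)
        simp only [h]
        module
      right_inv := fun x => by simp only; module }
  rw [← Nat.card_congr e2, Nat.card_prod, ← Nat.card_congr e1, Nat.card_prod,
    Nat.card_eq_fintype_card (α := F)]

/-- `|O(H ⊥ Q)| = (Z - 1) q^k |O(Q)|`. -/
theorem card_isometryGroup_hyp [Fintype F] (hQ : (QuadraticMap.polarBilin Q).Nondegenerate) :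
    Nat.card (Cfsg.isometryGroup F ⇑(hypForm Q)) =
      (Nat.card {v // hypForm Q v = 0} - 1) * Fintype.card F ^ Fintype.card κ *
        Nat.card (Cfsg.isometryGroup F ⇑Q) := by
  classical
  let P := Σ a : {v : Fin 2 ⊕ κ → F // hypForm Q v = 0 ∧ v ≠ 0},
    {x // hypForm Q x = 0 ∧ QuadraticMap.polar (⇑(hypForm Q)) a.1 x = 1}
  choose g hg1 hg2 using fun p : P => exists_map_pair Q hQ p.1.2.1 p.2.2.1 p.2.2.2
  have hmem : ∀ h : Cfsg.isometryGroup F ⇑Q,
      Units.map (blockEmb (F := F) (κ := κ)) h.1 ∈ Cfsg.isometryGroup F ⇑(hypForm Q) := fun h =>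
    CfsgLib.FieldEmb.mem_isometryGroup.2 fun v => by
      show hypForm Q (blockEmb h.1.1 *ᵥ v) = _
      rw [blockEmb_mulVec]
      simp [hypForm_apply, CfsgLib.FieldEmb.mem_isometryGroup.1 h.2]
  have hfix : ∀ (h : Cfsg.isometryGroup F ⇑Q) (c : Fin 2 → F),
      (Units.map (blockEmb (F := F) (κ := κ)) h.1).1 *ᵥ Sum.elim c 0 = Sum.elim c 0 := fun h c => by
    show blockEmb h.1.1 *ᵥ _ = _
    rw [blockEmb_mulVec]
    simp
  let Φ : P × Cfsg.isometryGroup F ⇑Q → Cfsg.isometryGroup F ⇑(hypForm Q) :=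
    fun x => g x.1 * ⟨_, hmem x.2⟩
  have hΦ : Function.Bijective Φ := by
    have hval : ∀ x c, (Φ x).1.1 *ᵥ Sum.elim c 0 = (g x.1).1.1 *ᵥ Sum.elim c 0 := fun x c => by
      show ((g x.1).1.1 * (Units.map (blockEmb (F := F) (κ := κ)) x.2.1).1) *ᵥ _ = _
      rw [← Matrix.mulVec_mulVec, hfix]
    refine ⟨?_, fun y => ?_⟩
    · rintro ⟨p, h⟩ ⟨p', h'⟩ e
      have h1 := hval ⟨p, h⟩ ![1, 0]
      have h2 := hval ⟨p, h⟩ ![0, 1]
      rw [e, hval, hg1, hg1] at h1
      rw [e, hval, hg2, hg2] at h2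
      obtain ⟨⟨a, ha⟩, b, hb⟩ := p
      obtain ⟨⟨a', ha'⟩, b', hb'⟩ := p'
      simp only at h1 h2
      subst h1 h2
      have e2 := mul_left_cancel e
      have e3 : (Units.map (blockEmb (F := F) (κ := κ)) h.1).1 =
          (Units.map (blockEmb (F := F) (κ := κ)) h'.1).1 := congrArg (fun z => z.1.1) e2
      exact Prod.ext rfl (Subtype.ext (Units.ext (Matrix.fromBlocks_inj.1 e3).2.2.2))
    · have hy := CfsgLib.FieldEmb.mem_isometryGroup.1 y.2
      have h0 : y.1.1 *ᵥ ve ≠ 0 := fun h0 => by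
        have := polar_map Q y.2 ve vf
        rw [h0, QuadraticMap.polar_zero_left, (polar_pair Q _).2] at this
        simp at this
      let p : P := ⟨⟨y.1.1 *ᵥ ve, by rw [hy]; simp [hypForm_apply], h0⟩,
        ⟨y.1.1 *ᵥ vf, by rw [hy]; simp [hypForm_apply], by
          rw [polar_map Q y.2, (polar_pair Q _).2]; simp⟩⟩
      obtain ⟨h, hh⟩ := exists_eq_blockEmb Q ((g p)⁻¹ * y).2
        (by show (((g p)⁻¹).1.1 * y.1.1) *ᵥ ve = ve
            rw [← Matrix.mulVec_mulVec, show y.1.1 *ᵥ ve = (g p).1.1 *ᵥ ve from (hg1 p).symm,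
              Matrix.mulVec_mulVec, ← Units.val_mul, ← Subgroup.coe_mul, inv_mul_cancel]
            simp)
        (by show (((g p)⁻¹).1.1 * y.1.1) *ᵥ vf = vf
            rw [← Matrix.mulVec_mulVec, show y.1.1 *ᵥ vf = (g p).1.1 *ᵥ vf from (hg2 p).symm,
              Matrix.mulVec_mulVec, ← Units.val_mul, ← Subgroup.coe_mul, inv_mul_cancel]
            simp)
      refine ⟨(p, h), ?_⟩
      show g p * ⟨_, hmem h⟩ = y
      rw [← mul_inv_cancel_left (g p) y]
      congr 1
      exact Subtype.ext hh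
  rw [← Nat.card_congr (Equiv.ofBijective Φ hΦ), Nat.card_prod]
  congr 1
  have hpart : ∀ a : {v : Fin 2 ⊕ κ → F // hypForm Q v = 0 ∧ v ≠ 0},
      Nat.card {x // hypForm Q x = 0 ∧ QuadraticMap.polar (⇑(hypForm Q)) a.1 x = 1} =
        Fintype.card F ^ Fintype.card κ := fun a => by
    obtain ⟨z, hz⟩ : ∃ z, QuadraticMap.polar (⇑(hypForm Q)) a.1 z ≠ 0 := by
      by_contra! h
      exact a.2.2 ((hypForm_nondegenerate Q hQ).1 _ h)
    have h := card_partners_mul (hypForm Q) a.2.1
      (b := (QuadraticMap.polar (⇑(hypForm Q)) a.1 z)⁻¹ • z)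
      (by rw [QuadraticMap.polar_smul_right, smul_eq_mul, inv_mul_cancel₀ hz])
    rw [Nat.card_eq_fintype_card (α := Fin 2 ⊕ κ → F), Fintype.card_pi, Finset.prod_const,
      Finset.card_univ, Fintype.card_sum, Fintype.card_fin, pow_add, pow_two, mul_assoc] at h
    exact Nat.eq_of_mul_eq_mul_left Fintype.card_pos (Nat.eq_of_mul_eq_mul_left Fintype.card_pos h)
  rw [Nat.card_sigma, Finset.sum_congr rfl fun a _ => hpart a, Finset.sum_const, Finset.card_univ,
    smul_eq_mul, ← Nat.card_eq_fintype_card]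
  congr 1
  have hrel : Nat.card {v : Fin 2 ⊕ κ → F // hypForm Q v = 0 ∧ v ≠ 0} + 1 =
      Nat.card {v : Fin 2 ⊕ κ → F // hypForm Q v = 0} := by
    rw [Nat.card_eq_fintype_card, Nat.card_eq_fintype_card, Fintype.card_subtype, Fintype.card_subtype,
      ← Finset.filter_filter, Finset.filter_ne',
      Finset.card_erase_add_one (show (0 : Fin 2 ⊕ κ → F) ∈ Finset.univ.filter (fun x => hypForm Q x = 0)
        from Finset.mem_filter.2 ⟨Finset.mem_univ _, QuadraticMap.map_zero _⟩)]
  omega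

end hyperbolic

end CfsgLib.Forms4
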