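import Cfsg.Agent.Forms4.UnitaryCenter
import Cfsg.Agent.Linear.Basic

/-!
# `SU₂(q) ≅ SL₂(q)`
-/

set_option autoImplicit false

open Matrix CfsgLib.Forms

namespace CfsgLib.Forms4

variable {F K : Type*} [Field F] [Fintype F] [Field K] [Fintype K] {q : ℕ}

theorem nonempty_SU_two_equiv (hF : Fintype.card F = q ^ 2) (hK : Fintype.card K = q) :
    Nonempty (Cfsg.SU 2 F q ≃* Matrix.SpecialLinearGroup (Fin 2) K) := by
  classical
  obtain ⟨ι⟩ := CfsgLib.FieldEmb.exists_ringHom (n := 2) (by norm_num) hK hF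
  obtain ⟨σ, hσ, hσ2⟩ := CfsgLib.FieldEmb.exists_conj hF
  have hfix : ∀ y, σ (ι y) = ι y := fun y => by rw [hσ, ← map_pow, ← hK, FiniteField.pow_card]
  obtain ⟨x, hx⟩ : ∃ x, σ x ≠ x := by
    by_contra! h
    have hsurj : Function.Surjective ι := fun y =>
      (CfsgLib.FieldEmb.mem_range_iff ι hK y).2 (by rw [← hσ]; exact h y)
    have := Fintype.card_le_of_surjective ι hsurj
    rw [hF, hK] at this
    have h2 : 1 < q := hK ▸ Fintype.one_lt_card
    nlinarith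
  have hσ1 : σ ≠ RingHom.id F := fun h => hx (by rw [h]; rfl)
  set d := x - σ x with hd
  have hd0 : d ≠ 0 := sub_ne_zero.2 (Ne.symm hx)
  have hσd : σ d = -d := by rw [hd, map_sub, hσ2]; ring
  set c := -(d * d) with hc
  have hc0 : c ≠ 0 := neg_ne_zero.2 (mul_ne_zero hd0 hd0)
  have hσc : σ c = c := by rw [hc, map_neg, map_mul, hσd]; ring
  obtain ⟨s, hs⟩ := exists_mul_involution_eq hσ1 hσ2 (c := c⁻¹) (by rw [map_inv₀, hσc])
  obtain ⟨t, ht⟩ := exists_mul_involution_eq hσ1 hσ2 (c := -c⁻¹) (by rw [map_neg, map_inv₀, hσc])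
  let P : Matrix (Fin 2) (Fin 2) F := !![s, t; s * x, t * σ x]
  have hPdet : P.det ≠ 0 := by
    rw [Matrix.det_fin_two_of]
    have : s * (t * σ x) - t * (s * x) = -(s * t * d) := by rw [hd]; ring
    rw [this]
    refine neg_ne_zero.2 (mul_ne_zero (mul_ne_zero ?_ ?_) hd0) <;> rintro rfl
    · simp at hs; exact hc0 hs.symm
    · simp at ht; exact hc0 ht
  let Pu : GL (Fin 2) F := GeneralLinearGroup.mkOfDetNeZero P hPdet
  let h : (Fin 2 → F) → (Fin 2 → F) → F := fun a b => d * (a 0 * σ (b 1) - a 1 * σ (b 0))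
  have key : ∀ u v, Cfsg.hermForm 2 F q u v = h (P *ᵥ u) (P *ᵥ v) := by
    intro u v
    have h1 : c * c⁻¹ = 1 := mul_inv_cancel₀ hc0
    simp only [Cfsg.hermForm, Fin.sum_univ_two, ← hσ, h, P]
    simp [Matrix.mulVec, vecHead, vecTail, hσ2]
    rw [hc, hd] at *
    linear_combination
      (u 0 * σ (v 0) * ((x - σ x) * (x - σ x))) * hs -
      (u 1 * σ (v 1) * ((x - σ x) * (x - σ x))) * ht -
      (u 0 * σ (v 0) + u 1 * σ (v 1)) * h1
  have hinv : ∀ (G : Matrix (Fin 2) (Fin 2) K), G.det = 1 →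
      ∀ a b, h (G.map ι *ᵥ a) (G.map ι *ᵥ b) = h a b := by
    intro G hG a b
    have hG' : ι (G 0 0) * ι (G 1 1) - ι (G 0 1) * ι (G 1 0) = 1 := by
      rw [← map_mul, ← map_mul, ← map_sub, ← Matrix.det_fin_two, hG, map_one]
    simp [h, hfix]
    left
    linear_combination (a 0 * σ (b 1) - a 1 * σ (b 0)) * hG'
  have hmem : ∀ G : Matrix.SpecialLinearGroup (Fin 2) K,
      ((Pu⁻¹).1 * G.1.map ι * Pu.1).det = 1 := by
    intro G
    have hG : (G.1.map ι).det = 1 := by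
      rw [← RingHom.mapMatrix_apply, ← RingHom.map_det, G.2, map_one]
    rw [Matrix.det_mul, Matrix.det_mul, hG, mul_one, ← Matrix.det_mul, ← Units.val_mul,
      inv_mul_cancel, Units.val_one, Matrix.det_one]
  have hSU : ∀ G : Matrix.SpecialLinearGroup (Fin 2) K,
      (⟨_, hmem G⟩ : Matrix.SpecialLinearGroup (Fin 2) F) ∈ Cfsg.SU 2 F q := by
    intro G
    refine mem_SU_iff.2 ?_
    intro u v
    change Cfsg.hermForm 2 F q (((Pu⁻¹).1 * G.1.map ι * Pu.1) *ᵥ u)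
      (((Pu⁻¹).1 * G.1.map ι * Pu.1) *ᵥ v) = _
    rw [key, key, Matrix.mulVec_mulVec, Matrix.mulVec_mulVec, ← mul_assoc, ← mul_assoc]
    change h ((Pu.1 * (Pu⁻¹).1 * G.1.map ι * P) *ᵥ u) ((Pu.1 * (Pu⁻¹).1 * G.1.map ι * P) *ᵥ v) = _
    rw [← Units.val_mul, mul_inv_cancel, Units.val_one, one_mul, ← Matrix.mulVec_mulVec,
      ← Matrix.mulVec_mulVec, hinv G.1 G.2]
  let φ : Matrix.SpecialLinearGroup (Fin 2) K →* Cfsg.SU 2 F q :=
    MonoidHom.mk' (fun G => ⟨_, hSU G⟩) (fun G H => by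
      apply Subtype.ext
      apply Subtype.ext
      change (Pu⁻¹).1 * (G.1 * H.1).map ι * Pu.1 =
        ((Pu⁻¹).1 * G.1.map ι * Pu.1) * ((Pu⁻¹).1 * H.1.map ι * Pu.1)
      rw [Matrix.map_mul]
      simp only [mul_assoc]
      congr 2
      rw [← mul_assoc Pu.1, ← Units.val_mul, mul_inv_cancel, Units.val_one, one_mul])
  have hinj : Function.Injective φ := by
    intro G H e
    have e' : (Pu⁻¹).1 * G.1.map ι * Pu.1 = (Pu⁻¹).1 * H.1.map ι * Pu.1 :=
      congrArg (fun z => z.1.1) e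
    rw [Units.mul_left_inj, Units.mul_right_inj] at e'
    exact Subtype.ext (Matrix.map_injective ι.injective e')
  have hcard : Nat.card (Cfsg.SU 2 F q) = Nat.card (Matrix.SpecialLinearGroup (Fin 2) K) := by
    have hq : 1 < q := hK ▸ Fintype.one_lt_card
    have h1 := card_SU_mul_GU hF (n := 2) (by norm_num)
    rw [card_GU hF 2] at h1
    simp [Finset.prod_range_succ, Finset.sum_range_succ, u] at h1
    rw [CfsgLib.Linear.card_SL_two, hK]
    refine Nat.eq_of_mul_eq_mul_left (n := q + 1) (by omega) ?_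
    rw [Nat.card_eq_fintype_card, h1]
    ring
  have : Finite (Cfsg.SU 2 F q) := inferInstance
  exact ⟨(MulEquiv.ofBijective φ
    ((Nat.bijective_iff_injective_and_card _).2 ⟨hinj, hcard.symm⟩)).symm⟩

end CfsgLib.Forms4
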